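import Cfsg.Agent.Lib.RealChar.ZassenhausBasic
import Cfsg.Agent.Lib.AltGroups.ZassenhausBasic
import Cfsg.Agent.Lib.Frobenius.Kernel
import Cfsg.Agent.Lib.Cores.FPF
import Mathlib.GroupTheory.SpecificGroups.ZGroup

/-!
# Simple Zassenhaus groups with two-point stabilisers of odd order

The two-point stabiliser is cyclic and inverted by every element swapping the two points.
-/

set_option autoImplicit false
set_option linter.unusedSectionVars false
set_option linter.style.haveILetI false

open MulAction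

namespace CfsgLib.RealChar.Zassenhaus

variable {G Ω : Type*} [Group G] [MulAction G Ω] [Finite G] [Fintype Ω]
variable (hZ : Cfsg.IsZassenhausGroup G Ω)

include hZ

theorem fix_two {g : G} (hg : g ≠ 1) {a b c : Ω} (hab : a ≠ b) (ha : g • a = a) (hb : g • b = b)
    (hc : g • c = c) : c = a ∨ c = b := by
  by_contra h
  push Not at h
  exact hg (three_fixed hZ hab h.2.symm h.1.symm ha hb hc)

theorem exists_kernel_subgroup (a : Ω) : ∃ H : Subgroup G, H ≤ stabilizer G a ∧
    Nat.card H + 1 = Fintype.card Ω ∧ ∀ u ∈ H, u ≠ 1 → ∀ c : Ω, u • c = c → c = a := by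
  classical
  obtain ⟨b, hba, -⟩ := exists_third hZ a a
  have hab : a ≠ b := hba.symm
  set E := (stabilizer G a ⊓ stabilizer G b).subgroupOf (stabilizer G a) with hE
  have hmem : ∀ x : stabilizer G a, x ∈ E ↔ (x : G) • b = b := fun x =>
    ⟨fun h => (Subgroup.mem_subgroupOf.mp h).2, fun h => Subgroup.mem_subgroupOf.mpr ⟨x.2, h⟩⟩
  have hcE : Nat.card E = Nat.card (stabilizer G a ⊓ stabilizer G b : Subgroup G) :=
    Nat.card_congr (Subgroup.subgroupOfEquivOfLe inf_le_left).toEquiv
  have h3 := three_le_card hZ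
  have hcard := card_stab hZ hab
  have hfc : Cfsg.IsFrobeniusComplement E := by
    refine ⟨?_, ?_, ?_⟩
    · obtain ⟨x, hx1, hxa, hxb⟩ := exists_ne_one_fix hZ hab
      intro h
      have h' : (⟨x, hxa⟩ : stabilizer G a) ∈ E := (hmem _).mpr hxb
      rw [h, Subgroup.mem_bot] at h'
      exact hx1 (congrArg Subtype.val h')
    · intro h
      have h1 : Nat.card E = Nat.card (stabilizer G a) := by rw [h, Subgroup.card_top]
      rw [hcE, hcard] at h1
      have hpos : 0 < Nat.card (stabilizer G a ⊓ stabilizer G b : Subgroup G) := Nat.card_pos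
      have h2 := Nat.eq_of_mul_eq_mul_right hpos (h1.symm.trans (one_mul _).symm)
      omega
    · intro g hg
      rw [Subgroup.eq_bot_iff_forall]
      rintro x ⟨hx, y, hy, hyx⟩
      have hyx' : g * y * g⁻¹ = x := hyx
      refine Subtype.ext (by_contra fun hx1 => hg ((hmem g).mpr ?_))
      have hxgb : (x : G) • (g : G) • b = (g : G) • b := by
        rw [← hyx', Subgroup.coe_mul, Subgroup.coe_mul, InvMemClass.coe_inv, mul_smul, mul_smul,
          inv_smul_smul, (hmem y).mp hy]
      rcases fix_two hZ hx1 hab x.2 ((hmem x).mp hx) hxgb with h | h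
      · exact absurd ((MulAction.injective (g : G)) (h.trans g.2.symm)) hba
      · exact h
  obtain ⟨N, hNset, -, hcompl⟩ := CfsgLib.Frobenius.exists_kernel hfc
  refine ⟨N.map (stabilizer G a).subtype, Subgroup.map_subtype_le N, ?_, ?_⟩
  · rw [Subgroup.card_subtype]
    have h1 := hcompl.card_mul
    rw [hcE, hcard] at h1
    have h2 := Nat.eq_of_mul_eq_mul_right Nat.card_pos h1
    omega
  · rintro _ ⟨u, hu, rfl⟩ hu1 c hc
    by_contra hca
    have hu' : u ∈ (N : Set (stabilizer G a)) := hu
    rw [hNset] at hu'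
    rcases hu' with h | h
    · exact hu1 (by rw [h]; rfl)
    obtain ⟨t, hta, htb⟩ := two_trans hZ hab (Ne.symm hca)
    refine h ⟨t, hta⟩ ⟨⟨t, hta⟩⁻¹ * u * ⟨t, hta⟩, (hmem _).mpr ?_, ?_⟩
    · show (t⁻¹ * (u : G) * t) • b = b
      have hc' : (u : G) • c = c := hc
      rw [mul_smul, mul_smul, htb, hc', ← htb, inv_smul_smul]
    · show ⟨t, hta⟩ * (⟨t, hta⟩⁻¹ * u * ⟨t, hta⟩) * ⟨t, hta⟩⁻¹ = u
      group

/-- `|G_{a,b}|` divides `|Ω| - 2`. -/
theorem card_E_dvd {a b : Ω} (hab : a ≠ b) :
    Nat.card (stabilizer G a ⊓ stabilizer G b : Subgroup G) ∣ Fintype.card Ω - 2 := by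
  classical
  let β : SubMulAction (stabilizer G a ⊓ stabilizer G b : Subgroup G) Ω :=
    { carrier := {c | c ≠ a ∧ c ≠ b}
      smul_mem' := fun g c hc =>
        ⟨fun h => hc.1 (MulAction.injective (g : G) (show (g : G) • c = (g : G) • a from
            h.trans (show (g : G) • a = a from g.2.1).symm)),
          fun h => hc.2 (MulAction.injective (g : G) (show (g : G) • c = (g : G) • b from
            h.trans (show (g : G) • b = b from g.2.2).symm))⟩ }
  have hdvd := CfsgLib.AltGroups.dvd_card_of_card_stabilizer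
    (K := (stabilizer G a ⊓ stabilizer G b : Subgroup G)) (β := β) (m := 1)
    (r := Nat.card (stabilizer G a ⊓ stabilizer G b : Subgroup G)) (one_mul _).symm fun z => by
      rw [Subgroup.card_eq_one, Subgroup.eq_bot_iff_forall]
      intro g hg
      exact Subtype.ext (three_fixed hZ hab z.2.2.symm z.2.1.symm g.2.1 g.2.2
        (congrArg Subtype.val (show g • z = z from hg)))
  have hcard : Nat.card β = Fintype.card Ω - 2 := by
    rw [Nat.card_eq_fintype_card]
    have : Fintype.card β = ((Finset.univ.erase a).erase b).card :=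
      Fintype.card_of_subtype _ fun c => by
        show _ ↔ c ≠ a ∧ c ≠ b
        simp [and_comm]
    rw [this, Finset.card_erase_of_mem (Finset.mem_erase.mpr ⟨hab.symm, Finset.mem_univ _⟩),
      Finset.card_erase_of_mem (Finset.mem_univ _), Finset.card_univ]
    omega
  rwa [hcard] at hdvd

/-- For odd order, `G_{a,b}` is a Hall subgroup. -/
theorem coprime_card_index {a b : Ω} (hab : a ≠ b)
    (hodd : Odd (Nat.card (stabilizer G a ⊓ stabilizer G b : Subgroup G))) :
    Nat.Coprime (Nat.card (stabilizer G a ⊓ stabilizer G b : Subgroup G))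
      (stabilizer G a ⊓ stabilizer G b : Subgroup G).index := by
  set e := Nat.card (stabilizer G a ⊓ stabilizer G b : Subgroup G) with he
  have h3 := three_le_card hZ
  have hG := card_group hZ hab
  rw [← (stabilizer G a ⊓ stabilizer G b : Subgroup G).index_mul_card, ← he, ← mul_assoc] at hG
  have hepos : 0 < e := Nat.card_pos
  rw [Nat.eq_of_mul_eq_mul_right hepos hG]
  have hdvd : e ∣ Fintype.card Ω - 2 := card_E_dvd hZ hab
  refine Nat.Coprime.mul_right ?_ ?_
  · have h1 : Nat.gcd e (Fintype.card Ω) ∣ 2 := by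
      have h := Nat.dvd_sub (Nat.gcd_dvd_right e (Fintype.card Ω))
        ((Nat.gcd_dvd_left e _).trans hdvd)
      rwa [show Fintype.card Ω - (Fintype.card Ω - 2) = 2 by omega] at h
    rcases (Nat.dvd_prime Nat.prime_two).mp h1 with h | h
    · exact h
    · have h2 := h ▸ Nat.gcd_dvd_left e (Fintype.card Ω)
      exact absurd (even_iff_two_dvd.mpr h2) (Nat.not_even_iff_odd.mpr hodd)
  · refine Nat.dvd_one.mp ?_
    have h := Nat.dvd_sub (Nat.gcd_dvd_right e (Fintype.card Ω - 1))
      ((Nat.gcd_dvd_left e _).trans hdvd)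
    rwa [show Fintype.card Ω - 1 - (Fintype.card Ω - 2) = 1 by omega] at h

/-- Elements of `G_{a,b}` conjugate in `G` are conjugate by an element fixing `{a, b}`. -/
theorem fusion {a b : Ω} (hab : a ≠ b) {x g : G} (hx1 : x ≠ 1) (hxa : x • a = a) (hxb : x • b = b)
    (ha : (g * x * g⁻¹) • a = a) (hb : (g * x * g⁻¹) • b = b) :
    (g • a = a ∧ g • b = b) ∨ (g • a = b ∧ g • b = a) := by
  have hy1 : g * x * g⁻¹ ≠ 1 := fun h => hx1 (conj_eq_one_iff.mp h)
  have hga : (g * x * g⁻¹) • g • a = g • a := by rw [mul_smul, mul_smul, inv_smul_smul, hxa]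
  have hgb : (g * x * g⁻¹) • g • b = g • b := by rw [mul_smul, mul_smul, inv_smul_smul, hxb]
  have hne : g • a ≠ g • b := fun h => hab (MulAction.injective g h)
  rcases fix_two hZ hy1 hab ha hb hga with h1 | h1 <;>
    rcases fix_two hZ hy1 hab ha hb hgb with h2 | h2
  · exact absurd (h1.trans h2.symm) hne
  · exact Or.inl ⟨h1, h2⟩
  · exact Or.inr ⟨h1, h2⟩
  · exact absurd (h1.trans h2.symm) hne

omit hZ in
theorem mul_comm_false_of_simple [IsSimpleGroup G] (hcomm : ∀ x y : G, x * y = y * x) {m k : ℕ}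
    (hm : 1 < m) (hk : 1 < k) : Nat.card G ≠ m * k := by
  letI : CommGroup G := { (inferInstance : Group G) with mul_comm := hcomm }
  haveI : IsSimpleGroup G := inferInstance
  intro h
  exact Nat.not_prime_mul hm.ne' hk.ne' (h ▸ IsSimpleGroup.prime_card)

theorem not_comm [IsSimpleGroup G] {a b : Ω} (hab : a ≠ b) : ¬ ∀ x y : G, x * y = y * x := by
  intro hcomm
  have h3 := three_le_card hZ
  refine mul_comm_false_of_simple hcomm (m := Fintype.card Ω)
    (k := (Fintype.card Ω - 1) * Nat.card (stabilizer G a ⊓ stabilizer G b : Subgroup G))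
    (by omega) ?_ (card_group hZ hab)
  have : 0 < Nat.card (stabilizer G a ⊓ stabilizer G b : Subgroup G) := Nat.card_pos
  nlinarith [show 2 ≤ Fintype.card Ω - 1 by omega]

/-- A homomorphism of `G_{a,b}` to an abelian group that respects fusion is trivial. -/
theorem hom_eq_one [IsSimpleGroup G] {a b : Ω} (hab : a ≠ b)
    (hodd : Odd (Nat.card (stabilizer G a ⊓ stabilizer G b : Subgroup G))) {A : Type*} [CommGroup A]
    (φ : (stabilizer G a ⊓ stabilizer G b : Subgroup G) →* A)
    (hφ : ∀ (g : G) (x y : (stabilizer G a ⊓ stabilizer G b : Subgroup G)),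
      ((g • a = a ∧ g • b = b) ∨ (g • a = b ∧ g • b = a)) → (y : G) = g * x * g⁻¹ → φ y = φ x)
    (x : (stabilizer G a ⊓ stabilizer G b : Subgroup G)) : φ x = 1 := by
  classical
  haveI : (stabilizer G a ⊓ stabilizer G b : Subgroup G).FiniteIndex := ⟨Subgroup.index_ne_zero_of_finite⟩
  have hfus : ∀ (g : G) (x y : (stabilizer G a ⊓ stabilizer G b : Subgroup G)), (y : G) = g * x * g⁻¹ → φ y = φ x := by
    intro g x y hy
    rcases eq_or_ne (x : G) 1 with h1 | h1
    · have hx : x = 1 := Subtype.ext h1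
      have hy' : y = 1 := Subtype.ext (by rw [hy, h1]; simp)
      rw [hx, hy']
    · exact hφ g x y (fusion hZ hab h1 x.2.1 x.2.2 (hy ▸ y.2.1) (hy ▸ y.2.2)) hy
  have htr : MonoidHom.transfer φ = 1 := by
    rcases (MonoidHom.normal_ker (MonoidHom.transfer φ)).eq_bot_or_eq_top with h | h
    · exfalso
      refine not_comm hZ hab fun u v => (MonoidHom.ker_eq_bot_iff _).mp h ?_
      rw [map_mul, map_mul, mul_comm]
    · exact MonoidHom.ext fun g => MonoidHom.mem_ker.mp (h ▸ Subgroup.mem_top g)
  have hpow : φ x ^ (stabilizer G a ⊓ stabilizer G b : Subgroup G).index = 1 := by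
    letI := Subgroup.fintypeQuotientOfFiniteIndex (H := (stabilizer G a ⊓ stabilizer G b : Subgroup G))
    haveI := Fintype.ofFinite (Quotient (orbitRel (Subgroup.zpowers (x : G)) (G ⧸ (stabilizer G a ⊓ stabilizer G b : Subgroup G))))
    rw [← MonoidHom.one_apply (M := G) (N := A) (x : G), ← htr,
      MonoidHom.transfer_eq_prod_quotient_orbitRel_zpowers_quot,
      Subgroup.index_eq_sum_minimalPeriod (stabilizer G a ⊓ stabilizer G b : Subgroup G) (x : G), ← Finset.prod_pow_eq_pow_sum]
    refine Finset.prod_congr rfl fun q _ => ?_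
    rw [← map_pow]
    refine (hfus (Quotient.out q.out)⁻¹ (x ^ _) _ ?_).symm
    rw [SubgroupClass.coe_pow]
    show (Quotient.out q.out)⁻¹ * (x : G) ^ _ * Quotient.out q.out = _
    rw [inv_inv]
  have hord : φ x ^ Nat.card (stabilizer G a ⊓ stabilizer G b : Subgroup G) = 1 := by rw [← map_pow, pow_card_eq_one', map_one]
  have h : φ x ^ Nat.gcd _ _ = 1 := pow_gcd_eq_one.mpr ⟨hord, hpow⟩
  rwa [coprime_card_index hZ hab hodd, pow_one] at h

/-- `G_{a,b}` is a Z-group when it has odd order. -/
theorem isZGroup_E {a b : Ω} (hab : a ≠ b)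
    (hodd : Odd (Nat.card (stabilizer G a ⊓ stabilizer G b : Subgroup G))) :
    IsZGroup (stabilizer G a ⊓ stabilizer G b : Subgroup G) := by
  classical
  set E := (stabilizer G a ⊓ stabilizer G b : Subgroup G) with hE
  obtain ⟨H, hHa, hHcard, hHfix⟩ := exists_kernel_subgroup hZ a
  have hH : H ≠ ⊥ := fun h => by
    have h3 := three_le_card hZ
    rw [h, Subgroup.card_bot] at hHcard
    omega
  refine ⟨fun q hq Q => ?_⟩
  haveI := Fact.mk hq
  set R := (Q : Subgroup E).map E.subtype with hR
  have hRE : R ≤ E := Subgroup.map_subtype_le _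
  have hnorm : R ≤ Subgroup.normalizer (H : Set G) := by
    intro g hg
    have hga : g • a = a := (hRE hg).1
    rw [Subgroup.mem_normalizer_iff]
    refine fun u => ⟨kernel_conj_mem hZ a H hHa hHcard hHfix hga, fun hu => ?_⟩
    have := kernel_conj_mem hZ a H hHa hHcard hHfix (g := g⁻¹)
      (inv_smul_eq_iff.mpr hga.symm) hu
    simpa [mul_assoc] using this
  have hfpf : ∀ x ∈ R, x ≠ 1 → H ⊓ Subgroup.centralizer ({x} : Set G) = ⊥ := by
    intro x hx hx1
    rw [Subgroup.eq_bot_iff_forall]
    rintro v ⟨hv, hvx⟩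
    by_contra hv1
    have hcomm : v * x = x * v := Subgroup.mem_centralizer_singleton_iff.mp hvx
    have hxvb : x • v • b = v • b := by rw [← mul_smul, ← hcomm, mul_smul, (hRE hx).2]
    rcases fix_two hZ hx1 hab (hRE hx).1 (hRE hx).2 hxvb with h | h
    · exact hab (MulAction.injective v ((show v • a = a from hHa hv).trans h.symm))
    · exact hab (hHfix v hv hv1 b h).symm
  rcases CfsgLib.Cores.isCyclic_or_quaternion_of_fpf (p := q) (Q.isPGroup'.map E.subtype) hH hnorm hfpf
    with h | ⟨h2, m, hm, ⟨e⟩⟩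
  · exact ((Q : Subgroup E).equivMapOfInjective E.subtype E.subtype_injective).isCyclic.mpr h
  · exfalso
    subst h2
    have h1 : Nat.card R ∣ Nat.card E := Subgroup.card_dvd_of_le hRE
    rw [Nat.card_congr e.toEquiv, Nat.card_eq_fintype_card, QuaternionGroup.card] at h1
    have : 2 ∣ Nat.card E := ((by norm_num : 2 ∣ 4).mul_right _).trans h1
    exact Nat.not_even_iff_odd.mpr hodd (even_iff_two_dvd.mpr this)

/-- The two-point stabiliser is inverted by every element swapping the points. -/
theorem swap_inverts [IsSimpleGroup G] {a b : Ω} (hab : a ≠ b)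
    (hodd : Odd (Nat.card (stabilizer G a ⊓ stabilizer G b : Subgroup G))) {s x : G} (hsa : s • a = b)
    (hsb : s • b = a) (hxa : x • a = a) (hxb : x • b = b) : s * x * s⁻¹ = x⁻¹ := by
  classical
  set E := (stabilizer G a ⊓ stabilizer G b : Subgroup G) with hE
  have hs'a : s⁻¹ • a = b := inv_smul_eq_iff.mpr hsb.symm
  have hs'b : s⁻¹ • b = a := inv_smul_eq_iff.mpr hsa.symm
  have hmem : ∀ y : E, s * (y : G) * s⁻¹ ∈ E := fun y =>
    ⟨by show (s * (y : G) * s⁻¹) • a = a
        rw [mul_smul, mul_smul, hs'a, show (y : G) • b = b from y.2.2, hsb],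
      by show (s * (y : G) * s⁻¹) • b = b
         rw [mul_smul, mul_smul, hs'b, show (y : G) • a = a from y.2.1, hsa]⟩
  let σ : E →* E := MonoidHom.mk' (fun y => ⟨_, hmem y⟩) fun y z => Subtype.ext (by
    simp only [Subgroup.coe_mul]; group)
  let mk : E →* Abelianization E := Abelianization.of
  have hinner : ∀ (u y z : E), (z : G) = u * y * (u : G)⁻¹ → mk z = mk y := fun u y z hz => by
    have : z = u * y * u⁻¹ := Subtype.ext hz
    rw [this, map_mul, map_mul, map_inv, mul_inv_cancel_comm]
  have hs2 : ∀ y : E, mk (σ (σ y)) = mk y := fun y => by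
    refine hinner ⟨s * s, ⟨?_, ?_⟩⟩ y _ (show s * (s * (y : G) * s⁻¹) * s⁻¹ = _ by
      show _ = (s * s) * (y : G) * (s * s)⁻¹
      group)
    · show (s * s) • a = a
      rw [mul_smul, hsa, hsb]
    · show (s * s) • b = b
      rw [mul_smul, hsb, hsa]
  have hφ := hom_eq_one hZ hab hodd (mk * mk.comp σ) (fun g y z hg hz => by
    show mk z * mk (σ z) = mk y * mk (σ y)
    rcases hg with ⟨hga, hgb⟩ | ⟨hga, hgb⟩
    · let u : E := ⟨g, hga, hgb⟩
      have hzu : z = u * y * u⁻¹ := Subtype.ext hz
      rw [hinner u y z hz, hzu, map_mul σ, map_mul σ, map_mul, map_mul, map_inv σ, map_inv,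
        mul_inv_cancel_comm]
    · let u : E := ⟨g * s⁻¹, by
        show (g * s⁻¹) • a = a
        rw [mul_smul, hs'a, hgb], by
        show (g * s⁻¹) • b = b
        rw [mul_smul, hs'b, hga]⟩
      have hzu : (z : G) = u * (σ y : G) * (u : G)⁻¹ := by
        show (z : G) = g * s⁻¹ * (s * (y : G) * s⁻¹) * (g * s⁻¹)⁻¹
        rw [hz]
        group
      have hzu' : z = u * σ y * u⁻¹ := Subtype.ext hzu
      rw [hinner u (σ y) z hzu, hzu', map_mul σ, map_mul σ, map_mul, map_mul, map_inv σ, map_inv,
        mul_inv_cancel_comm, hs2, mul_comm])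
  have hinv : ∀ y : E, mk (σ y) = (mk y)⁻¹ := fun y =>
    eq_inv_of_mul_eq_one_right (hφ y)
  haveI := isZGroup_E hZ hab hodd
  have hcyc : IsCyclic (commutator E) := IsZGroup.isCyclic_commutator E
  -- `E` is abelian
  have hab' : ∀ y z : E, y * z = z * y := by
    have hcent : commutator E ≤ Subgroup.center E := by
      intro z hz
      rw [Subgroup.mem_center_iff]
      have hpow : ∀ v : E, ∃ k : ℤ, ∀ w ∈ commutator E, v * w * v⁻¹ = w ^ k := by
        intro v
        obtain ⟨k, hk⟩ := MonoidHom.map_cyclic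
          ((MulAut.conjNormal v : MulAut (commutator E)).toMonoidHom)
        exact ⟨k, fun w hw => by
          have := congrArg (fun t : commutator E => (t : E)) (hk ⟨w, hw⟩)
          simpa [MulAut.conjNormal_apply] using this⟩
      intro v
      -- `σ v` acts like `v`, and like `v⁻¹`
      obtain ⟨k, hk⟩ := hpow v
      obtain ⟨k', hk'⟩ := hpow (v⁻¹)
      have hσinj : Function.Injective σ := fun p q h => Subtype.ext (by
        simpa [σ] using congrArg Subtype.val h)
      have hσsurj : Function.Surjective σ := Finite.surjective_of_injective hσinj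
      have hσc : ∀ w ∈ commutator E, σ w ∈ commutator E := fun w hw => by
        have h := Subgroup.mem_map_of_mem σ hw
        rw [commutator_def, Subgroup.map_commutator, Subgroup.map_top_of_surjective σ hσsurj] at h
        exact h
      obtain ⟨w, hw, hwz⟩ : ∃ w ∈ commutator E, σ w = z := by
        have h : z ∈ (commutator E).map σ := by
          rw [commutator_def, Subgroup.map_commutator, Subgroup.map_top_of_surjective σ hσsurj]
          exact hz
        exact h
      have hc : v * σ v ∈ commutator E := by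
        rw [← Abelianization.ker_of, MonoidHom.mem_ker, map_mul, hinv, mul_inv_cancel]
      have h1 : σ v * z * (σ v)⁻¹ = v * z * v⁻¹ := by
        rw [← hwz, ← map_inv, ← map_mul, ← map_mul, hk w hw, map_zpow, hwz, hk z hz]
      have h2 : (v * σ v) * z * (v * σ v)⁻¹ = z := by
        have hcom : Commute (⟨_, hc⟩ : commutator E) ⟨z, hz⟩ := by
          haveI := hcyc
          exact IsMulCommutative.is_comm.comm _ _
        have h' : v * σ v * z = z * (v * σ v) := congrArg Subtype.val hcom.eq
        rw [h', mul_inv_cancel_right]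
      have h3 : Commute (v ^ 2) z := by
        have e : v * (σ v * z * (σ v)⁻¹) * v⁻¹ = z := by
          rw [show v * (σ v * z * (σ v)⁻¹) * v⁻¹ = v * σ v * z * (v * σ v)⁻¹ by group, h2]
        rw [h1] at e
        show v ^ 2 * z = z * v ^ 2
        calc v ^ 2 * z = v * (v * z * v⁻¹) * v⁻¹ * v ^ 2 := by rw [pow_two]; group
          _ = z * v ^ 2 := by rw [e]
      obtain ⟨j, hj⟩ := exists_pow_eq_self_of_coprime (n := 2) (x := v)
        ((Nat.prime_two.coprime_iff_not_dvd.mpr fun h => Nat.not_even_iff_odd.mpr hodd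
          (even_iff_two_dvd.mpr (h.trans (orderOf_dvd_natCard v)))))
      rw [← hj]
      exact (h3.pow_left j).eq
    haveI : Group.IsNilpotent E :=
      Subgroup.isNilpotent_of_ker_le_center (Abelianization.of : E →* Abelianization E)
        (by rw [Abelianization.ker_of]; exact hcent)
    intro y z
    exact (IsCyclic.isMulCommutative (α := E)).is_comm.comm y z
  have hker : ∀ y : E, mk y = 1 → y = 1 := by
    intro y hy
    have h : y ∈ commutator E := by rw [← Abelianization.ker_of]; exact hy
    have hbot : commutator E = ⊥ := by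
      rw [commutator_def, eq_bot_iff, Subgroup.commutator_le]
      intro p _ q _
      rw [Subgroup.mem_bot]
      exact commutatorElement_eq_one_iff_commute.mpr (hab' p q)
    rwa [hbot] at h
  have h := hker ((⟨x, hxa, hxb⟩ : E) * σ ⟨x, hxa, hxb⟩)
    (by rw [map_mul, hinv, mul_inv_cancel])
  exact eq_inv_of_mul_eq_one_right (congrArg Subtype.val h)

/-- An element swapping `a` and `b` is an involution. -/
theorem swap_sq [IsSimpleGroup G] {a b : Ω} (hab : a ≠ b)
    (hodd : Odd (Nat.card (stabilizer G a ⊓ stabilizer G b : Subgroup G))) {s : G} (hsa : s • a = b)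
    (hsb : s • b = a) : orderOf s = 2 := by
  have h1 : s ^ 2 ∈ (stabilizer G a ⊓ stabilizer G b : Subgroup G) :=
    ⟨by show (s ^ 2) • a = a; rw [pow_two, mul_smul, hsa, hsb],
      by show (s ^ 2) • b = b; rw [pow_two, mul_smul, hsb, hsa]⟩
  have h2 := swap_inverts hZ hab hodd hsa hsb h1.1 h1.2
  rw [pow_two, show s * (s * s) * s⁻¹ = s * s by group, eq_inv_iff_mul_eq_one] at h2
  have h3 : orderOf (s ^ 2) ∣ 2 := orderOf_dvd_of_pow_eq_one (by rw [pow_two, pow_two]; exact h2)
  have h4 : orderOf (s ^ 2) = 1 := by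
    rcases (Nat.dvd_prime Nat.prime_two).mp h3 with h | h
    · exact h
    · have h5 := orderOf_dvd_natCard (⟨s ^ 2, h1⟩ : (stabilizer G a ⊓ stabilizer G b : Subgroup G))
      rw [← Subgroup.orderOf_coe, h] at h5
      exact absurd (even_iff_two_dvd.mpr h5) (Nat.not_even_iff_odd.mpr hodd)
  rw [orderOf_eq_one_iff] at h4
  refine orderOf_eq_prime h4 fun h => hab ?_
  rw [← hsa, h, one_smul]

/-- An involution fixes at most one point. -/
theorem involution_fix_one {a b : Ω} (hab : a ≠ b)
    (hodd : Odd (Nat.card (stabilizer G a ⊓ stabilizer G b : Subgroup G))) {s : G}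
    (hs : orderOf s = 2) {c d : Ω} (hc : s • c = c) (hd : s • d = d) : c = d := by
  by_contra h
  rw [card_E_congr hZ hab h] at hodd
  have h1 := orderOf_dvd_natCard (⟨s, hc, hd⟩ : (stabilizer G c ⊓ stabilizer G d : Subgroup G))
  rw [← Subgroup.orderOf_coe, hs] at h1
  exact Nat.not_even_iff_odd.mpr hodd (even_iff_two_dvd.mpr h1)

theorem card_swappers {a b : Ω} (hab : a ≠ b) :
    Nat.card {s : G // s • a = b ∧ s • b = a}
      = Nat.card (stabilizer G a ⊓ stabilizer G b : Subgroup G) := by
  obtain ⟨t, hta, htb⟩ := two_trans hZ hab hab.symm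
  refine Nat.card_congr
    { toFun := fun s => ⟨t⁻¹ * s, ?_, ?_⟩
      invFun := fun x => ⟨t * x, ?_, ?_⟩
      left_inv := fun s => Subtype.ext (mul_inv_cancel_left _ _)
      right_inv := fun x => Subtype.ext (inv_mul_cancel_left _ _) }
  · show (t⁻¹ * (s : G)) • a = a
    rw [mul_smul, s.2.1, ← hta, inv_smul_smul]
  · show (t⁻¹ * (s : G)) • b = b
    rw [mul_smul, s.2.2, ← htb, inv_smul_smul]
  · rw [mul_smul, show (x : G) • a = a from x.2.1, hta]
  · rw [mul_smul, show (x : G) • b = b from x.2.2, htb]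

theorem exists_swapper {a b : Ω} (hab : a ≠ b) : ∃ s : G, s • a = b ∧ s • b = a :=
  two_trans hZ hab hab.symm

/-- All involutions are conjugate. -/
theorem involutions_isConj [IsSimpleGroup G] {a b : Ω} (hab : a ≠ b)
    (hodd : Odd (Nat.card (stabilizer G a ⊓ stabilizer G b : Subgroup G))) {x y : G}
    (hx : orderOf x = 2) (hy : orderOf y = 2) : IsConj x y := by
  classical
  set E := (stabilizer G a ⊓ stabilizer G b : Subgroup G) with hE
  have key : ∀ z : G, orderOf z = 2 → ∃ z' : G, (z' • a = b ∧ z' • b = a) ∧ IsConj z z' := by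
    intro z hz
    obtain ⟨c, hc⟩ : ∃ c : Ω, z • c ≠ c := by
      by_contra h
      push Not at h
      rw [eq_one_of_fix_all hZ h, orderOf_one] at hz
      exact absurd hz (by norm_num)
    obtain ⟨k, hka, hkb⟩ := two_trans hZ hc.symm hab
    have hzz : z • z • c = c := by
      rw [← mul_smul, ← pow_two, ← hz, pow_orderOf_eq_one, one_smul]
    refine ⟨k * z * k⁻¹, ⟨?_, ?_⟩, isConj_iff.mpr ⟨k, rfl⟩⟩
    · rw [← hka, mul_smul, mul_smul, inv_smul_smul, hkb]
    · rw [← hkb, mul_smul, mul_smul, inv_smul_smul, hzz, hka]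
  obtain ⟨x', hx', hxx⟩ := key x hx
  obtain ⟨y', hy', hyy⟩ := key y hy
  refine hxx.trans (IsConj.trans ?_ hyy.symm)
  -- conjugation by `E` is transitive on the swappers
  haveI := Fintype.ofFinite E
  have hconj : ∀ u : E, ((u : G) * x' * (u : G)⁻¹) • a = b ∧ ((u : G) * x' * (u : G)⁻¹) • b = a := by
    intro u
    have h1 : (u : G)⁻¹ • a = a := inv_smul_eq_iff.mpr (show (u : G) • a = a from u.2.1).symm
    have h2 : (u : G)⁻¹ • b = b := inv_smul_eq_iff.mpr (show (u : G) • b = b from u.2.2).symm
    constructor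
    · rw [mul_smul, mul_smul, h1, hx'.1, show (u : G) • b = b from u.2.2]
    · rw [mul_smul, mul_smul, h2, hx'.2, show (u : G) • a = a from u.2.1]
  let Φ : E → {s : G // s • a = b ∧ s • b = a} := fun u => ⟨_, hconj u⟩
  have hinj : Function.Injective Φ := by
    intro u v huv
    have h : (u : G) * x' * (u : G)⁻¹ = v * x' * (v : G)⁻¹ := congrArg Subtype.val huv
    set w : E := v⁻¹ * u with hw
    have hw1 : x' * (w : G) * x'⁻¹ = (w : G) := by
      have : (w : G) * x' = x' * w := by
        rw [hw, Subgroup.coe_mul, InvMemClass.coe_inv]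
        calc (v : G)⁻¹ * u * x' = (v : G)⁻¹ * (u * x' * (u : G)⁻¹) * u := by group
          _ = x' * ((v : G)⁻¹ * u) := by rw [h]; group
      rw [← this, mul_inv_cancel_right]
    rw [swap_inverts hZ hab hodd hx'.1 hx'.2 w.2.1 w.2.2, inv_eq_iff_mul_eq_one] at hw1
    have hw2 : w = 1 := by
      refine orderOf_eq_one_iff.mp (Nat.eq_one_of_dvd_coprimes
        (Nat.coprime_two_left.mpr hodd) ?_ (orderOf_dvd_natCard w))
      exact orderOf_dvd_of_pow_eq_one (Subtype.ext (by rw [pow_two]; exact hw1))
    exact (inv_mul_eq_one.mp hw2).symm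
  have hbij : Function.Bijective Φ :=
    hinj.bijective_of_nat_card_le (card_swappers hZ hab).le
  obtain ⟨u, hu⟩ := hbij.2 ⟨y', hy'⟩
  exact isConj_iff.mpr ⟨u, congrArg Subtype.val hu⟩

/-- An involution moves all points if `|Ω|` is even and all but one otherwise. -/
theorem card_moved {a b : Ω} (hab : a ≠ b)
    (hodd : Odd (Nat.card (stabilizer G a ⊓ stabilizer G b : Subgroup G))) {s : G}
    (hs : orderOf s = 2) :
    Nat.card {c : Ω // s • c = c} = if Even (Fintype.card Ω) then 0 else 1 := by
  classical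
  have h1 : Nat.card {c : Ω // s • c = c} ≤ 1 := by
    rw [Finite.card_le_one_iff_subsingleton]
    exact ⟨fun c d => Subtype.ext (involution_fix_one hZ hab hodd hs c.2 d.2)⟩
  have h2 := CfsgLib.AltGroups.IsZassenhaus.fixed_parity hZ hs
  rw [show Nat.card (fixedBy Ω s) = Nat.card {c : Ω // s • c = c} from rfl] at h2
  split_ifs with hev
  · rw [Nat.even_iff] at hev; omega
  · rw [Nat.not_even_iff] at hev; omega

/-- The number of involutions. -/
theorem card_involutions [IsSimpleGroup G] {a b : Ω} (hab : a ≠ b)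
    (hodd : Odd (Nat.card (stabilizer G a ⊓ stabilizer G b : Subgroup G))) :
    Nat.card {x : G // orderOf x = 2} =
      (if Even (Fintype.card Ω) then Fintype.card Ω - 1 else Fintype.card Ω)
        * Nat.card (stabilizer G a ⊓ stabilizer G b : Subgroup G) := by
  classical
  haveI := Fintype.ofFinite G
  set e := Nat.card (stabilizer G a ⊓ stabilizer G b : Subgroup G) with he
  set n := Fintype.card Ω with hn
  let S := {q : {x : G // orderOf x = 2} × Ω // (q.1 : G) • q.2 ≠ q.2}
  let T := {q : Ω × Ω // q.1 ≠ q.2}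
  have hkey : Nat.card S = Nat.card T * e := by
    let F : S → T := fun q => ⟨(q.1.2, (q.1.1 : G) • q.1.2), Ne.symm q.2⟩
    have hfib : ∀ t : T, Nat.card {q : S // F q = t} = e := by
      intro t
      rw [he, card_E_congr hZ hab t.2, ← card_swappers hZ t.2]
      refine Nat.card_congr
        { toFun := fun q => ⟨(q.1.1.1 : G), ?_, ?_⟩
          invFun := fun s => ⟨⟨(⟨s.1, swap_sq hZ t.2 (card_E_congr hZ hab t.2 ▸ hodd) s.2.1 s.2.2⟩,
            t.1.1), by show (s : G) • t.1.1 ≠ t.1.1; rw [s.2.1]; exact Ne.symm t.2⟩, ?_⟩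
          left_inv := fun q => ?_
          right_inv := fun s => rfl }
      · have h := congrArg (fun w : T => w.1) q.2
        show (q.1.1.1 : G) • t.1.1 = t.1.2
        rw [← h]
      · have h := congrArg (fun w : T => w.1) q.2
        show (q.1.1.1 : G) • t.1.2 = t.1.1
        rw [← h]
        show (q.1.1.1 : G) • (q.1.1.1 : G) • q.1.1.2 = q.1.1.2
        have hq := pow_orderOf_eq_one (q.1.1.1 : G)
        rw [q.1.1.1.2, pow_two] at hq
        rw [← mul_smul, hq, one_smul]
      · exact Subtype.ext (Prod.ext rfl s.2.1)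
      · refine Subtype.ext (Subtype.ext (Prod.ext (Subtype.ext rfl) ?_))
        exact (congrArg (fun w : T => w.1.1) q.2).symm
    rw [Nat.card_congr (Equiv.sigmaFiberEquiv F).symm, Nat.card_sigma,
      Finset.sum_congr rfl fun t _ => hfib t, Finset.sum_const, Finset.card_univ, smul_eq_mul,
      Nat.card_eq_fintype_card]
  have hS : Nat.card S = Nat.card {x : G // orderOf x = 2} * (if Even n then n else n - 1) := by
    rw [Nat.card_congr (Equiv.subtypeProdEquivSigmaSubtype
      (fun (x : {x : G // orderOf x = 2}) (c : Ω) => (x : G) • c ≠ c)), Nat.card_sigma]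
    have : ∀ x : {x : G // orderOf x = 2}, Nat.card {c : Ω // (x : G) • c ≠ c}
        = if Even n then n else n - 1 := fun x => by
      have h := card_moved hZ hab hodd x.2
      rw [Nat.card_eq_fintype_card] at h ⊢
      rw [Fintype.card_subtype_compl, h]
      split_ifs <;> omega
    rw [Finset.sum_congr rfl fun x _ => this x, Finset.sum_const, Finset.card_univ, smul_eq_mul,
      Nat.card_eq_fintype_card]
  have hT : Nat.card T = n * (n - 1) := by
    have : Nat.card T = (Finset.univ : Finset Ω).offDiag.card := by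
      rw [Nat.card_eq_fintype_card]
      exact Fintype.card_of_subtype _ fun q => by simp
    rw [this, Finset.offDiag_card, Finset.card_univ, ← hn, Nat.mul_sub_one]
  rw [hS, hT] at hkey
  have h3 := three_le_card hZ
  rw [← hn] at h3
  split_ifs at hkey ⊢ with hev
  · have h4 : Nat.card {x : G // orderOf x = 2} * n = (n - 1) * e * n := by rw [hkey]; ring
    exact Nat.eq_of_mul_eq_mul_right (by omega) h4
  · have h4 : Nat.card {x : G // orderOf x = 2} * (n - 1) = n * e * (n - 1) := by rw [hkey]; ring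
    exact Nat.eq_of_mul_eq_mul_right (by omega) h4

end CfsgLib.RealChar.Zassenhaus
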