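import Mathlib
import Cfsg.Prelude.Def_Characters
import Cfsg.Agent.Lib.CharTheory.Basic
import Cfsg.Agent.Lib.CharTheory.Decomp
import Cfsg.Agent.Lib.Frobenius.Induce
import Cfsg.Agent.Lib.Brauer.CharRing

/-!
# Invariant constituents of restrictions to normal subgroups
-/

set_option autoImplicit false
set_option linter.style.haveILetI false

open scoped ComplexConjugate

namespace CfsgLib.RealChar

variable {G : Type*} [Group G]

/-- The conjugate of a function on a normal subgroup. -/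
def conjFun (N : Subgroup G) [N.Normal] (ϑ : N → ℂ) (g : G) : N → ℂ :=
  fun n => ϑ (MulAut.conjNormal g n)

/-- A character of a larger group restricted to a normal subgroup is invariant. -/
theorem conjFun_res (N : Subgroup G) [N.Normal] {χ : G → ℂ} (hχ : Cfsg.IsClassFunction G χ) (g : G) :
    conjFun N (fun n : N => χ n) g = fun n : N => χ n :=
  funext fun n => by
    show χ ((MulAut.conjNormal g n : N) : G) = χ n
    rw [MulAut.conjNormal_apply]; exact hχ n g

theorem conjFun_eq_of_invariant (N : Subgroup G) [hN : N.Normal] (ϑ : N → ℂ)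
    (hinv : ∀ (g : G) (n : N), ϑ ⟨g * n * g⁻¹, hN.conj_mem (n : G) n.2 g⟩ = ϑ n) (g : G) :
    conjFun N ϑ g = ϑ :=
  funext fun n => by
    rw [← hinv g n]; exact congrArg ϑ (Subtype.ext (MulAut.conjNormal_apply g n))

variable [Fintype G]

/-- A function induced from a normal subgroup, evaluated on that subgroup. -/
theorem indFun_apply_normal (N : Subgroup G) [N.Normal] (ϑ : N → ℂ) (n : N) :
    Cfsg.indFun N ϑ n = (Nat.card N : ℂ)⁻¹ * ∑ x : G, conjFun N ϑ x⁻¹ n := by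
  unfold Cfsg.indFun conjFun
  congr 1
  refine Finset.sum_congr rfl fun x _ => ?_
  have : x⁻¹ * (n : G) * x = ((MulAut.conjNormal x⁻¹ n : N) : G) := by
    rw [MulAut.conjNormal_apply, inv_inv]
  rw [this, CfsgLib.Frobenius.extendByZero_coe]

/-- A function induced from an invariant one restricts to the index times it. -/
theorem indFun_apply_of_invariant (N : Subgroup G) [N.Normal] (ϑ : N → ℂ)
    (hinv : ∀ g, conjFun N ϑ g = ϑ) (n : N) :
    Cfsg.indFun N ϑ n = (N.index : ℂ) * ϑ n := by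
  rw [indFun_apply_normal]
  simp only [hinv, Finset.sum_const, Finset.card_univ, nsmul_eq_mul, ← Nat.card_eq_fintype_card]
  rw [← N.card_mul_index, Nat.cast_mul, ← mul_assoc, ← mul_assoc,
    inv_mul_cancel₀ (Nat.cast_ne_zero.mpr (Nat.card_pos (α := N)).ne'), one_mul]

theorem classInner_indFun_irr (N : Subgroup G) [Fintype N] (ϑ : N → ℂ) (χ : Cfsg.IrrCharacter G) :
    Cfsg.classInner (Cfsg.indFun N ϑ) (χ : G → ℂ) = Cfsg.classInner ϑ (fun n : N => (χ : G → ℂ) n) :=
  CfsgLib.Frobenius.classInner_indFun N ϑ _ (CfsgLib.CharTheory.IsIrrCharacter.isClassFunction χ.2)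

/-- An irreducible character whose restriction meets an invariant irreducible `ϑ` restricts to a multiple of it. -/
theorem exists_res_eq_nsmul (N : Subgroup G) [N.Normal] [Fintype N] {χ : G → ℂ}
    (hχ : Cfsg.IsIrrCharacter G χ) {ϑ : N → ℂ} (hϑ : Cfsg.IsIrrCharacter N ϑ)
    (hinv : ∀ g, conjFun N ϑ g = ϑ) (hcon : Cfsg.classInner (fun n : N => χ n) ϑ ≠ 0) :
    ∃ e : ℕ, e ≠ 0 ∧ (fun n : N => χ n) = (e : ℂ) • ϑ ∧
      Cfsg.classInner (fun n : N => χ n) ϑ = e := by
  classical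
  haveI := Fintype.ofFinite (Cfsg.IrrCharacter N)
  haveI := Fintype.ofFinite (Cfsg.IrrCharacter G)
  have hres : Cfsg.IsCharacter N (fun n : N => χ n) :=
    CfsgLib.Brauer.isCharacter_res (CfsgLib.CharTheory.IsIrrCharacter.isCharacter hχ) N
  obtain ⟨m, hm⟩ := CfsgLib.CharTheory.IsCharacter.exists_sum hres
  have hcoef : ∀ φ : Cfsg.IrrCharacter N, Cfsg.classInner (fun n : N => χ n) (φ : N → ℂ) = m φ := fun φ => by
    rw [hm, CfsgLib.CharTheory.classInner_sum_irr]
  -- the induced character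
  obtain ⟨a, ha⟩ := CfsgLib.CharTheory.IsCharacter.exists_sum
    (CfsgLib.Frobenius.isCharacter_indFun N ϑ (CfsgLib.CharTheory.IsIrrCharacter.isCharacter hϑ))
  have haχ : (a ⟨χ, hχ⟩ : ℂ) = conj (m ⟨ϑ, hϑ⟩ : ℂ) := by
    rw [← hcoef ⟨ϑ, hϑ⟩, ← CfsgLib.Frobenius.classInner_comm,
      ← CfsgLib.CharTheory.classInner_sum_irr (fun φ => (a φ : ℂ)) ⟨χ, hχ⟩, ← ha]
    exact classInner_indFun_irr N ϑ ⟨χ, hχ⟩
  have hm0 : m ⟨ϑ, hϑ⟩ ≠ 0 := fun h => hcon (by rw [hcoef ⟨ϑ, hϑ⟩, h, Nat.cast_zero])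
  have ha0 : a ⟨χ, hχ⟩ ≠ 0 := by
    intro h
    rw [h, Nat.cast_zero, map_natCast, eq_comm, Nat.cast_eq_zero] at haχ
    exact hm0 haχ
  have hzero : ∀ φ : Cfsg.IrrCharacter N, φ ≠ ⟨ϑ, hϑ⟩ → m φ = 0 := by
    intro φ hφ
    -- pair the restriction of the induced character with `φ`
    have hpair : ∀ ψ : Cfsg.IrrCharacter G, ∃ k : ℕ,
        Cfsg.classInner (fun n : N => (ψ : G → ℂ) n) (φ : N → ℂ) = k := fun ψ =>
      CfsgLib.CharTheory.IsCharacter.exists_classInner_eq_nat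
        (CfsgLib.Brauer.isCharacter_res (CfsgLib.CharTheory.IsIrrCharacter.isCharacter ψ.2) N) φ
    choose k hk using hpair
    have h0 : Cfsg.classInner (fun n : N => Cfsg.indFun N ϑ n) (φ : N → ℂ) = 0 := by
      have : (fun n : N => Cfsg.indFun N ϑ n) = (N.index : ℂ) • ϑ :=
        funext fun n => indFun_apply_of_invariant N ϑ hinv n
      rw [this, CfsgLib.CharTheory.classInner_smul_left,
        CfsgLib.CharTheory.classInner_eq_zero_of_ne hϑ φ.2 (fun h => hφ (Subtype.ext h.symm)), mul_zero]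
    have hexp : (fun n : N => Cfsg.indFun N ϑ n) = ∑ ψ, (a ψ : ℂ) • (fun n : N => (ψ : G → ℂ) n) := by
      funext n
      rw [ha]
      simp only [Finset.sum_apply, Pi.smul_apply]
    rw [hexp, CfsgLib.CharTheory.classInner_sum_left] at h0
    simp only [CfsgLib.CharTheory.classInner_smul_left, hk, ← Nat.cast_mul, ← Nat.cast_sum,
      Nat.cast_eq_zero, Finset.sum_eq_zero_iff, Finset.mem_univ, true_implies, mul_eq_zero] at h0
    have hkχ := (h0 ⟨χ, hχ⟩).resolve_left ha0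
    exact_mod_cast ((hcoef φ).symm.trans ((hk ⟨χ, hχ⟩).trans (by rw [hkχ])) : (m φ : ℂ) = ((0 : ℕ) : ℂ))
  refine ⟨m ⟨ϑ, hϑ⟩, hm0, ?_, hcoef ⟨ϑ, hϑ⟩⟩
  refine hm.trans ((Finset.sum_eq_single (⟨ϑ, hϑ⟩ : Cfsg.IrrCharacter N) (fun φ _ hφ => ?_) fun h => ?_).trans ?_)
  · rw [hzero φ hφ, Nat.cast_zero, zero_smul]
  · exact absurd (Finset.mem_univ _) h
  · rfl

end CfsgLib.RealChar
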