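import Mathlib
import Cfsg.Prelude.Def_Characters
import Cfsg.Agent.Lib.CharTheory.Degree

/-!
# The degree divides the index of a normal subgroup acting by scalars
-/

set_option autoImplicit false
set_option linter.style.haveILetI false

open scoped ComplexConjugate
open Module

namespace CfsgLib.RealChar

variable {G : Type*} [Group G] [Finite G] {V : Type*} [AddCommGroup V] [Module ℂ V] [FiniteDimensional ℂ V]

/-- For a faithful irreducible representation and a subgroup of scalars. -/
theorem finrank_dvd_index_of_faithful (ρ : Representation ℂ G V) [ρ.IsIrreducible]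
    (hinj : ∀ g, ρ g = 1 → g = 1) (A : Subgroup G)
    (hA : ∀ a ∈ A, ∃ c : ℂ, ρ a = c • (1 : Module.End ℂ V)) :
    finrank ℂ V ∣ A.index := by
  classical
  haveI := Fintype.ofFinite G
  haveI := CfsgLib.CharTheory.nontrivial_of_isIrreducible ρ
  set χ := ρ.character with hχ
  have hscal : ∀ a ∈ A, ∃ c : ℂ, ρ a = c • (1 : Module.End ℂ V) ∧ ∀ g, χ (a * g) = c * χ g := by
    intro a ha
    obtain ⟨c, hc⟩ := hA a ha
    refine ⟨c, hc, fun g => ?_⟩
    show LinearMap.trace ℂ V (ρ (a * g)) = c * LinearMap.trace ℂ V (ρ g)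
    rw [map_mul, hc, smul_mul_assoc, one_mul, map_smul, smul_eq_mul]
  have hcen : ∀ a ∈ A, ∀ g : G, a * g = g * a := by
    intro a ha g
    obtain ⟨c, hc, -⟩ := hscal a ha
    have h := hinj ((g * a)⁻¹ * (a * g)) (by
      have : ρ (a * g) = ρ (g * a) := by
        rw [map_mul, map_mul, hc, smul_mul_assoc, mul_smul_comm, one_mul, mul_one]
      rw [map_mul, this, ← map_mul, inv_mul_cancel, map_one])
    exact (inv_mul_eq_one.mp h).symm
  -- orbits of `A` on conjugacy classes
  let R : Setoid G :=
    { r := fun x y => ∃ a ∈ A, IsConj (a * x) y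
      iseqv :=
        { refl := fun x => ⟨1, A.one_mem, by rw [one_mul]⟩
          symm := by
            rintro x y ⟨a, ha, h⟩
            obtain ⟨t, rfl⟩ := isConj_iff.mp h
            refine ⟨a⁻¹, A.inv_mem ha, isConj_iff.mpr ⟨t⁻¹, ?_⟩⟩
            calc t⁻¹ * (a⁻¹ * (t * (a * x) * t⁻¹)) * t⁻¹⁻¹
                = t⁻¹ * (a⁻¹ * t) * (a * x) := by group
              _ = x := by rw [hcen a⁻¹ (A.inv_mem ha) t]; group
          trans := by
            rintro x y z ⟨a, ha, h⟩ ⟨b, hb, h'⟩
            obtain ⟨t, rfl⟩ := isConj_iff.mp h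
            refine ⟨b * a, A.mul_mem hb ha, (isConj_iff.mpr ⟨t, ?_⟩).trans h'⟩
            calc t * (b * a * x) * t⁻¹ = (t * b) * (a * x) * t⁻¹ := by group
              _ = b * (t * (a * x) * t⁻¹) := by rw [← hcen b hb t]; group } }
  let chosen : G → Prop := fun g => IsConj (Quotient.mk R g).out g
  have hchosen : ∀ g h, IsConj g h → (chosen g ↔ chosen h) := by
    intro g h hgh
    have : (Quotient.mk R g) = Quotient.mk R h := Quotient.sound ⟨1, A.one_mem, by rwa [one_mul]⟩
    simp only [chosen, this]
    exact ⟨fun x => x.trans hgh, fun x => x.trans hgh.symm⟩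
  set a : G → ℂ := fun g => if chosen g then χ g⁻¹ else 0 with ha
  have haclass : Cfsg.IsClassFunction G a := by
    intro g h
    have hc : IsConj g (h * g * h⁻¹) := isConj_iff.mpr ⟨h, rfl⟩
    have he : χ (h * g * h⁻¹)⁻¹ = χ g⁻¹ := by
      rw [show (h * g * h⁻¹)⁻¹ = h * g⁻¹ * h⁻¹ by group]; exact ρ.char_conj g⁻¹ h
    simp only [ha, hchosen _ _ hc, he]
  have hint := CfsgLib.CharTheory.isIntegral_sum_mul_character_div ρ haclass fun g => by
    simp only [ha]
    split_ifs
    · exact CfsgLib.CharTheory.isIntegral_character ρ _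
    · exact isIntegral_zero
  let F : G → ℂ := fun g => χ g⁻¹ * χ g
  have htot : ∑ g : G, F g = (Nat.card G : ℂ) := by
    haveI : Invertible (Nat.card G : ℂ) := invertibleOfNonzero (Nat.cast_ne_zero.mpr Nat.card_pos.ne')
    have h := Representation.card_inv_mul_sum_char_mul_char_eq_finrank (k := ℂ) ρ ρ
    rw [Representation.IsIrreducible.finrank_intertwiningMap_self, Nat.cast_one,
      inv_mul_eq_one₀ (Nat.cast_ne_zero.mpr Nat.card_pos.ne')] at h
    rw [h]
    exact Finset.sum_congr rfl fun g _ => mul_comm _ _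
  have hsum : ∑ g : G, a g * χ g = (A.index : ℂ) := by
    have h1 : (Nat.card A : ℂ) * ∑ g : G, a g * χ g = (Nat.card G : ℂ) := by
      rw [← htot, Nat.card_eq_fintype_card, ← Finset.card_univ, ← nsmul_eq_mul, ← Finset.sum_const,
        ← Finset.sum_product']
      let s := (Finset.univ ×ˢ Finset.univ : Finset (A × G)).filter fun p => a p.2 * χ p.2 ≠ 0
      let t := Finset.univ.filter fun g : G => F g ≠ 0
      rw [← Finset.sum_filter_ne_zero (s := (Finset.univ ×ˢ Finset.univ : Finset (A × G))),
        ← Finset.sum_filter_ne_zero (f := F)]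
      have hFinv : ∀ x ∈ A, ∀ g, F (x * g) = F g := by
        intro x hx g
        obtain ⟨c, hc, hcχ⟩ := hscal x hx
        obtain ⟨c', hc', hcχ'⟩ := hscal x⁻¹ (A.inv_mem hx)
        have hcc : c * c' = 1 := by
          have h := ρ.map_mul x x⁻¹
          rw [mul_inv_cancel, map_one, hc, hc', smul_mul_smul_comm, one_mul] at h
          have h' : ((c * c') - 1) • (1 : Module.End ℂ V) = 0 := by rw [sub_smul, one_smul, ← h, sub_self]
          exact sub_eq_zero.mp ((smul_eq_zero.mp h').resolve_right one_ne_zero)
        show χ (x * g)⁻¹ * χ (x * g) = _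
        rw [hcχ, mul_inv_rev, ← hcen x⁻¹ (A.inv_mem hx) g⁻¹, hcχ']
        calc c' * χ g⁻¹ * (c * χ g) = (c * c') * (χ g⁻¹ * χ g) := by ring
          _ = _ := by rw [hcc, one_mul]
      refine Finset.sum_bij (fun p _ => (p.1 : G) * p.2) ?_ ?_ ?_ ?_
      · intro p hp
        simp only [Finset.mem_filter, Finset.mem_product, Finset.mem_univ, true_and, and_self] at hp ⊢
        simp only [ha] at hp
        split_ifs at hp with hc
        · rwa [hFinv _ p.1.2]
        · simp at hp
      · intro p hp q hq hpq
        simp only [Finset.mem_filter, Finset.mem_product, Finset.mem_univ, true_and, and_self] at hp hq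
        have hpc : chosen p.2 := by by_contra h; simp [ha, h] at hp
        have hqc : chosen q.2 := by by_contra h; simp [ha, h] at hq
        have hp0 : χ p.2 ≠ 0 := fun h => hp (by rw [h, mul_zero])
        have hcl : (Quotient.mk R p.2) = Quotient.mk R q.2 := Quotient.sound
          ⟨(q.1 : G)⁻¹ * p.1, A.mul_mem (A.inv_mem q.1.2) p.1.2, by rw [mul_assoc, hpq, inv_mul_cancel_left]⟩
        have hconj : IsConj p.2 q.2 := by
          have h2 : IsConj (Quotient.mk R q.2).out p.2 := hcl ▸ hpc
          exact h2.symm.trans hqc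
        obtain ⟨c, hc, hcχ⟩ := hscal ((q.1 : G)⁻¹ * p.1) (A.mul_mem (A.inv_mem q.1.2) p.1.2)
        have hq2 : q.2 = (q.1 : G)⁻¹ * p.1 * p.2 := by rw [mul_assoc, hpq, inv_mul_cancel_left]
        obtain ⟨h, hh⟩ := isConj_iff.mp hconj
        have e : c * χ p.2 = 1 * χ p.2 := by
          rw [← hcχ, ← hq2, ← hh, one_mul]
          exact ρ.char_conj p.2 h
        have hc1 : c = 1 := mul_right_cancel₀ hp0 e
        rw [hc1, one_smul] at hc
        have h1 : p.1 = q.1 := Subtype.ext (inv_mul_eq_one.mp (hinj _ hc)).symm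
        refine Prod.ext h1 ?_
        rw [h1] at hpq
        exact mul_left_cancel hpq
      · intro x hx
        obtain ⟨z, hz, hconj⟩ := Quotient.mk_out (s := R) x
        obtain ⟨h, hh⟩ := isConj_iff.mp hconj
        set g := h * (Quotient.mk R x).out * h⁻¹ with hg
        have hgx : z * g = x := by
          rw [← hh, hg]
          calc z * (h * (Quotient.mk R x).out * h⁻¹) = (z * h) * (Quotient.mk R x).out * h⁻¹ := by group
            _ = _ := by rw [hcen z hz h]; group
        have hgc : chosen g := by
          have hq : Quotient.mk R g = Quotient.mk R x :=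
            Quotient.sound ⟨z, hz, by rw [hgx]⟩
          show IsConj (Quotient.mk R g).out g
          rw [hq]
          exact isConj_iff.mpr ⟨h, rfl⟩
        have hF : F g = F x := by rw [← hgx, hFinv z hz]
        refine ⟨(⟨z, hz⟩, g), ?_, hgx⟩
        simp only [Finset.mem_filter, Finset.mem_product, Finset.mem_univ, true_and, and_self] at hx ⊢
        simp only [ha, if_pos hgc]
        show F g ≠ 0
        rw [hF]
        exact hx
      · intro p hp
        simp only [Finset.mem_filter, Finset.mem_product, Finset.mem_univ, true_and, and_self] at hp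
        have hpc : chosen p.2 := by by_contra h; simp [ha, h] at hp
        rw [hFinv _ p.1.2]
        simp only [ha, if_pos hpc, F]
    rw [← A.card_mul_index, Nat.cast_mul] at h1
    exact mul_left_cancel₀ (Nat.cast_ne_zero.mpr (Nat.card_pos (α := A)).ne') h1
  rw [hsum] at hint
  exact CfsgLib.CharTheory.dvd_of_isIntegral_natCast_div (CfsgLib.CharTheory.finrank_pos_of_isIrreducible ρ).ne' hint

/-- The degree of an irreducible representation divides the index of any subgroup acting by scalars. -/
theorem finrank_dvd_index_of_scalar (ρ : Representation ℂ G V) [hρ : ρ.IsIrreducible] (A : Subgroup G)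
    (hA : ∀ a ∈ A, ∃ c : ℂ, ρ a = c • (1 : Module.End ℂ V)) :
    finrank ℂ V ∣ A.index := by
  let f : G →* (Module.End ℂ V)ˣ := ρ.toHomUnits
  haveI : Finite f.range := Finite.of_surjective _ f.rangeRestrict_surjective
  let ρ' : Representation ℂ f.range V := (Units.coeHom _).comp f.range.subtype
  haveI : ρ'.IsIrreducible := by
    let e : Subrepresentation ρ ≃o Subrepresentation ρ' :=
      { toFun := fun W => ⟨W.toSubmodule, by rintro ⟨_, g, rfl⟩ v hv; exact W.apply_mem_toSubmodule g hv⟩
        invFun := fun W => ⟨W.toSubmodule, fun g v hv => W.apply_mem_toSubmodule ⟨f g, g, rfl⟩ hv⟩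
        left_inv := fun W => rfl
        right_inv := fun W => rfl
        map_rel_iff' := Iff.rfl }
    exact e.isSimpleOrder_iff.mp hρ
  refine (finrank_dvd_index_of_faithful ρ' (fun g hg => Subtype.ext (Units.ext hg)) (A.map f.rangeRestrict)
    ?_).trans (A.index_map_dvd f.rangeRestrict_surjective)
  rintro _ ⟨a, ha, rfl⟩
  exact hA a ha

end CfsgLib.RealChar
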