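import Mathlib
import Cfsg.Prelude.Def_Characters
import Cfsg.Agent.Lib.RealChar.Intertwiner
import Cfsg.Agent.Lib.RealChar.DegreeIndex
import Cfsg.Agent.Lib.CharTheory.Basic

/-!
# The representation on `Hom_N(ρ, σ)`

For an invariant irreducible `ρ` of `N` and a representation `σ` of `G`, the intertwiner group acts on
`Hom_N(ρ, σ)`; this is irreducible when `σ` is, and this gives `σ(1)/ρ(1) ∣ [G:N]`.
-/

set_option autoImplicit false
set_option linter.style.haveILetI false
set_option backward.isDefEq.respectTransparency false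

open Representation Module

namespace CfsgLib.RealChar

universe u

variable {G : Type u} [Group G] {N : Subgroup G} [hN : N.Normal] {d c : ℕ}
  (ρ : Representation ℂ N (Fin d → ℂ)) (σ : Representation ℂ G (Fin c → ℂ))

/-- `Hom_N(ρ, σ)`. -/
abbrev homSpace : Type := IntertwiningMap ρ (σ.comp N.subtype)

theorem homAct_mem (x : interGroup N ρ) {f : (Fin d → ℂ) →ₗ[ℂ] (Fin c → ℂ)} (hf : ∀ n : N, f ∘ₗ ρ n = σ n ∘ₗ f) :
    ∀ n : N, (σ (interFst N ρ x) ∘ₗ f ∘ₗ ((interSnd N ρ x⁻¹ : (Module.End ℂ (Fin d → ℂ))ˣ) : Module.End ℂ (Fin d → ℂ))) ∘ₗ ρ n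
      = σ n ∘ₗ (σ (interFst N ρ x) ∘ₗ f ∘ₗ ((interSnd N ρ x⁻¹ : (Module.End ℂ (Fin d → ℂ))ˣ) : Module.End ℂ (Fin d → ℂ))) := by
  intro n
  set g := interFst N ρ x
  set T : Module.End ℂ (Fin d → ℂ) := ↑(interSnd N ρ x⁻¹)
  have h1 : T ∘ₗ ρ n = ρ (MulAut.conjNormal g⁻¹ n) ∘ₗ T := (x⁻¹).2 n
  have h2 : σ g ∘ₗ σ ((MulAut.conjNormal g⁻¹ n : N) : G) = σ n ∘ₗ σ g := by
    rw [← Module.End.mul_eq_comp, ← Module.End.mul_eq_comp, ← map_mul, ← map_mul, MulAut.conjNormal_apply,
      inv_inv, ← mul_assoc, ← mul_assoc, mul_inv_cancel, one_mul]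
  calc (σ g ∘ₗ f ∘ₗ T) ∘ₗ ρ n = σ g ∘ₗ f ∘ₗ (T ∘ₗ ρ n) := rfl
    _ = σ g ∘ₗ (f ∘ₗ ρ (MulAut.conjNormal g⁻¹ n)) ∘ₗ T := by rw [h1]; rfl
    _ = (σ g ∘ₗ σ ((MulAut.conjNormal g⁻¹ n : N) : G)) ∘ₗ f ∘ₗ T := by rw [hf]; rfl
    _ = σ n ∘ₗ σ g ∘ₗ f ∘ₗ T := by rw [h2]; rfl

/-- The action of the intertwiner group on `Hom_N(ρ, σ)`. -/
noncomputable def homRep : Representation ℂ (interGroup N ρ) (homSpace ρ σ) where
  toFun x :=
    { toFun := fun f => ⟨_, homAct_mem ρ σ x f.isIntertwining'⟩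
      map_add' := fun f g => IntertwiningMap.ext (by simp [LinearMap.add_comp, LinearMap.comp_add])
      map_smul' := fun z f => IntertwiningMap.ext (LinearMap.ext fun v => map_smul (σ (interFst N ρ x)) z _) }
  map_one' := LinearMap.ext fun f => IntertwiningMap.ext (by simp [Module.End.one_eq_id])
  map_mul' x y := LinearMap.ext fun f => IntertwiningMap.ext (by
    simp only [LinearMap.coe_mk, AddHom.coe_mk, Module.End.mul_apply, map_mul, mul_inv_rev, Units.val_mul]
    rfl)

theorem homRep_apply (x : interGroup N ρ) (f : homSpace ρ σ) (v : Fin d → ℂ) :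
    (homRep ρ σ x f).toLinearMap v
      = σ (interFst N ρ x) (f.toLinearMap
          (((interSnd N ρ x⁻¹ : (Module.End ℂ (Fin d → ℂ))ˣ) : Module.End ℂ (Fin d → ℂ)) v)) := rfl

variable {ρ σ}

/-- A nonzero subspace of `Hom_N(ρ, σ)` stable under a set of intertwiners covering `G` is everything. -/
theorem homRep_stable_eq_top [σ.IsIrreducible] (E : Subgroup (interGroup N ρ))
    (hE : ∀ g, ∃ x ∈ E, interFst N ρ x = g) (W : Submodule ℂ (homSpace ρ σ))
    (hW : ∀ x ∈ E, ∀ f ∈ W, homRep ρ σ x f ∈ W) (hW0 : W ≠ ⊥)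
    (hdim : c ≥ d * finrank ℂ (homSpace ρ σ)) : W = ⊤ := by
  classical
  let Φ : (Fin d → W) →ₗ[ℂ] (Fin c → ℂ) :=
    { toFun := fun F => ∑ i : Fin d, ((F i : homSpace ρ σ)).toLinearMap (Pi.single i 1)
      map_add' := fun F F' => by simp [Finset.sum_add_distrib]
      map_smul' := fun z F => by simp [Finset.smul_sum] }
  have hΦ : ∀ F, Φ F = ∑ i : Fin d, ((F i : homSpace ρ σ)).toLinearMap (Pi.single i 1) :=
    fun F => rfl
  have hmem : ∀ (f : W) (v : Fin d → ℂ),
      ((f : homSpace ρ σ)).toLinearMap v ∈ LinearMap.range Φ := by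
    intro f v
    refine ⟨fun i => v i • f, ?_⟩
    rw [hΦ]
    have hv : v = ∑ i, v i • (Pi.single i (1 : ℂ) : Fin d → ℂ) := by
      funext j; simp [Pi.single_apply]
    conv_rhs => rw [hv, map_sum]
    simp
  let U : Subrepresentation σ := ⟨LinearMap.range Φ, fun g u hu => by
    obtain ⟨F, rfl⟩ := hu
    rw [hΦ, map_sum]
    refine Submodule.sum_mem _ fun i _ => ?_
    obtain ⟨x, hx, rfl⟩ := hE g
    have h := hmem ⟨homRep ρ σ x (F i), hW x hx _ (F i).2⟩
      (((interSnd N ρ x : (Module.End ℂ (Fin d → ℂ))ˣ) : Module.End ℂ (Fin d → ℂ)) (Pi.single i 1))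
    rw [homRep_apply, ← Module.End.mul_apply, map_inv, Units.inv_mul, Module.End.one_apply] at h
    exact h⟩
  have hne : U ≠ ⊥ := by
    obtain ⟨f, hf, hf0⟩ := Submodule.exists_mem_ne_zero_of_ne_bot hW0
    intro hU
    refine hf0 (IntertwiningMap.ext (LinearMap.ext fun v => ?_))
    have h := hmem ⟨f, hf⟩ v
    have hU' : LinearMap.range Φ = ⊥ := congrArg (fun X : Subrepresentation σ => X.toSubmodule) hU
    rw [hU', Submodule.mem_bot] at h
    exact h
  have htop : LinearMap.range Φ = ⊤ :=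
    congrArg (fun X : Subrepresentation σ => X.toSubmodule) ((IsSimpleOrder.eq_bot_or_eq_top U).resolve_left hne)
  have h1 : c ≤ d * finrank ℂ W := by
    haveI : Module.Free ℂ W := Module.Free.of_divisionRing ℂ W
    have := LinearMap.finrank_range_le Φ
    rwa [htop, finrank_top, finrank_fin_fun, Module.finrank_pi_fintype, Finset.sum_const, Finset.card_univ,
      Fintype.card_fin, smul_eq_mul] at this
  have hc : 0 < c := by
    have := CfsgLib.CharTheory.finrank_pos_of_isIrreducible σ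
    rwa [finrank_fin_fun] at this
  have hd : 0 < d := by
    rcases Nat.eq_zero_or_pos d with h | h
    · have h2 : c ≤ 0 * finrank ℂ W := h1.trans (le_of_eq (congrArg (· * finrank ℂ W) h))
      omega
    · exact h
  exact Submodule.eq_top_of_finrank_eq (le_antisymm (Submodule.finrank_le W)
    (Nat.le_of_mul_le_mul_left (hdim.trans h1) hd))

variable (ρ) in
/-- Intertwiners of determinant one. -/
noncomputable def interGroupOne : Subgroup (interGroup N ρ) :=
  MonoidHom.ker ((Units.map (LinearMap.det : Module.End ℂ (Fin d → ℂ) →* ℂ)).comp (interSnd N ρ))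

theorem mem_interGroupOne {x : interGroup N ρ} :
    x ∈ interGroupOne ρ ↔
      LinearMap.det ((interSnd N ρ x : (Module.End ℂ (Fin d → ℂ))ˣ) : Module.End ℂ (Fin d → ℂ)) = 1 := by
  rw [interGroupOne, MonoidHom.mem_ker, Units.ext_iff]; rfl

theorem det_interScalar (z : ℂˣ) :
    LinearMap.det ((interSnd N ρ (interScalar N ρ z) : (Module.End ℂ (Fin d → ℂ))ˣ) : Module.End ℂ (Fin d → ℂ))
      = (z : ℂ) ^ d := by
  show LinearMap.det (algebraMap ℂ (Module.End ℂ (Fin d → ℂ)) z) = _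
  rw [Module.algebraMap_end_eq_smul_id, LinearMap.det_smul, LinearMap.det_id, mul_one, finrank_fin_fun]

variable [Finite G] [ρ.IsIrreducible]

variable (N ρ) in
include N ρ in
omit [Finite G] hN in
theorem degree_pos : 0 < d := by
  have := CfsgLib.CharTheory.finrank_pos_of_isIrreducible ρ
  rwa [finrank_fin_fun] at this

theorem interGroupOne_surjective
    (hinv : ∀ (g : G) (n : N), ρ.character (MulAut.conjNormal g n) = ρ.character n) (g : G) :
    ∃ x ∈ interGroupOne ρ, interFst N ρ x = g := by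
  have hd : 0 < d := degree_pos N ρ
  obtain ⟨x, hx⟩ := interFst_surjective hinv g
  set δ := LinearMap.det ((interSnd N ρ x : (Module.End ℂ (Fin d → ℂ))ˣ) : Module.End ℂ (Fin d → ℂ)) with hδ
  have hδ0 : δ ≠ 0 := ((interSnd N ρ x).isUnit.map (LinearMap.det (M := Fin d → ℂ))).ne_zero
  obtain ⟨r, hr⟩ := IsAlgClosed.exists_pow_nat_eq δ⁻¹ hd
  have hr0 : r ≠ 0 := by
    rintro rfl
    rw [zero_pow hd.ne'] at hr
    exact inv_ne_zero hδ0 hr.symm
  refine ⟨interScalar N ρ (Units.mk0 r hr0) * x, ?_, by rw [map_mul, interFst_scalar, one_mul, hx]⟩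
  rw [mem_interGroupOne, map_mul, Units.val_mul, map_mul, det_interScalar, Units.val_mk0, hr,
    inv_mul_cancel₀ hδ0]

theorem finite_interGroupOne
    (hinv : ∀ (g : G) (n : N), ρ.character (MulAut.conjNormal g n) = ρ.character n) :
    Finite (interGroupOne ρ) := by
  classical
  have hd : 0 < d := degree_pos N ρ
  choose s hs hsg using interGroupOne_surjective hinv
  have hsc : ∀ x : interGroupOne ρ, ∃ z : ℂˣ,
      (x : interGroup N ρ) = interScalar N ρ z * s (interFst N ρ x) :=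
    fun x => exists_scalar_of_interFst_eq _ _ (hsg _).symm
  choose z hz using hsc
  have hzd : ∀ x, z x ∈ rootsOfUnity d ℂ := fun x => by
    have h := mem_interGroupOne.mp x.2
    rw [hz x, map_mul, Units.val_mul, map_mul, det_interScalar, mem_interGroupOne.mp (hs _), mul_one] at h
    exact Units.ext (by simpa using h)
  haveI : NeZero d := ⟨hd.ne'⟩
  refine Finite.of_injective
    (fun x : interGroupOne ρ => (interFst N ρ (x : interGroup N ρ), (⟨z x, hzd x⟩ : rootsOfUnity d ℂ))) ?_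
  intro x y hxy
  simp only [Prod.mk.injEq, Subtype.mk.injEq] at hxy
  exact Subtype.ext (by rw [hz x, hz y, hxy.1, hxy.2])

/-- If the restriction of an irreducible representation is homogeneous of multiplicity `e`, then `e` divides
the index. -/
theorem mult_dvd_index_of_invariant [σ.IsIrreducible]
    (hinv : ∀ (g : G) (n : N), ρ.character (MulAut.conjNormal g n) = ρ.character n) {e : ℕ}
    (he : finrank ℂ (homSpace ρ σ) = e) (hdeg : c = e * d) : e ∣ N.index := by
  classical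
  have hd : 0 < d := degree_pos N ρ
  have hc : 0 < c := by
    have := CfsgLib.CharTheory.finrank_pos_of_isIrreducible σ
    rwa [finrank_fin_fun] at this
  haveI := finite_interGroupOne (ρ := ρ) hinv
  haveI : Nontrivial (homSpace ρ σ) := Module.nontrivial_of_finrank_pos (R := ℂ) (by
    rw [he]; exact Nat.pos_of_ne_zero fun h => by rw [h, zero_mul] at hdeg; omega)
  let τ : Representation ℂ (interGroupOne ρ) (homSpace ρ σ) := (homRep ρ σ).comp (interGroupOne ρ).subtype
  haveI : τ.IsIrreducible := by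
    haveI : Nontrivial (Subrepresentation τ) := ⟨⊥, ⊤, fun h => bot_ne_top
      (congrArg (fun X : Subrepresentation τ => X.toSubmodule) h : (⊥ : Submodule ℂ (homSpace ρ σ)) = ⊤)⟩
    refine ⟨fun W => ?_⟩
    by_cases h : W.toSubmodule = ⊥
    · exact Or.inl (Subrepresentation.toSubmodule_injective h)
    · refine Or.inr (Subrepresentation.toSubmodule_injective ?_)
      exact homRep_stable_eq_top (interGroupOne ρ) (interGroupOne_surjective hinv) W.toSubmodule
        (fun x hx f hf => W.apply_mem_toSubmodule ⟨x, hx⟩ hf) h (by rw [he, mul_comm]; exact hdeg.ge)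
  have h := finrank_dvd_index_of_scalar τ (N.comap ((interFst N ρ).comp (interGroupOne ρ).subtype)) ?_
  · rw [he, Subgroup.index_comap_of_surjective N] at h
    · exact h
    · intro g
      obtain ⟨x, hx, hxg⟩ := interGroupOne_surjective hinv g
      exact ⟨⟨x, hx⟩, hxg⟩
  rintro ⟨x, hx⟩ hxN
  obtain ⟨z, hz⟩ := exists_scalar_of_interFst_eq x (interIncl N ρ ⟨interFst N ρ x, hxN⟩) rfl
  refine ⟨(z : ℂ)⁻¹, LinearMap.ext fun f => IntertwiningMap.ext (LinearMap.ext fun v => ?_)⟩
  set n : N := ⟨interFst N ρ x, hxN⟩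
  show (homRep ρ σ x f).toLinearMap v = ((z : ℂ)⁻¹ • f.toLinearMap) v
  rw [homRep_apply]
  have hinvx : ((interSnd N ρ x⁻¹ : (Module.End ℂ (Fin d → ℂ))ˣ) : Module.End ℂ (Fin d → ℂ))
      = (z : ℂ)⁻¹ • ρ n⁻¹ := by
    conv_lhs => rw [hz]
    rw [mul_inv_rev, map_mul, Units.val_mul, ← map_inv, ← map_inv]
    show ρ n⁻¹ * algebraMap ℂ (Module.End ℂ (Fin d → ℂ)) ((z⁻¹ : ℂˣ) : ℂ) = _
    rw [← Algebra.commutes, Algebra.algebraMap_eq_smul_one, smul_one_mul, Units.val_inv_eq_inv_val]
  rw [hinvx, LinearMap.smul_apply, map_smul, map_smul, LinearMap.smul_apply]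
  have hf := LinearMap.congr_fun (f.isIntertwining' n⁻¹) v
  change f.toLinearMap (ρ n⁻¹ v) = σ ((n⁻¹ : N) : G) (f.toLinearMap v) at hf
  rw [hf, show interFst N ρ x = (n : G) from rfl, ← Module.End.mul_apply, ← map_mul, Subgroup.coe_inv,
    mul_inv_cancel, map_one, Module.End.one_apply]

end CfsgLib.RealChar
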