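import Mathlib
import Cfsg.Prelude.Def_Characters
import Cfsg.Agent.Lib.RealChar.CliffordInvariant
import Cfsg.Agent.Lib.RealChar.HomRep
import Cfsg.Agent.Lib.Brauer.IndCalc
import Cfsg.Agent.Lib.Coherence.Virtual

/-!
# The ratio of degrees divides the index of a normal subgroup
-/

set_option autoImplicit false
set_option linter.style.haveILetI false
set_option backward.isDefEq.respectTransparency false

open scoped ComplexConjugate
open Cfsg CfsgLib.CharTheory

namespace CfsgLib.RealChar

variable {G : Type*} [Group G] [Fintype G] (N : Subgroup G) [N.Normal]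

/-- A conjugate of an irreducible character is irreducible. -/
theorem isIrrCharacter_conjFun [Fintype N] {ϑ : N → ℂ} (h : IsIrrCharacter N ϑ) (g : G) :
    IsIrrCharacter N (conjFun N ϑ g) := by
  have hc : IsCharacter N (conjFun N ϑ g) :=
    CfsgLib.Coherence.isCharacter_comp (IsIrrCharacter.isCharacter h) (MulAut.conjNormal g : MulAut N).toMonoidHom
  rw [isIrrCharacter_iff_norm_one hc]
  rw [← classInner_self_of_isIrr h]
  unfold classInner conjFun
  congr 1
  exact Fintype.sum_equiv (MulAut.conjNormal g : MulAut N).toEquiv _ _ fun n => rfl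

/-- The inertia group. -/
def inertia (ϑ : N → ℂ) : Subgroup G where
  carrier := {g | conjFun N ϑ g = ϑ}
  one_mem' := funext fun n => by
    show ϑ (MulAut.conjNormal (1 : G) n) = ϑ n
    rw [map_one, MulAut.one_apply]
  mul_mem' := fun {a b} ha hb => funext fun n => by
    show ϑ (MulAut.conjNormal (a * b) n) = ϑ n
    rw [map_mul, MulAut.mul_apply]
    exact (congrFun ha _).trans (congrFun hb n)
  inv_mem' := fun {a} ha => funext fun n => by
    show ϑ (MulAut.conjNormal a⁻¹ n) = ϑ n
    rw [← congrFun ha (MulAut.conjNormal a⁻¹ n)]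
    show ϑ (MulAut.conjNormal a (MulAut.conjNormal a⁻¹ n)) = ϑ n
    rw [← MulAut.mul_apply, ← map_mul, mul_inv_cancel, map_one, MulAut.one_apply]

theorem mem_inertia {ϑ : N → ℂ} {g : G} : g ∈ inertia N ϑ ↔ conjFun N ϑ g = ϑ := Iff.rfl

theorem le_inertia {ϑ : N → ℂ} (h : IsClassFunction N ϑ) : N ≤ inertia N ϑ := fun g hg => funext fun n => by
  have : (MulAut.conjNormal g n : N) = ⟨g, hg⟩ * n * ⟨g, hg⟩⁻¹ := Subtype.ext (MulAut.conjNormal_apply g n)
  show ϑ (MulAut.conjNormal g n) = ϑ n
  rw [this]; exact h n ⟨g, hg⟩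

/-- The invariant case: the multiplicity divides the index. -/
theorem invariant_mult_dvd_index [Fintype N] {χ : G → ℂ} (hχ : IsIrrCharacter G χ) {ϑ : N → ℂ}
    (hϑ : IsIrrCharacter N ϑ) (hinv : ∀ g, conjFun N ϑ g = ϑ)
    {e : ℕ} (he : (fun n : N => χ n) = (e : ℂ) • ϑ) : e ∣ N.index := by
  obtain ⟨c, σ, hσ, rfl⟩ := hχ
  obtain ⟨d, ρ, hρ, rfl⟩ := hϑ
  refine mult_dvd_index_of_invariant (ρ := ρ) (σ := σ) (fun g n => congrFun (hinv g) n) ?_ ?_
  · let σN : Representation ℂ N (Fin c → ℂ) := σ.comp N.subtype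
    have h := classInner_character_eq_finrank ρ σN
    have h1 : σN.character = (e : ℂ) • ρ.character := he
    rw [h1, classInner_smul_left, classInner_self_of_isIrr ⟨d, ρ, hρ, rfl⟩, mul_one] at h
    exact_mod_cast h.symm
  · have h := congrFun he 1
    simp only [Pi.smul_apply, smul_eq_mul, OneMemClass.coe_one, Representation.char_one,
      Module.finrank_fin_fun] at h
    exact_mod_cast h

/-- The degree ratio divides the index. -/
theorem degree_div_dvd_index [Fintype N] {χ : G → ℂ} (hχ : IsIrrCharacter G χ) {ϑ : N → ℂ}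
    (hϑ : IsIrrCharacter N ϑ) (hcon : classInner (fun n : N => χ n) ϑ ≠ 0) :
    ∃ r : ℕ, r ∣ N.index ∧ χ 1 = (r : ℂ) * ϑ 1 := by
  classical
  set T := inertia N ϑ with hT
  have hNT : N ≤ T := le_inertia N (IsIrrCharacter.isClassFunction hϑ)
  haveI := Fintype.ofFinite T
  haveI := Fintype.ofFinite (N.subgroupOf T)
  haveI := Fintype.ofFinite (IrrCharacter T)
  haveI := Fintype.ofFinite (IrrCharacter G)
  let N' := N.subgroupOf T
  let e' : N' ≃* N := Subgroup.subgroupOfEquivOfLe hNT
  let ϑ' : N' → ℂ := fun k => ϑ (e' k)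
  have hϑ' : IsIrrCharacter N' ϑ' := by
    have hc : IsCharacter N' ϑ' := CfsgLib.Coherence.isCharacter_comp (IsIrrCharacter.isCharacter hϑ) e'.toMonoidHom
    rw [isIrrCharacter_iff_norm_one hc, ← classInner_self_of_isIrr hϑ]
    unfold classInner
    rw [Nat.card_congr e'.toEquiv]
    congr 1
    exact Fintype.sum_equiv e'.toEquiv _ _ fun k => rfl
  have hinv' : ∀ t : T, conjFun N' ϑ' t = ϑ' := fun t => funext fun k => by
    have h1 : e' (MulAut.conjNormal t k) = MulAut.conjNormal (t : G) (e' k) := Subtype.ext (by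
      rw [MulAut.conjNormal_apply]
      show (((MulAut.conjNormal t k : N') : T) : G) = _
      rw [MulAut.conjNormal_apply]
      rfl)
    show ϑ (e' (MulAut.conjNormal t k)) = ϑ (e' k)
    rw [h1]
    exact congrFun ((mem_inertia N).mp t.2) (e' k)
  have hind : Cfsg.indFun T (Cfsg.indFun N' ϑ') = Cfsg.indFun N ϑ := CfsgLib.Brauer.indFun_indFun_subgroupOf hNT ϑ
  obtain ⟨m, hm⟩ := IsCharacter.exists_sum
    (CfsgLib.Frobenius.isCharacter_indFun N' ϑ' (IsIrrCharacter.isCharacter hϑ'))
  have hnz : classInner (Cfsg.indFun N ϑ) χ ≠ 0 := by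
    rw [classInner_indFun_irr N ϑ ⟨χ, hχ⟩, classInner_conj_symm]
    simpa using hcon
  rw [← hind, hm, CfsgLib.Frobenius.indFun_sum, classInner_sum_left] at hnz
  obtain ⟨ψ, -, hψ⟩ := Finset.exists_ne_zero_of_sum_ne_zero hnz
  rw [CfsgLib.Frobenius.indFun_smul, classInner_smul_left, mul_ne_zero_iff] at hψ
  obtain ⟨hm0, hψχ⟩ := hψ
  -- the restriction of `ψ`
  have hψcon : classInner (fun k : N' => (ψ : T → ℂ) k) ϑ' ≠ 0 := by
    have h1 := classInner_indFun_irr N' ϑ' ψ
    rw [hm, classInner_sum_irr] at h1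
    rw [classInner_conj_symm, ← h1, map_natCast]
    exact hm0
  obtain ⟨f, hf0, hf, hfmult⟩ := exists_res_eq_nsmul N' ψ.2 hϑ' hinv' hψcon
  have hfdvd : f ∣ N.relIndex T := invariant_mult_dvd_index N' ψ.2 hϑ' hinv' hf
  -- the induced character is irreducible
  set η := Cfsg.indFun T (ψ : T → ℂ) with hη
  have hηc : IsCharacter G η := CfsgLib.Frobenius.isCharacter_indFun T _ (IsIrrCharacter.isCharacter ψ.2)
  have hηN : classInner (fun n : N => η n) ϑ = (f : ℂ) := by
    have hval : ∀ n : N, η n = (Nat.card T : ℂ)⁻¹ * ∑ x : G, (f : ℂ) * conjFun N ϑ x⁻¹ n := by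
      intro n
      show (Nat.card T : ℂ)⁻¹ * _ = _
      congr 1
      refine Finset.sum_congr rfl fun x _ => ?_
      have hx : x⁻¹ * (n : G) * x = ((MulAut.conjNormal x⁻¹ n : N) : G) := by
        rw [MulAut.conjNormal_apply, inv_inv]
      have hmemN : x⁻¹ * (n : G) * x ∈ N := by rw [hx]; exact (MulAut.conjNormal x⁻¹ n).2
      have hmem : x⁻¹ * (n : G) * x ∈ T := hNT hmemN
      rw [CfsgLib.Frobenius.extendByZero_of_mem T _ hmem]
      have h2 := congrFun hf (⟨⟨x⁻¹ * (n : G) * x, hmem⟩, hmemN⟩ : N')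
      simp only [Pi.smul_apply, smul_eq_mul] at h2
      rw [h2]
      exact congrArg (fun v => (f : ℂ) * ϑ v) (Subtype.ext hx)
    have hexp : (fun n : N => η n) = ((Nat.card T : ℂ)⁻¹ * (f : ℂ)) • ∑ x : G, conjFun N ϑ x⁻¹ := by
      funext n
      rw [hval, Pi.smul_apply, Finset.sum_apply, smul_eq_mul, mul_assoc, Finset.mul_sum (a := (f : ℂ))]
    rw [hexp, classInner_smul_left, classInner_sum_left,
      Finset.sum_congr rfl fun x _ => show classInner (conjFun N ϑ x⁻¹) ϑ = if x ∈ T then 1 else 0 by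
        split_ifs with hx
        · rw [(mem_inertia N).mp (T.inv_mem hx), classInner_self_of_isIrr hϑ]
        · exact classInner_eq_zero_of_ne (isIrrCharacter_conjFun N hϑ _) hϑ fun h => hx (by
            simpa using T.inv_mem ((mem_inertia N).mpr h)),
      Finset.sum_boole, ← Fintype.card_subtype, ← Nat.card_eq_fintype_card, mul_comm, ← mul_assoc,
      mul_inv_cancel₀ (Nat.cast_ne_zero.mpr (Nat.card_pos (α := T)).ne'), one_mul]
  obtain ⟨r, hr⟩ := IsCharacter.exists_sum (CfsgLib.Brauer.isCharacter_res hηc T)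
  have hrψ : r ψ ≤ 1 := by
    have hk : ∀ φ : IrrCharacter T, ∃ k : ℕ, classInner (fun k : N' => (φ : T → ℂ) k) ϑ' = k := fun φ =>
      IsCharacter.exists_classInner_eq_nat (CfsgLib.Brauer.isCharacter_res (IsIrrCharacter.isCharacter φ.2) N')
        ⟨ϑ', hϑ'⟩
    choose k hk using hk
    have h1 : classInner (fun k : N' => η ((k : T) : G)) ϑ' = (f : ℂ) := by
      rw [← hηN]
      unfold classInner
      rw [Nat.card_congr e'.toEquiv]
      congr 1
      exact Fintype.sum_equiv e'.toEquiv _ _ fun k => rfl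
    have h2 : (fun k : N' => η ((k : T) : G)) = ∑ φ, (r φ : ℂ) • fun k : N' => (φ : T → ℂ) k := by
      funext j
      have := congrFun hr (j : T)
      simp only [Finset.sum_apply, Pi.smul_apply] at this ⊢
      exact this
    rw [h2, classInner_sum_left] at h1
    simp only [classInner_smul_left, hk, ← Nat.cast_mul, ← Nat.cast_sum, Nat.cast_inj] at h1
    have hkψ : k ψ = f := by exact_mod_cast (hk ψ).symm.trans hfmult
    have h3 : r ψ * f ≤ f := by
      calc r ψ * f = r ψ * k ψ := by rw [hkψ]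
        _ ≤ ∑ φ, r φ * k φ := Finset.single_le_sum (f := fun φ => r φ * k φ) (fun φ _ => Nat.zero_le _) (Finset.mem_univ ψ)
        _ = f := h1
    exact Nat.le_of_mul_le_mul_right (by rwa [one_mul]) (Nat.pos_of_ne_zero hf0)
  have hnorm : classInner η η = (r ψ : ℂ) := by
    rw [CfsgLib.Frobenius.classInner_indFun T _ η (IsCharacter.isClassFunction hηc), classInner_conj_symm,
      hr, classInner_sum_irr, map_natCast]
  have hη1 : η 1 = (T.index : ℂ) * (ψ : T → ℂ) 1 := CfsgLib.Frobenius.indFun_one T _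
  have hirr : IsIrrCharacter G η := by
    rw [isIrrCharacter_iff_norm_one hηc, hnorm]
    have hne : classInner η η ≠ 0 := by
      intro h0
      have h2 : ∀ g, η g = 0 := by
        intro g
        have h3 : (((∑ x : G, Complex.normSq (η x) : ℝ)) : ℂ) = 0 := by
          simp only [classInner, mul_eq_zero, inv_eq_zero, Nat.cast_eq_zero, Nat.card_pos.ne', false_or,
            Complex.mul_conj] at h0
          exact_mod_cast h0
        rw [Complex.ofReal_eq_zero, Finset.sum_eq_zero_iff_of_nonneg fun x _ => Complex.normSq_nonneg _] at h3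
        exact Complex.normSq_eq_zero.mp (h3 g (Finset.mem_univ g))
      have := h2 1
      rw [hη1] at this
      exact mul_ne_zero (Nat.cast_ne_zero.mpr T.index_ne_zero_of_finite) (apply_one_ne_zero_of_isIrr ψ.2) this
    rw [hnorm] at hne
    have : r ψ ≠ 0 := fun h => hne (by rw [h, Nat.cast_zero])
    rw [show r ψ = 1 by omega, Nat.cast_one]
  have hχη : η = χ := by
    by_contra hne
    exact hψχ (classInner_eq_zero_of_ne hirr hχ hne)
  refine ⟨T.index * f, ?_, ?_⟩
  · rw [← Subgroup.relIndex_mul_index hNT, mul_comm (N.relIndex T)]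
    exact mul_dvd_mul_left _ hfdvd
  · rw [← hχη, hη1, Nat.cast_mul, mul_assoc]
    congr 1
    have h := congrFun hf 1
    simp only [Pi.smul_apply, smul_eq_mul, OneMemClass.coe_one] at h
    rw [h]
    exact congrArg (fun v => (f : ℂ) * ϑ v) (map_one e')

end CfsgLib.RealChar
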