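import Cfsg.Agent.Lib.CharTheory.Orthogonality
import Cfsg.Agent.Lib.CharTheory.Ito
import Cfsg.Agent.Lib.CharTheory.Inflation
import Cfsg.Agent.Lib.Correspondences.CharKer

/-!
# The Feit–Thompson degree bound for an abelian subgroup
-/

set_option autoImplicit false
set_option linter.unusedSectionVars false
set_option linter.style.haveILetI false

open scoped ComplexConjugate
open Cfsg CfsgLib.CharTheory

namespace CfsgLib.RealChar

variable {G : Type*} [Group G]

/-- A central element multiplies an irreducible character by a number of absolute value one. -/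
theorem exists_central_scalar [Finite G] {χ : G → ℂ} (hχ : IsIrrCharacter G χ) {z : G}
    (hz : z ∈ Subgroup.center G) : ∃ ω : ℂ, ‖ω‖ = 1 ∧ ∀ g : G, χ (z * g) = ω * χ g := by
  obtain ⟨n, ρ, hρ, rfl⟩ := hχ
  haveI := hρ
  obtain ⟨ω, hω⟩ := exists_smul_of_commute ρ (ρ z) fun g => by
    show ρ z * ρ g = ρ g * ρ z
    rw [← map_mul, ← map_mul, (Subgroup.mem_center_iff.mp hz g).symm]
  haveI := nontrivial_of_isIrreducible ρ
  refine ⟨ω, norm_eq_one_of_smul_id ρ hω, fun g => ?_⟩
  show LinearMap.trace ℂ _ (ρ (z * g)) = ω * LinearMap.trace ℂ _ (ρ g)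
  rw [map_mul, hω, ← Module.End.one_eq_id, smul_mul_assoc, one_mul, map_smul, smul_eq_mul]

theorem sum_normSq_eq [Fintype G] {f : G → ℂ} :
    ((∑ g : G, Complex.normSq (f g) : ℝ) : ℂ) = (Nat.card G : ℂ) * classInner f f := by
  rw [classInner, ← mul_assoc, mul_inv_cancel₀ (Nat.cast_ne_zero.mpr Nat.card_pos.ne'), one_mul,
    Complex.ofReal_sum]
  exact Finset.sum_congr rfl fun g _ => (Complex.mul_conj _).symm

/-- The average of `χ` over the coset `g H`. -/
noncomputable def rightAvg (H : Subgroup G) [Fintype H] (χ : G → ℂ) (g : G) : ℂ :=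
  (Nat.card H : ℂ)⁻¹ * ∑ a : H, χ (g * a)

theorem rightAvg_one [Fintype G] (H : Subgroup G) [Fintype H] (χ : G → ℂ) :
    rightAvg H χ 1 = classInner (fun h : H => χ h) (fun _ => 1) := by
  simp [rightAvg, classInner]

theorem rightAvg_of_mem [Fintype G] (H : Subgroup G) [Fintype H] (χ : G → ℂ) {a : G} (ha : a ∈ H)
    (g : G) : rightAvg H χ (g * a) = rightAvg H χ g := by
  simp only [rightAvg]
  congr 1
  exact Fintype.sum_equiv (Equiv.mulLeft (⟨a, ha⟩ : H)) _ _ fun x => by simp [mul_assoc]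

/-- On a group normalising `H` the nontrivial-on-`H` part of a character has positive norm. -/
theorem sum_normSq_sub_ge (N H : Subgroup G) [Fintype N] [Fintype H] (hHN : H ≤ N)
    (hN : N ≤ Subgroup.normalizer (H : Set G)) {χ : G → ℂ}
    (hχ : IsCharacter N (fun x : N => χ x)) (hker : ∃ h ∈ H, χ h ≠ χ 1) :
    ∑ x : N, Complex.normSq (rightAvg H χ x) + Nat.card N ≤ ∑ x : N, Complex.normSq (χ x) := by
  classical
  haveI := Fintype.ofFinite (IrrCharacter N)
  haveI hKn : (H.subgroupOf N).Normal := Subgroup.normal_subgroupOf_of_le_normalizer hN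
  haveI := Fintype.ofFinite (H.subgroupOf N)
  set K : Subgroup N := H.subgroupOf N
  let e : K ≃* H := Subgroup.subgroupOfEquivOfLe hHN
  obtain ⟨m, hm⟩ := IsCharacter.exists_sum hχ
  let triv : IrrCharacter N → Prop := fun ψ => ∀ k ∈ K, (ψ : N → ℂ) k = (ψ : N → ℂ) 1
  have hθ : (fun x : N => rightAvg H χ x) =
      ∑ ψ, (if triv ψ then (m ψ : ℂ) else 0) • (ψ : N → ℂ) := by
    funext x
    have h1 : ∑ a : H, χ ((x : G) * a) = ∑ k : K, (fun y : N => χ y) (x * k) :=
      (Fintype.sum_equiv e.toEquiv _ _ fun k => by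
        simp [e, Subgroup.subgroupOfEquivOfLe]).symm
    rw [rightAvg, h1, hm, Finset.sum_apply]
    simp only [Finset.sum_apply, Pi.smul_apply, smul_eq_mul]
    rw [Finset.sum_comm, Finset.mul_sum]
    refine Finset.sum_congr rfl fun ψ _ => ?_
    rw [← Finset.mul_sum]
    by_cases ht : triv ψ
    · rw [if_pos ht, Finset.sum_congr rfl fun (k : K) _ =>
        CfsgLib.Correspondences.apply_mul_of_mem_ker (IsIrrCharacter.isCharacter ψ.2) (ht k k.2) x,
        Finset.sum_const, Finset.card_univ, ← Nat.card_eq_fintype_card,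
        Nat.card_congr e.toEquiv, nsmul_eq_mul]
      have : (Nat.card H : ℂ) ≠ 0 := Nat.cast_ne_zero.mpr Nat.card_pos.ne'
      field_simp
    · rw [if_neg ht]
      simp only [triv, not_forall, exists_prop] at ht
      rw [CfsgLib.Correspondences.sum_coset_eq_zero ψ.2 K ht x]
      simp
  obtain ⟨ψ₀, hψ₀, hm₀⟩ : ∃ ψ, ¬ triv ψ ∧ m ψ ≠ 0 := by
    by_contra hcon
    push Not at hcon
    obtain ⟨h, hh, hne⟩ := hker
    refine hne ?_
    have h1 := congrFun hm ⟨h, hHN hh⟩
    have h2 := congrFun hm 1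
    simp only [Finset.sum_apply, Pi.smul_apply] at h1 h2
    rw [show χ h = _ from h1, show χ 1 = _ from h2]
    refine Finset.sum_congr rfl fun ψ _ => ?_
    by_cases ht : triv ψ
    · rw [ht ⟨h, hHN hh⟩ hh]
    · simp [hcon ψ ht]
  have e1 : classInner (fun x : N => χ x) (fun x : N => χ x)
      = ((∑ ψ, m ψ * m ψ : ℕ) : ℂ) := by
    rw [hm, classInner_sum_right]
    simp only [classInner_smul_right, classInner_sum_irr]
    push_cast
    simp
  have e2 : classInner (fun x : N => rightAvg H χ x) (fun x : N => rightAvg H χ x)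
      = ((∑ ψ, if triv ψ then m ψ * m ψ else 0 : ℕ) : ℂ) := by
    rw [hθ, classInner_sum_right]
    simp only [classInner_smul_right, classInner_sum_irr]
    push_cast
    refine Finset.sum_congr rfl fun ψ _ => ?_
    split_ifs <;> simp
  have s1 := sum_normSq_eq (f := fun x : N => χ x)
  have s2 := sum_normSq_eq (f := fun x : N => rightAvg H χ x)
  rw [e1, ← Complex.ofReal_natCast, ← Complex.ofReal_natCast, ← Complex.ofReal_mul,
    Complex.ofReal_inj] at s1
  rw [e2, ← Complex.ofReal_natCast, ← Complex.ofReal_natCast, ← Complex.ofReal_mul,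
    Complex.ofReal_inj] at s2
  have hnat : (∑ ψ, if triv ψ then m ψ * m ψ else 0) + 1 ≤ ∑ ψ, m ψ * m ψ := by
    rw [Nat.add_one_le_iff]
    refine Finset.sum_lt_sum (fun ψ _ => ?_) ⟨ψ₀, Finset.mem_univ _, ?_⟩
    · split_ifs <;> simp
    · rw [if_neg hψ₀]
      exact Nat.mul_pos (Nat.pos_of_ne_zero hm₀) (Nat.pos_of_ne_zero hm₀)
  rw [s1, s2]
  calc _ = (Nat.card N : ℝ) * (((∑ ψ, if triv ψ then m ψ * m ψ else 0) + 1 : ℕ) : ℝ) := by
        push_cast
        ring
    _ ≤ _ := mul_le_mul_of_nonneg_left (Nat.cast_le.mpr hnat) (Nat.cast_nonneg _)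

/-- For `g` normalising `H` and centralising no nontrivial element, right translation by `H` is conjugation. -/
theorem rightAvg_eq_of_free [Fintype G] (H : Subgroup G) [Fintype H]
    {χ : G → ℂ} (hχ : IsClassFunction G χ) {g : G}
    (hg : g ∈ Subgroup.normalizer (H : Set G)) (hfree : ∀ a ∈ H, a * g = g * a → a = 1) :
    rightAvg H χ g = χ g := by
  have hmem : ∀ a : H, g⁻¹ * (a : G) * g * (a : G)⁻¹ ∈ H := fun a =>
    H.mul_mem ((Subgroup.mem_normalizer_iff''.mp hg a).mp a.2) (H.inv_mem a.2)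
  let F : H → H := fun a => ⟨_, hmem a⟩
  have hinj : Function.Injective F := by
    intro a b hab'
    have h : g⁻¹ * (a : G) * g * (a : G)⁻¹ = g⁻¹ * (b : G) * g * (b : G)⁻¹ :=
      congrArg Subtype.val hab'
    refine Subtype.ext (inv_mul_eq_one.mp (hfree ((a : G)⁻¹ * b) (H.mul_mem (H.inv_mem a.2) b.2) ?_))
    have ha' : g⁻¹ * (a : G) * g ∈ H := (Subgroup.mem_normalizer_iff''.mp hg a).mp a.2
    have hb' : g⁻¹ * (b : G) * g ∈ H := (Subgroup.mem_normalizer_iff''.mp hg b).mp b.2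
    have h2 : (g⁻¹ * (a : G) * g)⁻¹ * (g⁻¹ * (b : G) * g) = (a : G)⁻¹ * b := by
      have h3 : g⁻¹ * (b : G) * g = g⁻¹ * (a : G) * g * ((a : G)⁻¹ * b) := by
        rw [← mul_assoc, h]
        group
      rw [h3]
      group
    calc (a : G)⁻¹ * b * g = g * ((g⁻¹ * (a : G) * g)⁻¹ * (g⁻¹ * (b : G) * g)) := by group
      _ = g * ((a : G)⁻¹ * b) := by rw [h2]
  have hbij : Function.Bijective F := Finite.injective_iff_bijective.mp hinj
  rw [rightAvg, ← Fintype.sum_equiv (Equiv.ofBijective F hbij) (fun a : H => χ (g * F a))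
    (fun a : H => χ (g * a)) (fun a => rfl)]
  have h1 : ∀ a : H, χ (g * (F a : G)) = χ g := fun a => by
    rw [show g * (F a : G) = (a : G) * g * (a : G)⁻¹ by simp only [F]; group]
    exact hχ g a
  rw [Finset.sum_congr rfl fun a _ => h1 a, Finset.sum_const, Finset.card_univ,
    ← Nat.card_eq_fintype_card, nsmul_eq_mul, ← mul_assoc,
    inv_mul_cancel₀ (Nat.cast_ne_zero.mpr Nat.card_pos.ne'), one_mul]

/-- Feit–Thompson: `χ(1)² > |H| c²`. -/
theorem sq_degree_gt [Fintype G] (H : Subgroup G) [Fintype H]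
    (hab : ∀ a ∈ H, ∀ b ∈ H, a * b = b * a) (hZ : H ⊓ Subgroup.center G = ⊥)
    (hone : ∀ g : G, g ∉ Subgroup.center G → ∀ a b : G,
      Subgroup.centralizer ({g} : Set G) ⊓ H.map (MulAut.conj a).toMonoidHom ≠ ⊥ →
      Subgroup.centralizer ({g} : Set G) ⊓ H.map (MulAut.conj b).toMonoidHom ≠ ⊥ →
      H.map (MulAut.conj a).toMonoidHom = H.map (MulAut.conj b).toMonoidHom)
    {χ : G → ℂ} (hχ : IsIrrCharacter G χ) (hker : ∃ h ∈ H, χ h ≠ χ 1) :
    (Nat.card H : ℝ) * (classInner (fun h : H => χ h) (fun _ => 1)).re ^ 2 < (χ 1).re ^ 2 := by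
  classical
  have hcls := IsIrrCharacter.isClassFunction hχ
  obtain ⟨n, hn, hn1⟩ := exists_degree_of_isIrr hχ
  set N := Subgroup.normalizer (H : Set G) with hNdef
  have hHN : H ≤ N := Subgroup.le_normalizer
  set Z := Subgroup.center G with hZdef
  have hZN : Z ≤ N := Subgroup.center_le_normalizer _
  let P : G → Prop := fun g => g ∈ N ∧ g ∉ Z ∧ ∃ a ∈ H, a ≠ 1 ∧ a * g = g * a
  set c : ℂ := classInner (fun h : H => χ h) (fun _ => 1) with hc
  let F : G → ℝ := fun g => Complex.normSq (χ g)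
  let Φ : G → ℝ := fun g => Complex.normSq (rightAvg H χ g)
  have hG : ∑ g : G, F g = (Nat.card G : ℝ) := by
    have h := sum_normSq_eq (f := χ)
    rw [classInner_self_of_isIrr hχ, mul_one, ← Complex.ofReal_natCast, Complex.ofReal_inj] at h
    exact h
  have hFz : ∀ z ∈ Z, F z = (n : ℝ) ^ 2 := fun z hz => by
    obtain ⟨ω, hω, hmul⟩ := exists_central_scalar hχ hz
    show Complex.normSq (χ z) = _
    rw [← mul_one z, hmul 1, hn1, Complex.normSq_mul, Complex.normSq_eq_norm_sq, hω,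
      Complex.normSq_natCast]
    ring
  have hΦ : ∀ z ∈ Z, ∀ a ∈ H, Φ (z * a) = c.re ^ 2 := fun z hz a ha => by
    obtain ⟨ω, hω, hmul⟩ := exists_central_scalar hχ hz
    show Complex.normSq (rightAvg H χ (z * a)) = _
    rw [rightAvg_of_mem H χ ha, show rightAvg H χ z = ω * rightAvg H χ 1 by
      simp only [rightAvg, hmul, one_mul, Finset.mul_sum]
      exact Finset.sum_congr rfl fun x _ => by ring]
    rw [rightAvg_one, Complex.normSq_mul, Complex.normSq_eq_norm_sq ω, hω, one_pow, one_mul]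
    obtain ⟨k, hk⟩ := IsCharacter.exists_classInner_eq_nat
      (CfsgLib.Coherence.isCharacter_comp (IsIrrCharacter.isCharacter hχ) H.subtype) (trivIrr H)
    have hk' : classInner (fun h : H => χ h) (fun _ => 1) = (k : ℂ) := hk
    rw [hc, hk', Complex.normSq_natCast, Complex.natCast_re, sq]
  -- restricted to the normaliser
  have hNsum : ∀ f : G → ℝ, ∑ x : N, f x = ∑ g : G, if g ∈ N then f g else 0 := fun f => by
    rw [← Finset.sum_subtype (Finset.univ.filter (· ∈ N)) (by simp) f, Finset.sum_filter]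
  have hN := sum_normSq_sub_ge N H hHN le_rfl
    (CfsgLib.Coherence.isCharacter_comp (IsIrrCharacter.isCharacter hχ) N.subtype) hker
  rw [hNsum Φ, hNsum F] at hN
  have hsplit : ∀ g : G, (if g ∈ N then F g else 0) + (if g ∈ Z ∨ P g then Φ g else 0)
      ≤ (if P g then F g else 0) + (if g ∈ Z then (n : ℝ) ^ 2 else 0) + (if g ∈ N then Φ g else 0) := by
    intro g
    by_cases hgN : g ∈ N
    · by_cases hgZ : g ∈ Z
      · rw [if_pos hgN, if_pos (Or.inl hgZ), if_neg (fun h : P g => h.2.1 hgZ), if_pos hgZ,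
          if_pos hgN, hFz g hgZ]
        linarith
      · by_cases hgP : P g
        · rw [if_pos hgN, if_pos (Or.inr hgP), if_pos hgP, if_neg hgZ, if_pos hgN]
          linarith
        · rw [if_pos hgN, if_neg (not_or.mpr ⟨hgZ, hgP⟩), if_neg hgP, if_neg hgZ, if_pos hgN]
          have hfree : ∀ a ∈ H, a * g = g * a → a = 1 := fun a ha hag => by
            by_contra ha1
            exact hgP ⟨hgN, hgZ, a, ha, ha1, hag⟩
          show Complex.normSq (χ g) + 0 ≤ 0 + 0 + Complex.normSq (rightAvg H χ g)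
          rw [rightAvg_eq_of_free H hcls hgN hfree]
          simp
    · have hgZ : g ∉ Z := fun h => hgN (hZN h)
      have hgP : ¬ P g := fun h => hgN h.1
      simp [hgN, hgZ, hgP]
  have hsum := Finset.sum_le_sum fun g (_ : g ∈ Finset.univ) => hsplit g
  simp only [Finset.sum_add_distrib] at hsum
  have hcentre : ∑ g : G, (if g ∈ Z then (n : ℝ) ^ 2 else 0) = (Nat.card Z : ℝ) * (n : ℝ) ^ 2 := by
    rw [← Finset.sum_filter, Finset.sum_const, nsmul_eq_mul, ← Fintype.card_subtype,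
      ← Nat.card_eq_fintype_card]
  have hlow : (Nat.card Z : ℝ) * ((Nat.card H : ℝ) * c.re ^ 2)
      ≤ ∑ g : G, if g ∈ Z ∨ P g then Φ g else 0 := by
    have hinj : Function.Injective fun p : Z × H => (p.1 : G) * p.2 := by
      rintro ⟨z, a⟩ ⟨z', a'⟩ h
      simp only at h
      have hmem : (z' : G)⁻¹ * z ∈ H ⊓ Z := by
        refine ⟨?_, Z.mul_mem (Z.inv_mem z'.2) z.2⟩
        rw [show (z' : G)⁻¹ * z = (a' : G) * (a : G)⁻¹ by
          rw [eq_mul_inv_iff_mul_eq, mul_assoc, h, inv_mul_cancel_left]]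
        exact H.mul_mem a'.2 (H.inv_mem a.2)
      rw [hZ, Subgroup.mem_bot, inv_mul_eq_one] at hmem
      rw [hmem] at h
      exact Prod.ext (Subtype.ext hmem.symm) (Subtype.ext (mul_left_cancel h))
    calc (Nat.card Z : ℝ) * ((Nat.card H : ℝ) * c.re ^ 2)
        = ∑ p : Z × H, Φ ((p.1 : G) * p.2) := by
          rw [Finset.sum_congr rfl fun p _ => hΦ p.1 p.1.2 p.2 p.2.2, Finset.sum_const,
            Finset.card_univ, ← Nat.card_eq_fintype_card, Nat.card_prod, nsmul_eq_mul]
          push_cast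
          ring
      _ = ∑ g ∈ Finset.univ.image (fun p : Z × H => (p.1 : G) * p.2), Φ g :=
          (Finset.sum_image (fun x _ y _ hxy => hinj hxy)).symm
      _ ≤ ∑ g ∈ Finset.univ.filter (fun g => g ∈ Z ∨ P g), Φ g := by
          refine Finset.sum_le_sum_of_subset_of_nonneg ?_ fun g _ _ => Complex.normSq_nonneg _
          intro g hg
          obtain ⟨⟨z, a⟩, -, rfl⟩ := Finset.mem_image.mp hg
          refine Finset.mem_filter.mpr ⟨Finset.mem_univ _, ?_⟩
          by_cases ha : (a : G) = 1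
          · left
            simp [ha]
          · right
            refine ⟨N.mul_mem (hZN z.2) (hHN a.2), fun h => ha ?_, a, a.2, ha, ?_⟩
            · have h1 : (a : G) ∈ H ⊓ Z := ⟨a.2, by
                have := Z.mul_mem (Z.inv_mem z.2) h
                rwa [inv_mul_cancel_left] at this⟩
              rwa [hZ] at h1
            · rw [← mul_assoc, Subgroup.mem_center_iff.mp z.2 (a : G), mul_assoc]
      _ = _ := Finset.sum_filter _ _
  -- conjugates
  have hconj : (Nat.card G : ℝ) * ∑ g : G, (if P g then F g else 0)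
      ≤ (Nat.card N : ℝ) * ∑ g : G, (if g ∈ Z then 0 else F g) := by
    have h1 : ∀ y : G, ∑ g : G, (if P g then F g else 0)
        = ∑ g : G, (if P (y * g * y⁻¹) then F g else 0) := fun y =>
      (Fintype.sum_equiv (MulAut.conj y).toEquiv _ _ fun g => by
        simp only [MulEquiv.toEquiv_eq_coe, MulEquiv.coe_toEquiv, MulAut.conj_apply]
        show (if P (y * g * y⁻¹) then Complex.normSq (χ g) else 0)
          = if P (y * g * y⁻¹) then Complex.normSq (χ (y * g * y⁻¹)) else 0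
        rw [hcls g y]).symm
    have h2 : (Nat.card G : ℝ) * ∑ g : G, (if P g then F g else 0)
        = ∑ g : G, ∑ y : G, (if P (y * g * y⁻¹) then F g else 0) := by
      rw [Finset.sum_comm, ← Finset.sum_congr rfl fun y _ => h1 y, Finset.sum_const,
        Finset.card_univ, ← Nat.card_eq_fintype_card, nsmul_eq_mul]
    rw [h2, Finset.mul_sum]
    refine Finset.sum_le_sum fun g _ => ?_
    by_cases hgZ : g ∈ Z
    · rw [if_pos hgZ, mul_zero]
      refine le_of_eq (Finset.sum_eq_zero fun y _ => if_neg fun h => h.2.1 ?_)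
      rw [show y * g * y⁻¹ = g by rw [Subgroup.mem_center_iff.mp hgZ y, mul_inv_cancel_right]]
      exact hgZ
    rw [if_neg hgZ, ← Finset.sum_filter, Finset.sum_const, nsmul_eq_mul]
    refine mul_le_mul_of_nonneg_right (Nat.cast_le.mpr ?_) (Complex.normSq_nonneg _)
    rcases (Finset.univ.filter fun y => P (y * g * y⁻¹)).eq_empty_or_nonempty with h0 | ⟨y₀, hy₀⟩
    · rw [h0, Finset.card_empty]; exact Nat.zero_le _
    have hmap : ∀ y, P (y * g * y⁻¹) →
        Subgroup.centralizer ({g} : Set G) ⊓ H.map (MulAut.conj y⁻¹).toMonoidHom ≠ ⊥ := by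
      rintro y ⟨-, -, a, ha, ha1, hag⟩ h0
      have hmem : y⁻¹ * a * y ∈
          Subgroup.centralizer ({g} : Set G) ⊓ H.map (MulAut.conj y⁻¹).toMonoidHom := by
        refine ⟨Subgroup.mem_centralizer_singleton_iff.mpr ?_, a, ha, by simp⟩
        calc y⁻¹ * a * y * g = y⁻¹ * (a * (y * g * y⁻¹)) * y := by group
          _ = y⁻¹ * (y * g * y⁻¹ * a) * y := by rw [hag]
          _ = g * (y⁻¹ * a * y) := by group
      rw [h0, Subgroup.mem_bot] at hmem
      exact ha1 (by
        calc a = y * (y⁻¹ * a * y) * y⁻¹ := by group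
          _ = 1 := by rw [hmem]; group)
    refine le_of_le_of_eq (Finset.card_le_card_of_injOn (fun y => y * y₀⁻¹)
      (t := Finset.univ.filter (· ∈ N)) ?_ fun a _ b _ h => mul_right_cancel h) ?_
    · intro y hy
      simp only [Finset.coe_filter, Finset.mem_univ, true_and, Set.mem_setOf_eq] at hy ⊢
      have heq := hone g hgZ _ _ (hmap y hy) (hmap y₀ (Finset.mem_filter.mp hy₀).2)
      rw [hNdef, Subgroup.mem_normalizer_iff]
      intro x
      constructor
      · intro hx
        have h3 : y₀⁻¹ * x * y₀ ∈ H.map (MulAut.conj y₀⁻¹).toMonoidHom := ⟨x, hx, by simp⟩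
        rw [← heq] at h3
        obtain ⟨b, hb, hbx⟩ := h3
        have h4 : y⁻¹ * b * y = y₀⁻¹ * x * y₀ := by simpa using hbx
        rw [show y * y₀⁻¹ * x * (y * y₀⁻¹)⁻¹ = y * (y₀⁻¹ * x * y₀) * y⁻¹ by group, ← h4,
          show y * (y⁻¹ * b * y) * y⁻¹ = b by group]
        exact hb
      · intro hx
        have h3 : y⁻¹ * (y * y₀⁻¹ * x * (y * y₀⁻¹)⁻¹) * y ∈ H.map (MulAut.conj y⁻¹).toMonoidHom :=
          ⟨_, hx, by simp⟩
        rw [heq] at h3
        obtain ⟨b, hb, hbx⟩ := h3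
        have h4 : y₀⁻¹ * b * y₀ = y⁻¹ * (y * y₀⁻¹ * x * (y * y₀⁻¹)⁻¹) * y := by simpa using hbx
        rw [show x = y₀ * (y⁻¹ * (y * y₀⁻¹ * x * (y * y₀⁻¹)⁻¹) * y) * y₀⁻¹ by group, ← h4,
          show y₀ * (y₀⁻¹ * b * y₀) * y₀⁻¹ = b by group]
        exact hb
    · rw [← Fintype.card_subtype, ← Nat.card_eq_fintype_card]
  have hout : ∑ g : G, (if g ∈ Z then 0 else F g)
      = (Nat.card G : ℝ) - (Nat.card Z : ℝ) * (n : ℝ) ^ 2 := by
    rw [← hG, ← hcentre, ← Finset.sum_sub_distrib]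
    refine Finset.sum_congr rfl fun g _ => ?_
    split_ifs with h
    · rw [hFz g h, sub_self]
    · rw [sub_zero]
  rw [hout] at hconj
  rw [hcentre] at hsum
  rw [hn1, Complex.natCast_re]
  have hGpos : (0 : ℝ) < Nat.card G := Nat.cast_pos.mpr Nat.card_pos
  have hNpos : (0 : ℝ) < Nat.card N := Nat.cast_pos.mpr Nat.card_pos
  have hZpos : (0 : ℝ) < Nat.card Z := Nat.cast_pos.mpr Nat.card_pos
  have hnpos : (0 : ℝ) < n := Nat.cast_pos.mpr hn
  set A := ∑ g : G, if P g then F g else 0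
  have hA : (Nat.card N : ℝ) - (Nat.card Z : ℝ) * (n : ℝ) ^ 2
      + (Nat.card Z : ℝ) * ((Nat.card H : ℝ) * c.re ^ 2) ≤ A := by linarith
  have := mul_le_mul_of_nonneg_left hA hGpos.le
  have key : (Nat.card Z : ℝ) * ((Nat.card G : ℝ) * ((Nat.card H : ℝ) * c.re ^ 2)
      + (Nat.card N : ℝ) * (n : ℝ) ^ 2) ≤ (Nat.card Z : ℝ) * ((Nat.card G : ℝ) * (n : ℝ) ^ 2) := by
    nlinarith
  have key' := le_of_mul_le_mul_left key hZpos
  have hpos : 0 < (Nat.card N : ℝ) * (n : ℝ) ^ 2 := by positivity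
  exact lt_of_mul_lt_mul_left (by linarith) hGpos.le

/-- Feit–Thompson: `(1 + χ(1))² > |H|`. -/
theorem one_add_degree_sq_gt [Fintype G] (H : Subgroup G) [Fintype H]
    (hab : ∀ a ∈ H, ∀ b ∈ H, a * b = b * a) (hZ : H ⊓ Subgroup.center G = ⊥)
    (hone : ∀ g : G, g ∉ Subgroup.center G → ∀ a b : G,
      Subgroup.centralizer ({g} : Set G) ⊓ H.map (MulAut.conj a).toMonoidHom ≠ ⊥ →
      Subgroup.centralizer ({g} : Set G) ⊓ H.map (MulAut.conj b).toMonoidHom ≠ ⊥ →
      H.map (MulAut.conj a).toMonoidHom = H.map (MulAut.conj b).toMonoidHom)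
    {χ : G → ℂ} (hχ : IsIrrCharacter G χ) (h1 : χ 1 ≠ 1)
    (hgen : ∀ M : Subgroup G, M.Normal → H ≤ M → M = ⊤) :
    (Nat.card H : ℝ) < (1 + (χ 1).re) ^ 2 := by
  classical
  haveI := Fintype.ofFinite (IrrCharacter G)
  haveI := Fintype.ofFinite (IrrCharacter H)
  obtain ⟨n, hn, hn1⟩ := exists_degree_of_isIrr hχ
  have hn2 : 2 ≤ n := by
    rcases Nat.lt_or_ge n 2 with h | h
    · exact absurd (by rw [hn1, show n = 1 by omega, Nat.cast_one]) h1
    · exact h
  have hχc := IsIrrCharacter.isCharacter hχ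
  obtain ⟨m, hm⟩ := IsCharacter.exists_sum
    (CfsgLib.CharTheory.isCharacter_mul hχc (CfsgLib.CharTheory.isCharacter_conj hχc))
  choose d hd0 hd using fun ψ : IrrCharacter G => exists_degree_of_isIrr ψ.2
  choose e he using fun ψ : IrrCharacter G => IsCharacter.exists_classInner_eq_nat
    (CfsgLib.Coherence.isCharacter_comp (IsIrrCharacter.isCharacter ψ.2) H.subtype) (trivIrr H)
  have he' : ∀ ψ : IrrCharacter G,
      classInner (fun h : H => (ψ : G → ℂ) h) (fun _ => 1) = (e ψ : ℂ) := he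
  have hbd : ∀ ψ, ψ ≠ trivIrr G → (Nat.card H : ℝ) * (e ψ : ℝ) ^ 2 < (d ψ : ℝ) ^ 2 := by
    intro ψ hψ
    have hk : ∃ h ∈ H, (ψ : G → ℂ) h ≠ (ψ : G → ℂ) 1 := by
      by_contra hcon
      push Not at hcon
      have htop := hgen _ (CfsgLib.Correspondences.charKer_normal (IsIrrCharacter.isCharacter ψ.2))
        fun h hh => hcon h hh
      refine hψ (Subtype.ext ?_)
      by_contra hne
      have h0 := classInner_eq_zero_of_ne ψ.2 (trivIrr G).2 hne
      have hconst : (ψ : G → ℂ) = fun _ => (ψ : G → ℂ) 1 := funext fun g => by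
        have hg : g ∈ CfsgLib.Correspondences.charKer (IsIrrCharacter.isCharacter ψ.2) := by
          rw [htop]; trivial
        exact hg
      rw [hconst] at h0
      refine apply_one_ne_zero_of_isIrr ψ.2 ?_
      simpa [classInner, trivIrr_apply] using h0
    have := sq_degree_gt H hab hZ hone ψ.2 hk
    rwa [he' ψ, Complex.natCast_re, hd ψ, Complex.natCast_re] at this
  have hmt : m (trivIrr G) = 1 := by
    have h := congrArg (fun f => classInner f (trivIrr G : G → ℂ)) hm
    rw [classInner_sum_irr] at h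
    have h' : classInner (χ * fun g => conj (χ g)) (trivIrr G : G → ℂ) = classInner χ χ := by
      simp [classInner, trivIrr_apply]
    rw [h', classInner_self_of_isIrr hχ] at h
    exact_mod_cast h.symm
  have hdeg : (n : ℝ) ^ 2 = ∑ ψ, (m ψ : ℝ) * d ψ := by
    have h := congrFun hm 1
    simp only [Finset.sum_apply, Pi.smul_apply, Pi.mul_apply, smul_eq_mul, hd, hn1,
      map_natCast] at h
    rw [sq]
    exact_mod_cast h
  have hres : (n : ℝ) ≤ ∑ ψ, (m ψ : ℝ) * e ψ := by
    have h := congrArg (fun f => classInner (fun h : H => f (h : G)) (fun _ => 1)) hm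
    have hr : classInner (fun h : H => (∑ ψ, (m ψ : ℂ) • (ψ : G → ℂ)) (h : G)) (fun _ => 1)
        = ∑ ψ, (m ψ : ℂ) * e ψ := by
      rw [show (fun h : H => (∑ ψ, (m ψ : ℂ) • (ψ : G → ℂ)) (h : G))
        = ∑ ψ, (m ψ : ℂ) • (fun h : H => (ψ : G → ℂ) h) by
          funext x; simp [Finset.sum_apply], classInner_sum_left]
      exact Finset.sum_congr rfl fun ψ _ => by rw [classInner_smul_left, he']
    rw [hr] at h
    have hl : classInner (fun h : H => (χ * fun g => conj (χ g)) (h : G)) (fun _ => 1)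
        = classInner (fun h : H => χ h) (fun h : H => χ h) := by simp [classInner]
    rw [hl] at h
    obtain ⟨b, hb⟩ := IsCharacter.exists_sum
      (CfsgLib.Coherence.isCharacter_comp hχc H.subtype)
    have hb' : (fun h : H => χ h) = ∑ φ, (b φ : ℂ) • (φ : H → ℂ) := hb
    have hsum1 : n = ∑ φ, b φ := by
      have h2 := congrFun hb' 1
      simp only [Finset.sum_apply, Pi.smul_apply, smul_eq_mul, OneMemClass.coe_one, hn1] at h2
      simp only [apply_one_eq_one_of_comm
        (fun x y : H => Subtype.ext (hab x x.2 y y.2)) (Subtype.prop _), mul_one] at h2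
      exact_mod_cast h2
    rw [hb', classInner_sum_right] at h
    simp only [classInner_smul_right, classInner_sum_irr, map_natCast] at h
    have h3 : ∑ φ, b φ * b φ = ∑ ψ, m ψ * e ψ := by exact_mod_cast h
    have h4 : n ≤ ∑ ψ, m ψ * e ψ := by
      rw [hsum1, ← h3]
      exact Finset.sum_le_sum fun φ _ => Nat.le_mul_self _
    exact_mod_cast h4
  set s : ℝ := Real.sqrt (Nat.card H) with hs
  have hs0 : 0 ≤ s := Real.sqrt_nonneg _
  have hlt : ∀ ψ, ψ ≠ trivIrr G → s * (e ψ : ℝ) < d ψ := fun ψ hψ => by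
    refine lt_of_pow_lt_pow_left₀ 2 (Nat.cast_nonneg _) ?_
    rw [mul_pow, hs, Real.sq_sqrt (Nat.cast_nonneg _)]
    exact hbd ψ hψ
  have htriv : (d (trivIrr G) : ℝ) = 1 ∧ (e (trivIrr G) : ℝ) = 1 := by
    constructor
    · have := hd (trivIrr G)
      rw [trivIrr_apply] at this
      exact_mod_cast this.symm
    · have := he' (trivIrr G)
      simp only [trivIrr_apply] at this
      rw [classInner_self_of_isIrr isIrrCharacter_one] at this
      exact_mod_cast this.symm
  have hn2' : (2 : ℝ) ≤ n := by exact_mod_cast hn2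
  rw [← Finset.add_sum_erase _ _ (Finset.mem_univ (trivIrr G)), hmt, Nat.cast_one, htriv.1,
    one_mul] at hdeg
  rw [← Finset.add_sum_erase _ _ (Finset.mem_univ (trivIrr G)), hmt, Nat.cast_one, htriv.2,
    one_mul] at hres
  obtain ⟨ψ₁, hψ₁, hm₁⟩ : ∃ ψ ∈ Finset.univ.erase (trivIrr G), (m ψ : ℝ) * d ψ ≠ 0 := by
    refine Finset.exists_ne_zero_of_sum_ne_zero fun h0 => ?_
    rw [h0] at hdeg
    nlinarith
  have hmain : s * ∑ ψ ∈ Finset.univ.erase (trivIrr G), (m ψ : ℝ) * e ψ
      < ∑ ψ ∈ Finset.univ.erase (trivIrr G), (m ψ : ℝ) * d ψ := by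
    rw [Finset.mul_sum]
    refine Finset.sum_lt_sum (fun ψ hψ => ?_) ⟨ψ₁, hψ₁, ?_⟩
    · rw [← mul_assoc, mul_comm s, mul_assoc]
      exact mul_le_mul_of_nonneg_left (hlt ψ (Finset.ne_of_mem_erase hψ)).le (Nat.cast_nonneg _)
    · rw [← mul_assoc, mul_comm s, mul_assoc]
      exact mul_lt_mul_of_pos_left (hlt ψ₁ (Finset.ne_of_mem_erase hψ₁))
        (lt_of_le_of_ne (Nat.cast_nonneg _) fun h => hm₁ (by rw [← h, zero_mul]))
  have h5 : s < n + 1 := by nlinarith
  rw [hn1, Complex.natCast_re, ← Real.sq_sqrt (Nat.cast_nonneg (Nat.card H) (α := ℝ)), ← hs]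
  exact pow_lt_pow_left₀ (by linarith) hs0 two_ne_zero

end CfsgLib.RealChar
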