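import Cfsg.Agent.Lib.RealChar.DegreeRatio
import Cfsg.Agent.Lib.RealChar.FeitThompson
import Cfsg.Agent.Lib.Coherence.CoprimeCoset
import Cfsg.Agent.Lib.Clifford.Gallagher

/-!
# A `p`-element acting on a `p'`-group in degree less than `p - 1`
-/

set_option autoImplicit false
set_option linter.unusedSectionVars false
set_option linter.style.haveILetI false

open scoped ComplexConjugate
open Cfsg CfsgLib.CharTheory

namespace CfsgLib.RealChar

variable {G : Type*} [Group G] [Fintype G]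

/-- A character of degree less than `p` stays irreducible on a normal subgroup of `p`-power index. -/
theorem isIrr_res_of_degree_lt {p : ℕ} (hp : p.Prime) (M : Subgroup G) [M.Normal] [Fintype M]
    (hM : ∃ k, M.index ∣ p ^ k) {χ : G → ℂ} (hχ : IsIrrCharacter G χ) {n : ℕ} (hn : χ 1 = n)
    (hnp : n < p) : IsIrrCharacter M (fun m : M => χ m) := by
  classical
  haveI := Fintype.ofFinite (IrrCharacter M)
  have hχc : IsCharacter M (fun m : M => χ m) :=
    CfsgLib.Coherence.isCharacter_comp (IsIrrCharacter.isCharacter hχ) M.subtype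
  obtain ⟨ϑ, hϑ⟩ := exists_constituent M (IsIrrCharacter.isCharacter hχ)
    (apply_one_ne_zero_of_isIrr hχ)
  obtain ⟨r, hr, hdeg⟩ := degree_div_dvd_index M hχ ϑ.2 hϑ
  obtain ⟨k, hk⟩ := hM
  obtain ⟨i, -, rfl⟩ := (Nat.dvd_prime_pow hp).mp (hr.trans hk)
  choose d hd0 hd using fun φ : IrrCharacter M => exists_degree_of_isIrr φ.2
  rw [hn, hd ϑ] at hdeg
  have hdeg' : n = p ^ i * d ϑ := by exact_mod_cast hdeg
  have hi : i = 0 := by
    by_contra hi
    have h1 : p ≤ p ^ i := Nat.le_self_pow hi p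
    have h2 : p ^ i ≤ n := hdeg' ▸ Nat.le_mul_of_pos_right _ (hd0 ϑ)
    omega
  rw [hi, pow_zero, one_mul] at hdeg'
  obtain ⟨m, hm⟩ := IsCharacter.exists_sum hχc
  have hmϑ : m ϑ ≠ 0 := fun h0 => hϑ (by rw [hm, classInner_sum_irr, h0, Nat.cast_zero])
  have h1 : n = ∑ φ, m φ * d φ := by
    have h := congrFun hm 1
    simp only [Finset.sum_apply, Pi.smul_apply, smul_eq_mul, hd, OneMemClass.coe_one, hn] at h
    exact_mod_cast h
  rw [← Finset.add_sum_erase _ _ (Finset.mem_univ ϑ)] at h1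
  have h2 : d ϑ ≤ m ϑ * d ϑ := Nat.le_mul_of_pos_left _ (Nat.pos_of_ne_zero hmϑ)
  have h3 : ∑ φ ∈ Finset.univ.erase ϑ, m φ * d φ = 0 := by omega
  have h4 : m ϑ = 1 := by
    have h5 : m ϑ * d ϑ = 1 * d ϑ := by omega
    exact Nat.eq_of_mul_eq_mul_right (hd0 ϑ) h5
  have h6 : ∀ φ ∈ Finset.univ.erase ϑ, (m φ : ℂ) • (φ : M → ℂ) = 0 := fun φ hφ => by
    have := (Finset.sum_eq_zero_iff.mp h3) φ hφ
    rcases mul_eq_zero.mp this with h | h
    · rw [h, Nat.cast_zero, zero_smul]
    · exact absurd h (hd0 φ).ne'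
  rw [hm, ← Finset.add_sum_erase _ _ (Finset.mem_univ ϑ), Finset.sum_eq_zero h6, h4, Nat.cast_one,
    one_smul, add_zero]
  exact ϑ.2

/-- If `x` is a `p`-element, `x ^ p` is central, `M` is a normal `p'`-subgroup with `G = M ⟨x⟩`,
and an irreducible character has degree less than `p - 1`, then `x` acts as a scalar. -/
theorem commutator_mem_kernel_of_small_degree {p : ℕ} (hp : p.Prime) (M : Subgroup G) [M.Normal]
    (hM : ¬ p ∣ Nat.card M) (x : G) (hx : ∃ k, orderOf x = p ^ k)
    (hxp : x ^ p ∈ Subgroup.center G) (htop : M ⊔ Subgroup.zpowers x = ⊤)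
    {χ : G → ℂ} (hχ : IsIrrCharacter G χ) {n : ℕ} (hn : χ 1 = n) (hnp : n + 1 < p) (g : G) :
    χ (x * g * x⁻¹ * g⁻¹) = χ 1 := by
  classical
  obtain ⟨a, ha⟩ := hx
  rcases Nat.eq_zero_or_pos a with ha0 | hapos
  · rw [ha0, pow_zero, orderOf_eq_one_iff] at ha
    simp [ha]
  have hcop : ∀ i : ℕ, Nat.Coprime (orderOf (x ^ i)) (Nat.card M) := fun i => by
    refine Nat.Coprime.coprime_dvd_left ?_ ((hp.coprime_iff_not_dvd.mpr hM).pow_left a)
    rw [← ha]
    exact orderOf_pow_dvd i
  have hdisj : ∀ i : ℕ, x ^ i ∈ M → x ^ i = 1 := fun i hi =>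
    orderOf_eq_one_iff.mp (Nat.eq_one_of_dvd_coprimes (hcop i) dvd_rfl
      (by rw [← Subgroup.orderOf_mk (x ^ i) hi]; exact orderOf_dvd_natCard _))
  -- every element is `m * x ^ i`
  have hdec : ∀ y : G, ∃ m ∈ M, ∃ i : Fin (orderOf x), m * x ^ (i : ℕ) = y := by
    intro y
    have hy : y ∈ M ⊔ Subgroup.zpowers x := by rw [htop]; trivial
    obtain ⟨m, hm, w, hw, rfl⟩ := Subgroup.mem_sup_of_normal_left.mp hy
    obtain ⟨j, rfl⟩ := Submonoid.mem_powers_iff _ _ |>.mp (mem_powers_iff_mem_zpowers.mpr hw)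
    exact ⟨m, hm, ⟨j % orderOf x, Nat.mod_lt _ (orderOf_pos x)⟩, by
      simp [pow_mod_orderOf]⟩
  have hindex : ∃ k, M.index ∣ p ^ k := by
    refine ⟨a, ?_⟩
    rw [← ha, Subgroup.index_eq_card, ← Nat.card_zpowers]
    refine Subgroup.card_dvd_of_surjective ((QuotientGroup.mk' M).comp (Subgroup.zpowers x).subtype) ?_
    intro q
    obtain ⟨y, rfl⟩ := QuotientGroup.mk'_surjective M q
    obtain ⟨m, hm, i, rfl⟩ := hdec y
    refine ⟨⟨x ^ (i : ℕ), Subgroup.pow_mem _ (Subgroup.mem_zpowers x) _⟩, ?_⟩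
    rw [MonoidHom.comp_apply, Subgroup.coe_subtype, map_mul,
      show QuotientGroup.mk' M m = 1 from (QuotientGroup.eq_one_iff m).mpr hm, one_mul]
  haveI := Fintype.ofFinite M
  have hres : IsIrrCharacter M (fun m : M => χ m) :=
    isIrr_res_of_degree_lt hp M hindex hχ hn (by omega)
  -- the centraliser of `x`
  set D := Subgroup.centralizer ({x} : Set G) with hD
  set C := M ⊓ D with hC
  haveI := Fintype.ofFinite D
  haveI := Fintype.ofFinite C
  have hxD : x ∈ D := Subgroup.mem_centralizer_singleton_iff.mpr rfl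
  let E : Fin (orderOf x) × C → D := fun q => ⟨(q.2 : G) * x ^ (q.1 : ℕ),
    D.mul_mem q.2.2.2 (D.pow_mem hxD _)⟩
  have hE : Function.Bijective E := by
    constructor
    · rintro ⟨i, c⟩ ⟨j, c'⟩ h
      have h' : (c : G) * x ^ (i : ℕ) = (c' : G) * x ^ (j : ℕ) := congrArg Subtype.val h
      wlog hij : (j : ℕ) ≤ i generalizing i j c c'
      · exact (this j c' i c h.symm h'.symm (by omega)).symm
      have h2 : x ^ ((i : ℕ) - j) ∈ M := by
        rw [show x ^ ((i : ℕ) - j) = (c : G)⁻¹ * c' by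
          rw [eq_inv_mul_iff_mul_eq, ← mul_right_cancel_iff (a := x ^ (j : ℕ)), mul_assoc,
            ← pow_add, Nat.sub_add_cancel hij, h']]
        exact M.mul_mem (M.inv_mem c.2.1) c'.2.1
      have h3 : orderOf x ∣ (i : ℕ) - j := orderOf_dvd_of_pow_eq_one (hdisj _ h2)
      have h4 : (i : ℕ) - j = 0 := Nat.eq_zero_of_dvd_of_lt h3 (by omega)
      have h5 : i = j := Fin.ext (by omega)
      subst h5
      exact Prod.ext rfl (Subtype.ext (mul_right_cancel h'))
    · rintro ⟨y, hy⟩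
      obtain ⟨m, hm, i, rfl⟩ := hdec y
      have hmD : m ∈ D := by
        have h := D.mul_mem hy (D.inv_mem (D.pow_mem hxD (i : ℕ)))
        rwa [mul_inv_cancel_right] at h
      exact ⟨(i, ⟨m, hm, hmD⟩), rfl⟩
  -- coset sums
  set oC : ℝ := (Nat.card C : ℝ) with hoC
  have hcoset : ∀ i : ℕ, ¬ p ∣ i → ∑ c : C, Complex.normSq (χ ((c : G) * x ^ i)) = oC := by
    intro i hi
    have hCi : M ⊓ Subgroup.centralizer ({x ^ i} : Set G) = C := by
      ext y
      refine ⟨fun hy => ⟨hy.1, ?_⟩, fun hy => ⟨hy.1, ?_⟩⟩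
      · obtain ⟨j, hj⟩ := exists_pow_eq_self_of_coprime (n := i) (x := x)
          (by rw [ha]; exact ((hp.coprime_iff_not_dvd.mpr hi).pow_left a).symm)
        refine Subgroup.mem_centralizer_singleton_iff.mpr ?_
        rw [← hj]
        exact ((show Commute y (x ^ i) from Subgroup.mem_centralizer_singleton_iff.mp hy.2).pow_right j).eq
      · exact Subgroup.mem_centralizer_singleton_iff.mpr
          ((show Commute y x from Subgroup.mem_centralizer_singleton_iff.mp hy.2).pow_right i).eq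
    haveI := Fintype.ofFinite ↥(M ⊓ Subgroup.centralizer ({x ^ i} : Set G))
    have h := CfsgLib.Coherence.sum_coset_eq M (x ^ i)
      (by rw [Subgroup.normalizer_eq_top]; trivial) (hcop i)
      (fun y => χ y * conj (χ y))
      (fun y _ z => by simp only [IsIrrCharacter.isClassFunction hχ z y])
    have hav := congrFun (CfsgLib.Clifford.cosetAvg_mul_conj_self hχ hres) (x ^ i)
    simp only [CfsgLib.Clifford.cosetAvg, Pi.mul_apply] at hav
    rw [inv_mul_eq_one₀ (Nat.cast_ne_zero.mpr Nat.card_pos.ne')] at hav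
    rw [← hav] at h
    have h' : (Nat.card ↥(M ⊓ Subgroup.centralizer ({x ^ i} : Set G)) : ℂ)
        = ∑ c : ↥(M ⊓ Subgroup.centralizer ({x ^ i} : Set G)),
            χ ((c : G) * x ^ i) * conj (χ ((c : G) * x ^ i)) := by
      simp only [nsmul_eq_mul] at h
      rw [mul_comm (Nat.card M : ℂ)] at h
      exact mul_right_cancel₀ (Nat.cast_ne_zero.mpr Nat.card_pos.ne') h
    simp only [Complex.mul_conj] at h'
    rw [← Complex.ofReal_natCast, ← Complex.ofReal_sum, Complex.ofReal_inj] at h'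
    rw [show oC = (Nat.card ↥(M ⊓ Subgroup.centralizer ({x ^ i} : Set G)) : ℝ) by rw [hoC, hCi], h']
    exact (Fintype.sum_equiv (MulEquiv.subgroupCongr hCi.symm).toEquiv _ _ fun c => rfl)
  -- irreducible characters of `D` restricted to `C`
  have hDsum : ∀ f : D → ℝ,
      ∑ y : D, f y = ∑ i : Fin (orderOf x), ∑ c : C, f (E (i, c)) := fun f => by
    rw [← Fintype.sum_equiv (Equiv.ofBijective E hE) (fun q => f (E q)) f fun q => rfl]
    exact Fintype.sum_prod_type _
  have hcardD : Nat.card D = orderOf x * Nat.card C := by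
    rw [← Nat.card_congr (Equiv.ofBijective E hE), Nat.card_prod, Nat.card_eq_fintype_card,
      Fintype.card_fin]
  have hoC0 : 0 < oC := Nat.cast_pos.mpr Nat.card_pos
  have hψC : ∀ ψ : IrrCharacter D, IsIrrCharacter C
      (fun c : C => (ψ : D → ℂ) ⟨(c : G), c.2.2⟩) := by
    intro ψ
    have hc : IsCharacter C (fun c : C => (ψ : D → ℂ) ⟨(c : G), c.2.2⟩) :=
      CfsgLib.Coherence.isCharacter_comp (IsIrrCharacter.isCharacter ψ.2)
        (Subgroup.inclusion (inf_le_right : C ≤ D))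
    refine (isIrrCharacter_iff_norm_one hc).mpr ?_
    have hxc : (⟨x, hxD⟩ : D) ∈ Subgroup.center D := Subgroup.mem_center_iff.mpr fun y =>
      Subtype.ext (Subgroup.mem_centralizer_singleton_iff.mp y.2)
    have hconst : ∀ i : Fin (orderOf x), ∀ c : C,
        Complex.normSq ((ψ : D → ℂ) (E (i, c)))
          = Complex.normSq ((ψ : D → ℂ) ⟨(c : G), c.2.2⟩) := by
      intro i c
      obtain ⟨ω, hω, hmul⟩ := exists_central_scalar ψ.2
        (Subgroup.pow_mem (Subgroup.center D) hxc (i : ℕ))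
      have hEi : E (i, c) = (⟨x, hxD⟩ : D) ^ (i : ℕ) * ⟨(c : G), c.2.2⟩ := Subtype.ext (by
        simp only [E, Subgroup.coe_mul, SubgroupClass.coe_pow]
        exact ((show Commute (c : G) x from
          Subgroup.mem_centralizer_singleton_iff.mp c.2.2).pow_right i).eq)
      rw [hEi, hmul, Complex.normSq_mul, Complex.normSq_eq_norm_sq, hω, one_pow, one_mul]
    have h1 := sum_normSq_eq (f := (ψ : D → ℂ))
    rw [classInner_self_of_isIrr ψ.2, mul_one, hDsum, Finset.sum_congr rfl fun i _ =>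
      Finset.sum_congr rfl fun c _ => hconst i c, Finset.sum_const, Finset.card_univ,
      Fintype.card_fin, hcardD] at h1
    have h2 := sum_normSq_eq (f := fun c : C => (ψ : D → ℂ) ⟨(c : G), c.2.2⟩)
    rw [nsmul_eq_mul, Complex.ofReal_mul, Complex.ofReal_natCast, h2, Nat.cast_mul] at h1
    have h3 : (orderOf x : ℂ) ≠ 0 := Nat.cast_ne_zero.mpr (orderOf_pos x).ne'
    have h4 : (Nat.card C : ℂ) ≠ 0 := Nat.cast_ne_zero.mpr Nat.card_pos.ne'
    have h5 := mul_left_cancel₀ h3 h1
    exact mul_left_cancel₀ h4 (h5.trans (mul_one _).symm)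
  -- `‖χ|D‖ = 1`
  haveI := Fintype.ofFinite (IrrCharacter D)
  haveI := Fintype.ofFinite (IrrCharacter C)
  have hχD : IsCharacter D (fun y : D => χ y) :=
    CfsgLib.Coherence.isCharacter_comp (IsIrrCharacter.isCharacter hχ) D.subtype
  obtain ⟨b, hb⟩ := IsCharacter.exists_sum hχD
  set Q := ∑ ψ, b ψ * b ψ with hQ
  set S := ∑ ψ, b ψ with hS
  have hQD : classInner (fun y : D => χ y) (fun y : D => χ y) = (Q : ℂ) := by
    rw [hb, classInner_sum_right]
    simp only [classInner_smul_right, classInner_sum_irr]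
    push_cast [hQ]
    simp
  have hSn : S ≤ n := by
    choose d hd0 hd using fun φ : IrrCharacter D => exists_degree_of_isIrr φ.2
    have h := congrFun hb 1
    simp only [Finset.sum_apply, Pi.smul_apply, smul_eq_mul, hd, OneMemClass.coe_one, hn] at h
    have h' : n = ∑ ψ, b ψ * d ψ := by exact_mod_cast h
    rw [h', hS]
    exact Finset.sum_le_sum fun ψ _ => Nat.le_mul_of_pos_right _ (hd0 ψ)
  obtain ⟨K, hK, hKS⟩ : ∃ K : ℕ,
      classInner (fun c : C => χ (c : G)) (fun c : C => χ (c : G)) = (K : ℂ) ∧ K ≤ S * S := by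
    let φ : IrrCharacter D → IrrCharacter C := fun ψ => ⟨_, hψC ψ⟩
    refine ⟨∑ ψ, ∑ ψ', if φ ψ = φ ψ' then b ψ * b ψ' else 0, ?_, ?_⟩
    · have hbC : (fun c : C => χ (c : G)) = ∑ ψ, (b ψ : ℂ) • ((φ ψ : IrrCharacter C) : C → ℂ) := by
        funext c
        have h := congrFun hb ⟨(c : G), c.2.2⟩
        simp only [Finset.sum_apply, Pi.smul_apply] at h ⊢
        exact h
      rw [hbC, classInner_sum_left]
      push_cast
      refine Finset.sum_congr rfl fun ψ _ => ?_
      rw [classInner_smul_left, classInner_sum_right, Finset.mul_sum]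
      refine Finset.sum_congr rfl fun ψ' _ => ?_
      rw [classInner_smul_right, classInner_irrCharacter]
      split_ifs <;> simp
    · rw [hS, Finset.sum_mul_sum]
      exact Finset.sum_le_sum fun ψ _ => Finset.sum_le_sum fun ψ' _ => by split_ifs <;> simp
  have hmain : p * Q + 1 = K + p := by
    have h1 := sum_normSq_eq (f := fun y : D => χ y)
    rw [hQD, hDsum, hcardD] at h1
    have h2 : ∀ i : Fin (orderOf x), ∑ c : C, Complex.normSq (χ (E (i, c) : G))
        = if p ∣ (i : ℕ) then oC * (K : ℝ) else oC := by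
      intro i
      split_ifs with hi
      · have h3 := sum_normSq_eq (f := fun c : C => χ (c : G))
        rw [hK, ← Complex.ofReal_natCast, ← Complex.ofReal_natCast, ← Complex.ofReal_mul,
          Complex.ofReal_inj] at h3
        rw [hoC, ← h3]
        refine Finset.sum_congr rfl fun c _ => ?_
        obtain ⟨j, hj⟩ := hi
        have hxi : x ^ (i : ℕ) ∈ Subgroup.center G := by
          rw [hj, pow_mul]; exact Subgroup.pow_mem _ hxp _
        obtain ⟨ω, hω, hmul⟩ := exists_central_scalar hχ hxi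
        show Complex.normSq (χ ((c : G) * x ^ (i : ℕ))) = _
        rw [Subgroup.mem_center_iff.mp hxi (c : G), hmul, Complex.normSq_mul,
          Complex.normSq_eq_norm_sq, hω, one_pow, one_mul]
      · exact hcoset i hi
    rw [Finset.sum_congr rfl fun i _ => h2 i, Fin.sum_univ_eq_sum_range
      (fun i => if p ∣ i then oC * (K : ℝ) else oC), ← Complex.ofReal_natCast,
      ← Complex.ofReal_natCast, ← Complex.ofReal_mul, Complex.ofReal_inj] at h1
    obtain ⟨q, hq⟩ : ∃ q, orderOf x = p * q := ⟨p ^ (a - 1), by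
      rw [ha, ← pow_succ']; congr 1; omega⟩
    have h4 : ∀ f : ℕ → ℝ, (∀ i, f (i + p) = f i) →
        ∀ q, ∑ i ∈ Finset.range (p * q), f i = q * ∑ i ∈ Finset.range p, f i := by
      intro f hf q
      induction q with
      | zero => simp
      | succ q ih =>
        rw [Nat.mul_succ, Finset.sum_range_add, ih]
        push_cast
        rw [add_mul, one_mul]
        congr 1
        refine Finset.sum_congr rfl fun i _ => ?_
        clear ih
        induction q with
        | zero => simp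
        | succ q ih =>
          rw [show p * (q + 1) + i = p * q + i + p by ring, hf, ih]
    rw [hq, h4 _ (fun i => by simp [Nat.dvd_add_self_right]) q] at h1
    rw [← Finset.add_sum_erase _ _ (Finset.mem_range.mpr hp.pos), if_pos (dvd_zero p),
      Finset.sum_congr rfl (g := fun _ => oC) fun i hi => if_neg fun hd => by
        obtain ⟨hi0, hip⟩ := Finset.mem_erase.mp hi
        exact hi0 (Nat.eq_zero_of_dvd_of_lt hd (Finset.mem_range.mp hip)),
      Finset.sum_const, Finset.card_erase_of_mem (Finset.mem_range.mpr hp.pos),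
      Finset.card_range, nsmul_eq_mul] at h1
    have hq0 : (q : ℝ) ≠ 0 := Nat.cast_ne_zero.mpr fun h => (orderOf_pos x).ne' (by rw [hq, h, mul_zero])
    have h5 : (q : ℝ) * (oC * ((K : ℝ) + ((p - 1 : ℕ) : ℝ))) = (q : ℝ) * (oC * ((p : ℝ) * Q)) := by
      push_cast [hoC] at h1 ⊢
      linarith
    have h6 := mul_left_cancel₀ hoC0.ne' (mul_left_cancel₀ hq0 h5)
    have h7 : K + (p - 1) = p * Q := by exact_mod_cast h6
    have := hp.pos
    omega
  have hSQ : S ≤ Q := Finset.sum_le_sum fun ψ _ => Nat.le_mul_self _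
  have hQpos : 0 < Q := Nat.pos_of_ne_zero fun h => by
    rw [h] at hmain
    have := hp.two_le
    omega
  have hS0 : 0 < S := Nat.pos_of_ne_zero fun h => by
    have h0 : ∀ ψ, b ψ = 0 := fun ψ => (Finset.sum_eq_zero_iff.mp h) ψ (Finset.mem_univ _)
    exact hQpos.ne' (Finset.sum_eq_zero fun ψ _ => by rw [h0 ψ, zero_mul])
  have hS1 : S = 1 := by
    have h1 : p * S + 1 ≤ S * S + p :=
      le_trans (by gcongr) (hmain.le.trans (Nat.add_le_add_right hKS p))
    by_contra hne
    have h2 : S + 2 ≤ p := by omega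
    have h3 : 2 ≤ S := by omega
    obtain ⟨s, rfl⟩ : ∃ s, p = S + 2 + s := ⟨p - (S + 2), by omega⟩
    nlinarith
  have hQ1 : Q = 1 := by
    rw [hS1] at hKS
    by_contra hne
    have h2 : 2 ≤ Q := by omega
    have h3 := Nat.mul_le_mul_left p h2
    have := hp.two_le
    omega
  -- Schur
  obtain ⟨d, ρ, hρ, rfl⟩ := hχ
  haveI := hρ
  let σ : Representation ℂ D (Fin d → ℂ) := ρ.comp D.subtype
  obtain ⟨e, τ, hτ, hτe⟩ : IsIrrCharacter D σ.character :=
    (isIrrCharacter_iff_norm_one hχD).mpr (by rw [hQD, hQ1, Nat.cast_one])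
  haveI := hτ
  obtain ⟨φ⟩ := nonempty_equiv_of_character_eq τ σ hτe
  haveI := isIrreducible_of_equiv φ
  obtain ⟨ω, hω⟩ := exists_smul_of_commute σ (ρ x) fun y => by
    show ρ x * ρ (y : G) = ρ (y : G) * ρ x
    rw [← map_mul, ← map_mul, Subgroup.mem_centralizer_singleton_iff.mp y.2]
  have hcomm : ρ (x * g * x⁻¹ * g⁻¹) = 1 := by
    have h1 : ρ x * ρ g = ρ g * ρ x := by
      rw [hω, ← Module.End.one_eq_id, smul_mul_assoc, mul_smul_comm, one_mul, mul_one]
    rw [map_mul, map_mul, map_mul, h1, mul_assoc (ρ g), ← map_mul, mul_inv_cancel, map_one,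
      mul_one, ← map_mul, mul_inv_cancel, map_one]
  show LinearMap.trace ℂ _ (ρ (x * g * x⁻¹ * g⁻¹)) = LinearMap.trace ℂ _ (ρ 1)
  rw [hcomm, map_one ρ]

end CfsgLib.RealChar
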