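import Cfsg.Agent.Lib.RealChar.FeitThompson
import Cfsg.Agent.Lib.RealChar.SmallDegree
import Cfsg.Agent.Lib.CharTheory.Linear
import Mathlib.GroupTheory.Sylow

/-!
# Feit–Thompson: small faithful degree forces a normal Sylow `p`-subgroup
-/

set_option autoImplicit false
set_option linter.unusedSectionVars false
set_option linter.style.haveILetI false

open Cfsg CfsgLib.CharTheory

namespace CfsgLib.RealChar

variable {p : ℕ} [Fact p.Prime] {G : Type*} [Group G] [Finite G]

/-- Two Sylow subgroups inside a subgroup with normal Sylow subgroups are equal. -/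
theorem sylow_eq_of_le {K : Subgroup G} (hK : ∀ Q : Sylow p K, (Q : Subgroup K).Normal)
    {A B : Sylow p G} (hA : (A : Subgroup G) ≤ K) (hB : (B : Subgroup G) ≤ K) : A = B := by
  have := Sylow.unique_of_normal (A.subtype hA) (hK _)
  have h : A.subtype hA = B.subtype hB := Subsingleton.elim _ _
  exact Sylow.subtype_injective h

/-- A character that is constant equal to its degree is linear if irreducible. -/
theorem degree_eq_one_of_const {χ : G → ℂ} (hχ : IsIrrCharacter G χ) (h : ∀ g, χ g = χ 1) :
    χ 1 = 1 := by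
  haveI := Fintype.ofFinite G
  by_contra hne
  have h0 := classInner_eq_zero_of_ne hχ isIrrCharacter_one fun e => hne (congrFun e 1)
  rw [funext h] at h0
  exact apply_one_ne_zero_of_isIrr hχ (by simpa [classInner] using h0)

/-- An irreducible character of degree one kills commutators. -/
theorem commutator_kernel_of_degree_one {χ : G → ℂ} (hχ : IsIrrCharacter G χ) (h : χ 1 = 1)
    (a b : G) : χ (a * b * a⁻¹ * b⁻¹) = χ 1 := by
  obtain ⟨μ, rfl⟩ := exists_hom_of_degree_one hχ h
  simp only [map_mul, map_inv, map_one]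
  rw [mul_comm (μ a) (μ b)]
  simp

/-- A central `p`-element in the derived group is killed by irreducible characters of degree `< p`. -/
theorem apply_central_commutator {χ : G → ℂ} (hχ : IsIrrCharacter G χ) {d : ℕ} (hd : χ 1 = d)
    (hdp : d < p) {z : G} (hz : z ∈ Subgroup.center G) (hz' : z ∈ commutator G)
    (hzp : ∃ k, orderOf z = p ^ k) : χ z = χ 1 := by
  obtain ⟨m, σ, hσ, rfl⟩ := hχ
  haveI := hσ
  obtain ⟨ω, hω⟩ := exists_smul_of_commute σ (σ z) fun g => by
    show σ z * σ g = σ g * σ z
    rw [← map_mul, ← map_mul, (Subgroup.mem_center_iff.mp hz g).symm]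
  haveI := nontrivial_of_isIrreducible σ
  have hfin : Module.finrank ℂ (Fin m → ℂ) = d := by
    have := σ.char_one.symm.trans hd
    exact_mod_cast this
  have hdet : ω ^ d = 1 := by
    have h1 : (LinearMap.det.comp σ).toHomUnits z = 1 :=
      MonoidHom.mem_ker.mp (Abelianization.commutator_subset_ker _ hz')
    have h2 := congrArg (fun u : ℂˣ => (u : ℂ)) h1
    simpa [hω, LinearMap.det_smul, hfin] using h2
  obtain ⟨k, hk⟩ := hzp
  have hpow : ω ^ p ^ k = 1 := by
    obtain ⟨v, hv⟩ := exists_ne (0 : Fin m → ℂ)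
    have h1 : ∀ j : ℕ, σ (z ^ j) v = ω ^ j • v := by
      intro j
      induction j with
      | zero => simp
      | succ j ih =>
        rw [pow_succ', map_mul, Module.End.mul_apply, ih, hω, LinearMap.smul_apply,
          LinearMap.id_apply, smul_smul, ← pow_succ']
    have h2 := h1 (p ^ k)
    rw [← hk, pow_orderOf_eq_one, map_one, Module.End.one_apply, hk] at h2
    exact smul_left_injective ℂ hv (show ω ^ p ^ k • v = (1 : ℂ) • v by rw [← h2, one_smul])
  have hd0 : 0 < d := hfin ▸ finrank_pos_of_isIrreducible σ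
  have hcop : Nat.Coprime d (p ^ k) :=
    (Nat.coprime_of_lt_prime hd0.ne' hdp (Fact.out : p.Prime)).symm.pow_right k
  have h1 : ω = 1 := by
    have := orderOf_dvd_iff_pow_eq_one.mpr hdet
    have h' := orderOf_dvd_iff_pow_eq_one.mpr hpow
    exact orderOf_eq_one_iff.mp (Nat.eq_one_of_dvd_coprimes hcop this h')
  show LinearMap.trace ℂ _ (σ z) = LinearMap.trace ℂ _ (σ 1)
  rw [hω, h1, one_smul, map_one σ, Module.End.one_eq_id]

/-- The main induction step. -/
theorem normal_sylow_step (n : ℕ) (ρ : Representation ℂ G (Fin n → ℂ))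
    (hρ : Function.Injective ρ) (hnp : n + 1 < p)
    (hsub : ∀ K : Subgroup G, K ≠ ⊤ → ∀ Q : Sylow p K, (Q : Subgroup K).Normal)
    (hbig : (n + 1) ^ 2 ≤ p ∨ p ^ 2 ∣ Nat.card G) (P : Sylow p G) :
    (P : Subgroup G).Normal := by
  classical
  haveI := Fintype.ofFinite G
  haveI := Fintype.ofFinite (IrrCharacter G)
  have hp : p.Prime := Fact.out
  obtain ⟨m, hm⟩ := IsCharacter.exists_sum (G := G) ⟨n, ρ, rfl⟩
  choose d hd0 hd using fun ψ : IrrCharacter G => exists_degree_of_isIrr ψ.2
  have hdn : ∀ ψ, m ψ ≠ 0 → d ψ ≤ n := by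
    intro ψ hψ
    have h := congrFun hm 1
    simp only [Finset.sum_apply, Pi.smul_apply, smul_eq_mul, hd] at h
    rw [Representation.char_one, Module.finrank_fin_fun] at h
    have h' : n = ∑ φ, m φ * d φ := by exact_mod_cast h
    calc d ψ ≤ m ψ * d ψ := Nat.le_mul_of_pos_left _ (Nat.pos_of_ne_zero hψ)
      _ ≤ ∑ φ, m φ * d φ := Finset.single_le_sum (f := fun φ => m φ * d φ)
          (fun _ _ => Nat.zero_le _) (Finset.mem_univ ψ)
      _ = n := h'.symm
  have hfaith : ∀ g : G, (∀ ψ, m ψ ≠ 0 → (ψ : G → ℂ) g = (ψ : G → ℂ) 1) → g = 1 := by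
    intro g hg
    refine hρ ?_
    rw [map_one, Module.End.one_eq_id, ← character_eq_finrank_iff ρ g, ← ρ.char_one, congrFun hm g,
      congrFun hm 1]
    simp only [Finset.sum_apply, Pi.smul_apply]
    refine Finset.sum_congr rfl fun ψ _ => ?_
    by_cases h : m ψ = 0
    · simp [h]
    · rw [hg ψ h]
  have hcomm : ∀ a b : G,
      (∀ ψ, m ψ ≠ 0 → (ψ : G → ℂ) (a * b * a⁻¹ * b⁻¹) = (ψ : G → ℂ) 1) → a * b = b * a :=
    fun a b h => mul_inv_eq_iff_eq_mul.mp (mul_inv_eq_one.mp (hfaith _ h))
  -- `P` is abelian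
  have hPab : ∀ a ∈ (P : Subgroup G), ∀ b ∈ (P : Subgroup G), a * b = b * a := by
    intro a ha b hb
    haveI := Fintype.ofFinite (P : Subgroup G)
    haveI := Fintype.ofFinite (IrrCharacter (P : Subgroup G))
    have hc : IsCharacter (P : Subgroup G) (fun x : (P : Subgroup G) => ρ.character x) :=
      CfsgLib.Coherence.isCharacter_comp ⟨n, ρ, rfl⟩ (P : Subgroup G).subtype
    obtain ⟨b', hb'⟩ := IsCharacter.exists_sum hc
    refine mul_inv_eq_iff_eq_mul.mp (mul_inv_eq_one.mp (hρ ?_))
    have e : ρ.character (a * b * a⁻¹ * b⁻¹) = ρ.character 1 := by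
      have e1 := congrFun hb' (⟨a, ha⟩ * ⟨b, hb⟩ * ⟨a, ha⟩⁻¹ * ⟨b, hb⟩⁻¹)
      have e2 := congrFun hb' 1
      simp only [Subgroup.coe_mul, InvMemClass.coe_inv, OneMemClass.coe_one] at e1 e2
      rw [e1, e2]
      simp only [Finset.sum_apply, Pi.smul_apply]
      refine Finset.sum_congr rfl fun φ _ => ?_
      by_cases h0 : b' φ = 0
      · simp [h0]
      obtain ⟨e, he, hdvd⟩ : ∃ e : ℕ, (φ : ↥(P : Subgroup G) → ℂ) 1 = e ∧
          e ∣ Nat.card (P : Subgroup G) := by
        obtain ⟨e, _, hdvd, he⟩ := IsIrrCharacter.exists_degree_dvd φ.2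
        exact ⟨e, he, hdvd⟩
      have hen : e ≤ n := by
        choose d' hd0' hd' using fun φ : IrrCharacter (P : Subgroup G) => exists_degree_of_isIrr φ.2
        have h := e2
        simp only [Finset.sum_apply, Pi.smul_apply, smul_eq_mul, hd'] at h
        rw [Representation.char_one, Module.finrank_fin_fun] at h
        have h' : n = ∑ φ, b' φ * d' φ := by exact_mod_cast h
        have : e = d' φ := by exact_mod_cast he.symm.trans (hd' φ)
        calc e ≤ b' φ * d' φ := this ▸ Nat.le_mul_of_pos_left _ (Nat.pos_of_ne_zero h0)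
          _ ≤ ∑ φ, b' φ * d' φ := Finset.single_le_sum (f := fun φ => b' φ * d' φ)
              (fun _ _ => Nat.zero_le _) (Finset.mem_univ φ)
          _ = n := h'.symm
      have he1 : e = 1 := by
        obtain ⟨k, hk⟩ := P.isPGroup'.exists_card_eq
        obtain ⟨i, -, rfl⟩ := (Nat.dvd_prime_pow hp).mp (hk ▸ hdvd)
        by_contra hne
        have hi : i ≠ 0 := fun h => hne (by rw [h, pow_zero])
        have := Nat.le_self_pow hi p
        omega
      rw [commutator_kernel_of_degree_one φ.2 (by rw [he, he1, Nat.cast_one])]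
    rw [map_one, Module.End.one_eq_id, ← character_eq_finrank_iff ρ, e, ρ.char_one]
  by_contra hPn
  have hgen : ∀ M : Subgroup G, M.Normal → (P : Subgroup G) ≤ M → M = ⊤ := by
    intro M hM hPM
    by_contra hne
    have := hM
    haveI := Sylow.characteristic_of_normal (P.subtype hPM) (hsub M hne _)
    have h : (P.subtype hPM : Subgroup M).map M.subtype = (P : Subgroup G) := by
      rw [Sylow.coe_subtype, Subgroup.map_subgroupOf_eq_of_le hPM]
    exact hPn (h ▸ inferInstance)
  -- `Z` meets `P` trivially or not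
  obtain ⟨χ, hmχ, hχ1⟩ : ∃ ψ, m ψ ≠ 0 ∧ (ψ : G → ℂ) 1 ≠ 1 := by
    by_contra hcon
    push Not at hcon
    refine hPn ⟨fun x hx g => ?_⟩
    rw [hcomm g x fun ψ hψ => commutator_kernel_of_degree_one ψ.2 (hcon ψ hψ) g x,
      mul_inv_cancel_right]
    exact hx
  by_cases hPZ : (P : Subgroup G) ⊓ Subgroup.center G = ⊥
  · -- the degree bound
    haveI := Fintype.ofFinite (P : Subgroup G)
    have hmem : ∀ (a : G) (x : G),
        x ∈ (P : Subgroup G).map (MulAut.conj a).toMonoidHom ↔ x ∈ ((a • P : Sylow p G) : Subgroup G) :=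
      fun a x => Iff.rfl
    have hnc : ∀ (A : Sylow p G), ∀ x ∈ (A : Subgroup G), x ∈ Subgroup.center G → x = 1 := by
      intro A x hx hxc
      obtain ⟨a, rfl⟩ := MulAction.exists_smul_eq G P A
      obtain ⟨y, hy, hyx⟩ := (hmem a x).mpr hx
      have hyx' : a * y * a⁻¹ = x := hyx
      have hxy : y = x := by
        rw [← mul_left_cancel_iff (a := a), ← mul_right_cancel_iff (a := a⁻¹), hyx',
          Subgroup.mem_center_iff.mp hxc a, mul_inv_cancel_right]
      have : x ∈ (P : Subgroup G) ⊓ Subgroup.center G := ⟨hxy ▸ hy, hxc⟩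
      rwa [hPZ] at this
    have hab : ∀ (A : Sylow p G), ∀ u ∈ (A : Subgroup G), ∀ v ∈ (A : Subgroup G), u * v = v * u := by
      intro A u hu v hv
      obtain ⟨a, rfl⟩ := MulAction.exists_smul_eq G P A
      obtain ⟨y, hy, rfl⟩ := (hmem a u).mpr hu
      obtain ⟨z, hz, rfl⟩ := (hmem a v).mpr hv
      rw [← map_mul, hPab y hy z hz, map_mul]
    have hone : ∀ g : G, g ∉ Subgroup.center G → ∀ a b : G,
        Subgroup.centralizer ({g} : Set G) ⊓ (P : Subgroup G).map (MulAut.conj a).toMonoidHom ≠ ⊥ →
        Subgroup.centralizer ({g} : Set G) ⊓ (P : Subgroup G).map (MulAut.conj b).toMonoidHom ≠ ⊥ →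
        (P : Subgroup G).map (MulAut.conj a).toMonoidHom
          = (P : Subgroup G).map (MulAut.conj b).toMonoidHom := by
      intro g hg a b ha hb
      have hK : Subgroup.centralizer ({g} : Set G) ≠ ⊤ := fun h => hg
        (Subgroup.mem_center_iff.mpr fun y => Subgroup.mem_centralizer_singleton_iff.mp (h ▸ Subgroup.mem_top y))
      obtain ⟨R⟩ : Nonempty (Sylow p (Subgroup.centralizer ({g} : Set G))) := inferInstance
      have hR := hsub _ hK R
      obtain ⟨W, hW⟩ := IsPGroup.exists_le_sylow (R.isPGroup'.map (Subgroup.centralizer ({g} : Set G)).subtype)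
      have key : ∀ c : G,
          Subgroup.centralizer ({g} : Set G) ⊓ (P : Subgroup G).map (MulAut.conj c).toMonoidHom ≠ ⊥ →
          c • P = W := by
        intro c hc
        obtain ⟨x, hx, hx1⟩ := (Subgroup.bot_or_exists_ne_one _).resolve_left hc
        have hxP : x ∈ ((c • P : Sylow p G) : Subgroup G) := (hmem c x).mp hx.2
        have hxW : x ∈ (W : Subgroup G) := by
          refine hW ⟨⟨x, hx.1⟩, ?_, rfl⟩
          have hz : IsPGroup p (Subgroup.zpowers (⟨x, hx.1⟩ : Subgroup.centralizer ({g} : Set G))) := by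
            intro y
            obtain ⟨y, hy⟩ := y
            obtain ⟨k, rfl⟩ := Subgroup.mem_zpowers_iff.mp hy
            obtain ⟨j, hj⟩ := (c • P).isPGroup' ⟨x ^ k, Subgroup.zpow_mem _ hxP k⟩
            exact ⟨j, Subtype.ext (Subtype.ext (by simpa using congrArg Subtype.val hj))⟩
          obtain ⟨R', hR'⟩ := hz.exists_le_sylow
          haveI := Sylow.unique_of_normal R hR
          rw [Subsingleton.elim R R']
          exact hR' (Subgroup.mem_zpowers _)
        have hCx : Subgroup.centralizer ({x} : Set G) ≠ ⊤ := fun h => hx1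
          (hnc W x hxW (Subgroup.mem_center_iff.mpr fun y =>
            Subgroup.mem_centralizer_singleton_iff.mp (h ▸ Subgroup.mem_top y)))
        exact sylow_eq_of_le (hsub _ hCx)
          (fun y hy => Subgroup.mem_centralizer_singleton_iff.mpr (hab _ y hy x hxP))
          (fun y hy => Subgroup.mem_centralizer_singleton_iff.mpr (hab _ y hy x hxW))
      have he : a • P = b • P := (key a ha).trans (key b hb).symm
      exact SetLike.ext fun x => by rw [hmem a x, hmem b x, he]
    have hlt := one_add_degree_sq_gt (P : Subgroup G) hPab hPZ hone χ.2 hχ1 hgen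
    rw [hd χ, Complex.natCast_re] at hlt
    have hlt' : Nat.card (P : Subgroup G) < (1 + d χ) ^ 2 := by exact_mod_cast hlt
    have hle : (1 + d χ) ^ 2 ≤ (n + 1) ^ 2 := Nat.pow_le_pow_left (by have := hdn χ hmχ; omega) 2
    have hcard := P.card_eq_multiplicity
    have hpos : 1 ≤ (Nat.card G).factorization p := by
      by_contra h0
      have h1 : Nat.card (P : Subgroup G) = 1 := by
        rw [hcard, show (Nat.card G).factorization p = 0 by omega, pow_zero]
      exact hPn (by rw [Subgroup.eq_bot_of_card_eq _ h1]; infer_instance)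
    rcases hbig with hbig | hbig
    · have : p ≤ Nat.card (P : Subgroup G) := by
        rw [hcard]; exact Nat.le_self_pow (by omega) p
      omega
    · have : p ^ 2 ≤ Nat.card (P : Subgroup G) :=
        by
        rw [hcard]
        exact Nat.pow_le_pow_right hp.pos
          ((hp.pow_dvd_iff_le_factorization Nat.card_pos.ne').mp hbig)
      have := Nat.pow_lt_pow_left hnp two_ne_zero
      omega
  -- a central `p`-element
  have hpel : ∀ x ∈ (P : Subgroup G), ∃ k, orderOf x = p ^ k := fun x hx => by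
    obtain ⟨k, hk⟩ := IsPGroup.iff_orderOf.mp P.isPGroup' ⟨x, hx⟩
    exact ⟨k, by rw [← Subgroup.orderOf_mk x hx]; exact hk⟩
  have hint : ∀ z ∈ (P : Subgroup G), z ∈ Subgroup.center G → z ∈ commutator G → z = 1 :=
    fun z hz hzc hzd => hfaith z fun ψ hψ => apply_central_commutator ψ.2 (hd ψ)
      (by have := hdn ψ hψ; omega) hzc hzd (hpel z hz)
  set M := commutator G with hMdef
  have hMtop : M ≠ ⊤ := fun h => hPZ ((Subgroup.eq_bot_iff_forall _).mpr fun z hz =>
    hint z hz.1 hz.2 (by rw [h]; trivial))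
  obtain ⟨R⟩ : Nonempty (Sylow p M) := inferInstance
  haveI := Sylow.characteristic_of_normal R (hsub M hMtop R)
  haveI : M.Normal := by rw [hMdef]; infer_instance
  have hRn : ((R : Subgroup M).map M.subtype).Normal := inferInstance
  have hRP : (R : Subgroup M).map M.subtype ≤ P := by
    obtain ⟨W, hW⟩ := IsPGroup.exists_le_sylow (R.isPGroup'.map M.subtype)
    obtain ⟨a, ha⟩ := MulAction.exists_smul_eq G W P
    intro x hx
    rw [← ha]
    exact ⟨a⁻¹ * x * a, hW (by simpa using hRn.conj_mem x hx a⁻¹), by simp [mul_assoc]⟩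
  have hpM : ¬ p ∣ Nat.card M := by
    intro hdvd
    obtain ⟨y, hy, hy1⟩ := (Subgroup.bot_or_exists_ne_one (R : Subgroup M)).resolve_left
      (R.ne_bot_of_dvd_card hdvd)
    have hyR : (y : G) ∈ (R : Subgroup M).map M.subtype := ⟨y, hy, rfl⟩
    refine hy1 (Subtype.ext (hint y (hRP hyR) ?_ y.2))
    have htop := hgen (Subgroup.centralizer (((R : Subgroup M).map M.subtype : Subgroup G) : Set G))
      (haveI := hRn; inferInstance)
      (fun x hx => Subgroup.mem_centralizer_iff.mpr fun w hw => hPab w (hRP hw) x hx)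
    refine Subgroup.mem_center_iff.mpr fun g => ?_
    have hg : g ∈ Subgroup.centralizer (((R : Subgroup M).map M.subtype : Subgroup G) : Set G) := by
      rw [htop]; trivial
    exact (Subgroup.mem_centralizer_iff.mp hg y hyR).symm
  have hnormal : ∀ L : Subgroup G, M ≤ L → L.Normal := fun L hL => ⟨fun x hx g => by
    have h : g * x * g⁻¹ * x⁻¹ ∈ M := Subgroup.commutator_mem_commutator trivial trivial
    simpa using L.mul_mem (hL h) hx⟩
  have hMP : M ⊔ (P : Subgroup G) = ⊤ := hgen _ (hnormal _ le_sup_left) le_sup_right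
  have hdisj : ∀ w, w ∈ M → (∃ k, orderOf w = p ^ k) → w = 1 := fun w hw ⟨k, hk⟩ => by
    refine orderOf_eq_one_iff.mp (Nat.eq_one_of_dvd_coprimes
      ((hp.coprime_iff_not_dvd.mpr hpM).pow_left k) (hk ▸ dvd_rfl) ?_)
    rw [← Subgroup.orderOf_mk w hw]
    exact orderOf_dvd_natCard _
  have hcen : ∀ k : ℕ, ∀ x ∈ (P : Subgroup G), orderOf x ∣ p ^ k →
      ∀ w ∈ M, x * w = w * x := by
    intro k
    induction k with
    | zero =>
      intro x _ hx w _
      rw [pow_zero, Nat.dvd_one, orderOf_eq_one_iff] at hx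
      simp [hx]
    | succ k ih =>
      intro x hx hxk w hw
      set L := M ⊔ Subgroup.zpowers x with hL
      haveI hLn := hnormal L le_sup_left
      have hxL : x ∈ L := Subgroup.mem_sup_right (Subgroup.mem_zpowers x)
      by_cases hLtop : L = ⊤
      · by_cases hx1 : x = 1
        · simp [hx1]
        have hxp : x ^ p ∈ Subgroup.center G := by
          refine Subgroup.mem_center_iff.mpr fun g => ?_
          have hord : orderOf (x ^ p) ∣ p ^ k := orderOf_dvd_of_pow_eq_one (by
            rw [← pow_mul, ← pow_succ']; exact orderOf_dvd_iff_pow_eq_one.mp hxk)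
          have hle : L ≤ Subgroup.centralizer ({x ^ p} : Set G) :=
            sup_le (fun v hv => Subgroup.mem_centralizer_singleton_iff.mpr
              (ih (x ^ p) (Subgroup.pow_mem _ hx p) hord v hv).symm)
              (Subgroup.zpowers_le.mpr (Subgroup.mem_centralizer_singleton_iff.mpr
                ((Commute.refl x).pow_right p).eq))
          exact Subgroup.mem_centralizer_singleton_iff.mp (hle (hLtop ▸ Subgroup.mem_top g))
        refine hcomm x w fun ψ hψ => ?_
        exact commutator_mem_kernel_of_small_degree hp M hpM x (hpel x hx) hxp hLtop ψ.2 (hd ψ)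
          (by have := hdn ψ hψ; omega) w
      · obtain ⟨S⟩ : Nonempty (Sylow p L) := inferInstance
        haveI := Sylow.characteristic_of_normal S (hsub L hLtop S)
        have hSn : ((S : Subgroup L).map L.subtype).Normal := inferInstance
        have hxS : x ∈ (S : Subgroup L).map L.subtype := by
          refine ⟨⟨x, hxL⟩, ?_, rfl⟩
          have hz : IsPGroup p (Subgroup.zpowers (⟨x, hxL⟩ : L)) := by
            intro y
            obtain ⟨y, hy⟩ := y
            obtain ⟨j, rfl⟩ := Subgroup.mem_zpowers_iff.mp hy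
            obtain ⟨i, hi⟩ := P.isPGroup' ⟨x ^ j, Subgroup.zpow_mem _ hx j⟩
            exact ⟨i, Subtype.ext (Subtype.ext (by simpa using congrArg Subtype.val hi))⟩
          obtain ⟨S', hS'⟩ := hz.exists_le_sylow
          haveI := Sylow.unique_of_normal S (hsub L hLtop S)
          rw [Subsingleton.elim S S']
          exact hS' (Subgroup.mem_zpowers _)
        have hc : x * w * x⁻¹ * w⁻¹ = 1 := by
          refine hdisj _ ?_ ?_
          · exact Subgroup.commutator_mem_commutator trivial trivial
          · have hin : x * w * x⁻¹ * w⁻¹ ∈ (S : Subgroup L).map L.subtype := by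
              rw [mul_assoc x w, mul_assoc x]
              exact Subgroup.mul_mem _ hxS (hSn.conj_mem _ (Subgroup.inv_mem _ hxS) w)
            obtain ⟨u, hu, hue⟩ := hin
            obtain ⟨i, hi⟩ := IsPGroup.iff_orderOf.mp S.isPGroup' ⟨u, hu⟩
            exact ⟨i, by rw [← hue, ← hi]; exact (Subgroup.orderOf_coe u).trans (Subgroup.orderOf_mk u hu).symm⟩
        exact mul_inv_eq_iff_eq_mul.mp (mul_inv_eq_one.mp hc)
  refine hPn ⟨fun x hx g => ?_⟩
  have hle : M ⊔ (P : Subgroup G) ≤ Subgroup.centralizer ({x} : Set G) := by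
    obtain ⟨k, hk⟩ := hpel x hx
    exact sup_le (fun v hv => Subgroup.mem_centralizer_singleton_iff.mpr
      (hcen k x hx (hk ▸ dvd_rfl) v hv).symm)
      (fun v hv => Subgroup.mem_centralizer_singleton_iff.mpr (hPab v hv x hx))
  have hg := hle (hMP ▸ Subgroup.mem_top g)
  rw [Subgroup.mem_centralizer_singleton_iff.mp hg, mul_inv_cancel_right]
  exact hx

end CfsgLib.RealChar
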