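import Mathlib
import Cfsg.Prelude.Def_Characters
import Cfsg.Agent.Lib.Brauer.Induction
import Cfsg.Agent.Lib.Brauer.Elementary
import Cfsg.Agent.Lib.CharTheory.Orthogonality
import Cfsg.Agent.Lib.CharTheory.Degree

/-!
# Sections of `π`-elements and Brauer's characterisation

`k` is an exponent with `k ≡ 1 [MOD n]` and `m ∣ k`, where the group order divides `n * m`, so that
`x ↦ x ^ k` takes each element to its `π(n)`-part.
-/

set_option autoImplicit false
set_option linter.style.haveILetI false

open scoped ComplexConjugate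
open Cfsg

namespace CfsgLib.RealChar

/-- `k` selects the `π(n)`-part in groups of order dividing `n * m`. -/
def IsPiExp (n m k : ℕ) : Prop := k ≡ 1 [MOD n] ∧ m ∣ k ∧ Nat.Coprime n m

theorem exists_isPiExp {n m : ℕ} (h : Nat.Coprime n m) : ∃ k, IsPiExp n m k := by
  obtain ⟨k, hk1, hk0⟩ := Nat.chineseRemainder h 1 0
  exact ⟨k, hk1, Nat.modEq_zero_iff_dvd.mp hk0, h⟩

variable {G : Type*} [Group G] {n m k : ℕ}

theorem IsPiExp.pow_eq_self (hk : IsPiExp n m k) {x : G} (hx : x ^ n = 1) : x ^ k = x := by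
  conv_rhs => rw [← pow_one x]
  exact pow_eq_pow_iff_modEq.mpr (hk.1.of_dvd (orderOf_dvd_of_pow_eq_one hx))

theorem IsPiExp.pow_eq_one (hk : IsPiExp n m k) {x : G} (hx : x ^ m = 1) : x ^ k = 1 := by
  obtain ⟨j, rfl⟩ := hk.2.1
  rw [pow_mul, hx, one_pow]

theorem IsPiExp.pow_pow_eq_one [Finite G] (hk : IsPiExp n m k) (hG : Nat.card G ∣ n * m) (x : G) :
    (x ^ k) ^ n = 1 := by
  obtain ⟨j, rfl⟩ := hk.2.1
  obtain ⟨i, hi⟩ := hG
  rw [← pow_mul, show m * j * n = n * m * j by ring, hi, mul_assoc, pow_mul, pow_card_eq_one', one_pow]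

theorem IsPiExp.pow_pow (hk : IsPiExp n m k) [Finite G] (hG : Nat.card G ∣ n * m) (x : G) :
    (x ^ k) ^ k = x ^ k :=
  hk.pow_eq_self (hk.pow_pow_eq_one hG x)

/-- On a nilpotent group of order dividing `n * m` the map `x ↦ x ^ k` is a homomorphism. -/
theorem IsPiExp.exists_hom {E : Type*} [Group E] [Finite E] [hE : Group.IsNilpotent E]
    (hk : IsPiExp n m k) (hG : Nat.card E ∣ n * m) : ∃ f : E →* E, ∀ x, f x = x ^ k := by
  classical
  have hn : ∀ {p : ℕ} [Fact p.Prime] (P : Sylow p E), P.Normal :=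
    fun {p} hp P => by
      have h : Group.IsNilpotent E ↔ ∀ (p : ℕ) (_hp : Fact p.Prime) (P : Sylow p E), (P : Subgroup E).Normal :=
        Group.isNilpotent_of_finite_tfae.out 0 3
      exact h.mp hE p hp P
  let e := Sylow.directProductOfNormal hn
  let g : ∀ p : (Nat.card E).primeFactors, ∀ P : Sylow p E, (P →* P) := fun p P =>
    if (p : ℕ) ∣ n then MonoidHom.id P else 1
  have hg : ∀ (p : (Nat.card E).primeFactors) (P : Sylow p E) (y : P), g p P y = y ^ k := by
    intro p P y
    haveI := Fact.mk (Nat.prime_of_mem_primeFactors p.2)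
    obtain ⟨i, hi⟩ := (P.isPGroup' y)
    have hord : orderOf y ∣ n * m :=
      ((orderOf_dvd_natCard y).trans (Subgroup.card_subgroup_dvd_card (P : Subgroup E))).trans hG
    obtain ⟨j, -, hj⟩ := (Nat.dvd_prime_pow Fact.out).mp (orderOf_dvd_of_pow_eq_one hi)
    simp only [g]
    split_ifs with hp
    · have hc : Nat.Coprime (orderOf y) m := by
        rw [hj]
        exact (Nat.Coprime.coprime_dvd_left hp hk.2.2).pow_left j
      rw [MonoidHom.id_apply, hk.pow_eq_self (orderOf_dvd_iff_pow_eq_one.mp (hc.dvd_of_dvd_mul_right hord))]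
    · have hc : Nat.Coprime (orderOf y) n := by
        rw [hj]
        exact ((Nat.Prime.coprime_iff_not_dvd Fact.out).mpr hp).pow_left j
      rw [MonoidHom.one_apply, hk.pow_eq_one (orderOf_dvd_iff_pow_eq_one.mp (hc.dvd_of_dvd_mul_left hord))]
  let F : (∀ p : (Nat.card E).primeFactors, ∀ P : Sylow p E, P) →*
      (∀ p : (Nat.card E).primeFactors, ∀ P : Sylow p E, P) :=
    { toFun := fun x p P => g p P (x p P)
      map_one' := by funext p P; simp
      map_mul' := fun x y => by funext p P; simp }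
  refine ⟨e.toMonoidHom.comp (F.comp e.symm.toMonoidHom), fun x => ?_⟩
  show e (F (e.symm x)) = x ^ k
  have : F (e.symm x) = (e.symm x) ^ k := funext fun p => funext fun P => hg p P _
  rw [this, map_pow, e.apply_symm_apply]

/-- A subgroup all whose elements satisfy `x ^ n = 1` in a group of order dividing `n * m` has order dividing `n`. -/
theorem card_dvd_of_forall_pow (hcop : Nat.Coprime n m) [Finite G] (hG : Nat.card G ∣ n * m)
    (R : Subgroup G) (hR : ∀ x ∈ R, x ^ n = 1) : Nat.card R ∣ n := by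
  refine Nat.Coprime.dvd_of_dvd_mul_right ?_ ((Subgroup.card_subgroup_dvd_card R).trans hG)
  refine Nat.coprime_of_dvd fun p hp hpR hpm => ?_
  haveI := Fact.mk hp
  obtain ⟨x, hx⟩ := exists_prime_orderOf_dvd_card' p hpR
  have h1 : p ∣ n := by
    rw [← hx, ← Subgroup.orderOf_coe]
    exact orderOf_dvd_of_pow_eq_one (hR x x.2)
  exact hp.ne_one (Nat.eq_one_of_dvd_coprimes hcop h1 hpm)

/-- Inner products with generalized characters are integral if they are so on elementary subgroups. -/
theorem isIntegral_classInner_of_elementary [Fintype G] {θ : G → ℂ} (hθ : IsClassFunction G θ)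
    (hE : ∀ (E : Subgroup G) [Fintype E] (p : ℕ), p.Prime → IsElementary p E →
      ∀ l : IrrCharacter E, IsIntegral ℤ (classInner (fun e : E => θ e) (l : E → ℂ)))
    {χ : G → ℂ} (hχ : IsGeneralizedCharacter G χ) : IsIntegral ℤ (classInner θ χ) := by
  classical
  suffices h : ∀ f ∈ CfsgLib.Brauer.elemSpan Set.univ G, IsIntegral ℤ (classInner (θ * f) χ) by
    simpa using h 1 CfsgLib.Brauer.one_mem_elemSpan
  intro f hf
  unfold CfsgLib.Brauer.elemSpan at hf
  induction hf using AddSubgroup.closure_induction with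
  | mem f hf =>
    obtain ⟨E, ψ, ⟨p, -, hp, hEl⟩, hψ, rfl⟩ := hf
    haveI := Fintype.ofFinite E
    haveI := Fintype.ofFinite (IrrCharacter E)
    rw [← CfsgLib.Brauer.indFun_res_mul E ψ hθ,
      CfsgLib.Frobenius.classInner_indFun E _ χ
        (CfsgLib.CharTheory.IsGeneralizedCharacter.isClassFunction hχ)]
    have hres : IsClassFunction E (fun e : E => θ e) := fun a b => by simpa using hθ (a : G) (b : G)
    have hexp : (fun e : E => θ e * ψ e) = ∑ l : IrrCharacter E,
        classInner (fun e : E => θ e) (l : E → ℂ) • ((l : E → ℂ) * ψ) := by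
      funext e
      have := congrFun (CfsgLib.CharTheory.eq_sum_classInner hres) e
      simp only [Finset.sum_apply, Pi.smul_apply, smul_eq_mul, Pi.mul_apply] at this ⊢
      rw [this, Finset.sum_mul]
      exact Finset.sum_congr rfl fun l _ => by ring
    rw [hexp, CfsgLib.CharTheory.classInner_sum_left]
    refine IsIntegral.sum _ fun l _ => ?_
    rw [CfsgLib.CharTheory.classInner_smul_left]
    obtain ⟨z, hz⟩ := CfsgLib.CharTheory.exists_classInner_eq_int
      (CfsgLib.Brauer.isGeneralizedCharacter_mul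
        (CfsgLib.CharTheory.IsIrrCharacter.isGeneralizedCharacter l.2)
        (CfsgLib.CharTheory.IsCharacter.isGeneralizedCharacter hψ))
      (CfsgLib.Brauer.isGeneralizedCharacter_res hχ E)
    rw [hz]
    exact (hE E p hp hEl l).mul isIntegral_algebraMap
  | zero => rw [mul_zero, CfsgLib.CharTheory.classInner_zero_left]; exact isIntegral_zero
  | add a b _ _ ha hb =>
    rw [mul_add, CfsgLib.CharTheory.classInner_add_left]
    exact ha.add hb
  | neg a _ ha =>
    rw [mul_neg, CfsgLib.CharTheory.classInner_neg_left]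
    exact ha.neg

/-- The section function: `n` where the `π(n)`-part lies in `S`, zero elsewhere. -/
noncomputable def sectionFun (n k : ℕ) (S : Set G) (x : G) : ℂ :=
  haveI := Classical.dec (x ^ k ∈ S)
  if x ^ k ∈ S then (n : ℂ) else 0

theorem isClassFunction_sectionFun (S : Set G) (hS : ∀ x g, x ∈ S → g * x * g⁻¹ ∈ S) :
    IsClassFunction G (sectionFun n k S) := by
  classical
  intro x g
  have : (g * x * g⁻¹) ^ k ∈ S ↔ x ^ k ∈ S := by
    rw [conj_pow]
    exact ⟨fun h => by simpa [mul_assoc] using hS _ g⁻¹ h, hS _ g⟩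
  simp only [sectionFun, this]

/-- A section function has integral inner product with every generalized character. -/
theorem isIntegral_classInner_sectionFun [Fintype G] (hk : IsPiExp n m k) (hG : Nat.card G ∣ n * m)
    (S : Set G) (hS : ∀ x g, x ∈ S → g * x * g⁻¹ ∈ S) {χ : G → ℂ} (hχ : IsGeneralizedCharacter G χ) :
    IsIntegral ℤ (classInner (sectionFun n k S) χ) := by
  classical
  refine isIntegral_classInner_of_elementary (isClassFunction_sectionFun S hS) (fun E _ p hp hE l => ?_) hχ
  haveI := CfsgLib.Brauer.isNilpotent_of_isElementary hp hE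
  have hGE : Nat.card E ∣ n * m := (Subgroup.card_subgroup_dvd_card E).trans hG
  obtain ⟨f, hf⟩ := hk.exists_hom (E := E) hGE
  haveI := Fintype.ofFinite f.range
  haveI := Fintype.ofFinite (IrrCharacter f.range)
  obtain ⟨q, hq⟩ : Nat.card f.range ∣ n :=
    card_dvd_of_forall_pow hk.2.2 hGE f.range (by
      rintro _ ⟨x, rfl⟩; rw [hf]; exact hk.pow_pow_eq_one hGE x)
  let F : f.range → ℂ := fun r => if ((r : E) : G) ∈ S then (Nat.card f.range : ℂ) else 0
  have hF : IsClassFunction f.range F := fun a b => by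
    have : (((b * a * b⁻¹ : f.range) : E) : G) ∈ S ↔ ((a : E) : G) ∈ S := by
      simp only [Subgroup.coe_mul, Subgroup.coe_inv]
      exact ⟨fun h => by simpa [mul_assoc] using hS _ (((b : E) : G))⁻¹ h, hS _ _⟩
    simp only [F, this]
  have hcoef : ∀ ψ : IrrCharacter f.range, IsIntegral ℤ (classInner F (ψ : f.range → ℂ)) := by
    intro ψ
    have : classInner F (ψ : f.range → ℂ)
        = ∑ r : f.range, if ((r : E) : G) ∈ S then conj ((ψ : f.range → ℂ) r) else 0 := by
      simp only [classInner, F, ite_mul, zero_mul, Finset.mul_sum]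
      refine Finset.sum_congr rfl fun r _ => ?_
      split_ifs
      · rw [← mul_assoc, inv_mul_cancel₀ (Nat.cast_ne_zero.mpr Nat.card_pos.ne'), one_mul]
      · rw [mul_zero]
    rw [this]
    refine IsIntegral.sum _ fun r _ => ?_
    split_ifs
    · rw [← CfsgLib.CharTheory.IsIrrCharacter.inv ψ.2]
      exact CfsgLib.CharTheory.IsCharacter.isIntegral (CfsgLib.CharTheory.IsIrrCharacter.isCharacter ψ.2) _
    · exact isIntegral_zero
  have hexp : (fun e : E => sectionFun n k S (e : G)) = ∑ ψ : IrrCharacter f.range,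
      ((q : ℂ) * classInner F (ψ : f.range → ℂ)) •
        (fun e : E => (ψ : f.range → ℂ) (f.rangeRestrict e)) := by
    funext e
    have h1 := congrFun (CfsgLib.CharTheory.eq_sum_classInner hF) (f.rangeRestrict e)
    simp only [Finset.sum_apply, Pi.smul_apply, smul_eq_mul] at h1 ⊢
    rw [Finset.sum_congr rfl fun ψ _ => mul_assoc _ _ _, ← Finset.mul_sum, ← h1]
    have he : ((f.rangeRestrict e : E) : G) = (e : G) ^ k := by
      rw [MonoidHom.coe_rangeRestrict, hf]; rfl
    simp only [F, sectionFun, he]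
    split_ifs
    · rw [← Nat.cast_mul, mul_comm q, ← hq]
    · rw [mul_zero]
  rw [hexp, CfsgLib.CharTheory.classInner_sum_left]
  refine IsIntegral.sum _ fun ψ _ => ?_
  rw [CfsgLib.CharTheory.classInner_smul_left]
  obtain ⟨z, hz⟩ := CfsgLib.CharTheory.exists_classInner_eq_int
    (CfsgLib.CharTheory.IsCharacter.isGeneralizedCharacter
      (CfsgLib.Coherence.isCharacter_comp (CfsgLib.CharTheory.IsIrrCharacter.isCharacter ψ.2) f.rangeRestrict))
    (CfsgLib.CharTheory.IsIrrCharacter.isGeneralizedCharacter l.2)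
  rw [hz]
  exact ((isIntegral_algebraMap (R := ℤ) (x := (q : ℤ))).mul (hcoef ψ) |>.mul isIntegral_algebraMap) |> fun h => by
    simpa using h

/-- The integral expansion of a section function. -/
theorem exists_algInt_sectionFun_eq_finsum [Fintype G] (hk : IsPiExp n m k) (hG : Nat.card G ∣ n * m)
    (S : Set G) (hS : ∀ x g, x ∈ S → g * x * g⁻¹ ∈ S) :
    ∃ c : IrrCharacter G → ℂ, (∀ χ, IsIntegral ℤ (c χ)) ∧
      sectionFun n k S = ∑ᶠ χ : IrrCharacter G, c χ • (χ : G → ℂ) := by
  haveI := Fintype.ofFinite (IrrCharacter G)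
  refine ⟨fun χ => classInner (sectionFun n k S) (χ : G → ℂ), fun χ =>
    isIntegral_classInner_sectionFun hk hG S hS (CfsgLib.CharTheory.IsIrrCharacter.isGeneralizedCharacter χ.2), ?_⟩
  rw [finsum_eq_sum_of_fintype]
  exact CfsgLib.CharTheory.eq_sum_classInner (isClassFunction_sectionFun S hS)

/-- Frobenius' theorem for a Hall divisor: the number of elements with trivial `π(n)`-part is divisible
by `m`, when the group has order exactly `n * m`. -/
theorem dvd_card_pow_eq_one [Finite G] (hk : IsPiExp n m k) (hG : Nat.card G = n * m) :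
    m ∣ Nat.card {x : G // x ^ k = 1} := by
  classical
  haveI := Fintype.ofFinite G
  have h := isIntegral_classInner_sectionFun hk (dvd_of_eq hG) {1} (fun x g hx => by
    rw [Set.mem_singleton_iff] at hx ⊢; rw [hx]; simp)
    (CfsgLib.CharTheory.IsIrrCharacter.isGeneralizedCharacter CfsgLib.CharTheory.isIrrCharacter_one)
  have hnm : n ≠ 0 ∧ m ≠ 0 := by
    rw [← not_or, ← mul_eq_zero, ← hG]; exact Nat.card_pos.ne'
  have hval : classInner (sectionFun n k ({1} : Set G)) (fun _ => 1)
      = (((Nat.card {x : G // x ^ k = 1} : ℚ) / (m : ℚ) : ℚ) : ℂ) := by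
    simp only [classInner, sectionFun, map_one, mul_one, Set.mem_singleton_iff]
    rw [← Finset.sum_filter, Finset.sum_const, nsmul_eq_mul, hG, Nat.card_eq_fintype_card,
      Fintype.card_subtype]
    have h1 : (n : ℂ) ≠ 0 := Nat.cast_ne_zero.mpr hnm.1
    have h2 : (m : ℂ) ≠ 0 := Nat.cast_ne_zero.mpr hnm.2
    push_cast
    field_simp
  rw [hval] at h
  obtain ⟨z, hz⟩ := CfsgLib.CharTheory.exists_int_of_isIntegral_ratCast h
  rw [eq_div_iff (Nat.cast_ne_zero.mpr hnm.2)] at hz
  exact Int.natCast_dvd_natCast.mp ⟨z, by rw [mul_comm]; exact_mod_cast hz.symm⟩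

end CfsgLib.RealChar
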