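import Mathlib
import Cfsg.Prelude.Def_Characters
import Cfsg.Agent.Lib.RealChar.PiSection

/-!
# The Brauer–Suzuki normal complement theorem for Hall subgroups
-/

set_option autoImplicit false
set_option linter.style.haveILetI false

open scoped ComplexConjugate
open Cfsg

namespace CfsgLib.RealChar

variable {G : Type*} [Group G] [Finite G] (H : Subgroup G)

/-- A cyclic group is elementary for a prime larger than the group. -/
theorem exists_isElementary_zpowers (y : G) :
    ∃ p : ℕ, p.Prime ∧ Cfsg.IsElementary p (Subgroup.zpowers y) := by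
  obtain ⟨p, hle, hp⟩ := Nat.exists_infinite_primes (Nat.card G + 1)
  refine ⟨p, hp, ⟨y, Subgroup.mem_zpowers y⟩, ?_, ?_, 0, ?_⟩
  · rw [Subgroup.mem_center_iff]
    rintro ⟨z, i, rfl⟩
    exact Subtype.ext ((Commute.refl y).zpow_left i)
  · refine ((Nat.Prime.coprime_iff_not_dvd hp).mpr fun hd => ?_).symm
    have h1 := Nat.le_of_dvd (orderOf_pos _) hd
    rw [← Subgroup.orderOf_coe] at h1
    have h2 : orderOf y ≤ Nat.card G := Nat.le_of_dvd Nat.card_pos (orderOf_dvd_natCard y)
    exact absurd (h1.trans h2) (by omega)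
  · rw [pow_zero, Subgroup.index_eq_one, Subgroup.eq_top_iff']
    rintro ⟨z, i, rfl⟩
    exact ⟨i, Subtype.ext rfl⟩

variable {H}

/-- In the setting of the Brauer–Suzuki theorem the `π`-part of the order of a centralizer divides that
of the centralizer in `H`. -/
theorem dvd_card_centralizer_inf {n m k : ℕ} (hk : IsPiExp n m k) (hG : Nat.card G ∣ n * m)
    (hn : Nat.card H = n)
    (hfus : ∀ x ∈ H, ∀ y ∈ H, IsConj x y → ∃ h ∈ H, h * x * h⁻¹ = y)
    (helem : ∀ (E : Subgroup G) (p : ℕ), p.Prime → Cfsg.IsElementary p E → Nat.card E ∣ Nat.card H →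
      ∃ g : G, E.map (MulAut.conj g).toMonoidHom ≤ H) {y : G} (hy : y ∈ H)
    {a : ℕ} (ha : a ∣ Nat.card (Subgroup.centralizer ({y} : Set G))) (han : a ∣ n) :
    a ∣ Nat.card ↥(H ⊓ Subgroup.centralizer ({y} : Set G)) := by
  classical
  set C := Subgroup.centralizer ({y} : Set G)
  set D := H ⊓ C
  have hyC : y ∈ C := Subgroup.mem_centralizer_singleton_iff.mpr rfl
  rw [← Nat.factorization_le_iff_dvd (by rintro rfl; exact Nat.card_pos.ne' (Nat.eq_zero_of_zero_dvd ha))
    Nat.card_pos.ne']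
  intro q
  by_cases hq : q.Prime
  swap
  · simp [hq]
  haveI := Fact.mk hq
  set t := a.factorization q
  rcases Nat.eq_zero_or_pos t with ht | ht
  · omega
  rw [← hq.pow_dvd_iff_le_factorization Nat.card_pos.ne']
  obtain ⟨Q, hQ⟩ := Sylow.exists_subgroup_card_pow_prime q ((Nat.ordProj_dvd a q).trans ha)
  let Q' := Q.map C.subtype
  have hQ' : Nat.card Q' = q ^ t := (Subgroup.card_map_of_injective C.subtype_injective).trans hQ
  obtain ⟨u, c, hu, hc, huc, -, ⟨i, hi⟩, hcop⟩ := exists_pPart_decomp q hq y (isOfFinOrder_of_finite y)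
  set E := Subgroup.zpowers y ⊔ Q'
  have hycent : ∀ z ∈ E, z * y = y * z := by
    have : E ≤ C := sup_le (Subgroup.zpowers_le.mpr hyC) (Subgroup.map_subtype_le _)
    exact fun z hz => (Subgroup.mem_centralizer_singleton_iff.mp (this hz))
  have hyE : y ∈ E := Subgroup.mem_sup_left (Subgroup.mem_zpowers y)
  have hcE : c ∈ E := (Subgroup.zpowers_le.mpr hyE) hc
  set c' : E := ⟨c, hcE⟩
  have hc'c : c' ∈ Subgroup.center E := by
    rw [Subgroup.mem_center_iff]
    intro z
    obtain ⟨l, rfl⟩ := hc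
    exact Subtype.ext ((show Commute (z : G) y from hycent z z.2).zpow_right l)
  haveI hN : (Subgroup.zpowers c').Normal := CfsgLib.Brauer.normal_of_le_center (Subgroup.zpowers_le.mpr hc'c)
  set y' : E := ⟨y, hyE⟩
  have hy'c : y' ∈ Subgroup.center E :=
    Subgroup.mem_center_iff.mpr fun z => Subtype.ext (hycent z z.2)
  -- the quotient by the `q'`-part is a `q`-group
  have hQE : Q' ≤ E := le_sup_right
  let Q'' := Q'.subgroupOf E
  have hQ''card : Nat.card Q'' = q ^ t :=
    (Nat.card_congr (Subgroup.subgroupOfEquivOfLe hQE).toEquiv).trans hQ'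
  haveI : (Subgroup.zpowers y').Normal := CfsgLib.Brauer.normal_of_le_center (Subgroup.zpowers_le.mpr hy'c)
  have hsup : Subgroup.zpowers y' ⊔ Q'' = ⊤ := by
    refine eq_top_iff.mpr ?_
    have hmap : (Subgroup.zpowers y' ⊔ Q'').map E.subtype = E := by
      rw [Subgroup.map_sup, MonoidHom.map_zpowers, Subgroup.map_subgroupOf_eq_of_le hQE]
      rfl
    intro z _
    have hz : (z : G) ∈ (Subgroup.zpowers y' ⊔ Q'').map E.subtype := by rw [hmap]; exact z.2
    obtain ⟨w, hw, hwz⟩ := hz
    exact (Subtype.ext hwz : w = z) ▸ hw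
  have hpg : IsPGroup q (E ⧸ Subgroup.zpowers c') := by
    intro z
    induction z using QuotientGroup.induction_on with
    | H z =>
      obtain ⟨v, ⟨l, hv⟩, w, hw, rfl⟩ := Subgroup.mem_sup_of_normal_left.mp (hsup ▸ Subgroup.mem_top z)
      obtain ⟨e, he⟩ := (IsPGroup.of_card (n := t) hQ''card) ⟨w, hw⟩
      have he' : w ^ q ^ e = 1 := congrArg Subtype.val he
      have hy' : (QuotientGroup.mk y' : E ⧸ Subgroup.zpowers c') ^ q ^ i = 1 := by
        obtain ⟨uu, huu⟩ : ∃ uu : E, (uu : G) = u := ⟨⟨u, (Subgroup.zpowers_le.mpr hyE) hu⟩, rfl⟩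
        have h1 : y' = uu * c' := Subtype.ext (by rw [Subgroup.coe_mul, huu]; exact huc.symm)
        rw [h1, QuotientGroup.mk_mul, (QuotientGroup.eq_one_iff c').mpr (Subgroup.mem_zpowers c'), mul_one,
          ← QuotientGroup.mk_pow]
        have h2 : uu ^ q ^ i = 1 := Subtype.ext (by
          rw [Subgroup.coe_pow, huu, ← hi, pow_orderOf_eq_one]; rfl)
        rw [h2, QuotientGroup.mk_one]
      refine ⟨i + e, ?_⟩
      have hcomm : Commute (QuotientGroup.mk v : E ⧸ Subgroup.zpowers c') (QuotientGroup.mk w) := by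
        rw [← hv]
        exact Commute.map (show Commute (y' ^ l) w from (Subgroup.mem_center_iff.mp ((Subgroup.center E).zpow_mem hy'c l) w).symm) (QuotientGroup.mk' _)
      rw [QuotientGroup.mk_mul, hcomm.mul_pow, pow_add]
      have e1 : (QuotientGroup.mk v : E ⧸ Subgroup.zpowers c') ^ (q ^ i * q ^ e) = 1 := by
        rw [← hv, QuotientGroup.mk_zpow, pow_mul, ← zpow_natCast _ (q ^ i), ← zpow_mul, mul_comm l, zpow_mul,
          zpow_natCast, hy', one_zpow, one_pow]
      have e2 : (QuotientGroup.mk w : E ⧸ Subgroup.zpowers c') ^ (q ^ i * q ^ e) = 1 := by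
        rw [mul_comm, pow_mul, ← QuotientGroup.mk_pow, he', QuotientGroup.mk_one, one_pow]
      rw [e1, e2, one_mul]
  obtain ⟨s, hs⟩ := hpg.exists_card_eq
  have hel : Cfsg.IsElementary q E := ⟨c', hc'c, by rw [← Subgroup.orderOf_coe]; exact hcop, s, hs⟩
  have hqn : q ∣ n := (dvd_pow_self q ht.ne').trans ((Nat.ordProj_dvd a q).trans han)
  have hcardE : Nat.card E ∣ Nat.card H := by
    rw [hn]
    refine card_dvd_of_forall_pow hk.2.2 hG E fun z hz => ?_
    refine orderOf_dvd_iff_pow_eq_one.mp ?_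
    refine Nat.Coprime.dvd_of_dvd_mul_right ?_ ((orderOf_dvd_natCard z).trans hG)
    refine Nat.coprime_of_dvd fun r hr hrz hrm => ?_
    have hrn : r ∣ n := by
      have h1 : r ∣ (Subgroup.zpowers c').index * Nat.card (Subgroup.zpowers c') := by
        rw [mul_comm, Subgroup.card_mul_index]
        exact hrz.trans (Subgroup.orderOf_coe (⟨z, hz⟩ : E) ▸ orderOf_dvd_natCard (⟨z, hz⟩ : E))
      rcases hr.dvd_mul.mp h1 with h2 | h2
      · rw [show (Subgroup.zpowers c').index = q ^ s from hs] at h2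
        exact (Nat.prime_dvd_prime_iff_eq hr hq).mp (hr.dvd_of_dvd_pow h2) ▸ hqn
      · rw [Nat.card_zpowers, ← Subgroup.orderOf_coe] at h2
        have hyn : orderOf y ∣ n := hn ▸ (Subgroup.orderOf_coe (⟨y, hy⟩ : H) ▸ orderOf_dvd_natCard (⟨y, hy⟩ : H))
        exact h2.trans ((orderOf_dvd_of_mem_zpowers hc).trans hyn)
    exact hr.ne_one (Nat.eq_one_of_dvd_coprimes hk.2.2 hrn hrm)
  obtain ⟨g, hg⟩ := helem E q hq hel hcardE
  obtain ⟨h, hh, hhy⟩ := hfus y hy (g * y * g⁻¹) (hg ⟨y, hyE, rfl⟩) (isConj_iff.mpr ⟨g, rfl⟩)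
  set τ := h⁻¹ * g with hτ
  have hle : Q'.map (MulAut.conj τ).toMonoidHom ≤ D := by
    rintro _ ⟨z, hz, rfl⟩
    have hzy : z * y = y * z := hycent z (hQE hz)
    simp only [MulEquiv.coe_toMonoidHom, MulAut.conj_apply]
    refine ⟨?_, ?_⟩
    · rw [show τ * z * τ⁻¹ = h⁻¹ * (g * z * g⁻¹) * h by rw [hτ]; group]
      exact H.mul_mem (H.mul_mem (H.inv_mem hh) (hg ⟨z, hQE hz, rfl⟩)) hh
    · refine Subgroup.mem_centralizer_singleton_iff.mpr ?_
      have hτy : τ * y * τ⁻¹ = y := by
        rw [show τ * y * τ⁻¹ = h⁻¹ * (g * y * g⁻¹) * h by rw [hτ]; group, ← hhy]; group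
      calc τ * z * τ⁻¹ * y = τ * z * τ⁻¹ * (τ * y * τ⁻¹) := by rw [hτy]
        _ = τ * (z * y) * τ⁻¹ := by group
        _ = (τ * y * τ⁻¹) * (τ * z * τ⁻¹) := by rw [hzy]; group
        _ = y * (τ * z * τ⁻¹) := by rw [hτy]
  have := Subgroup.card_dvd_of_le hle
  rwa [Subgroup.card_map_of_injective (MulEquiv.injective _), hQ'] at this

/-- **Brauer–Suzuki**: a Hall subgroup controlling fusion and receiving the elementary `π`-subgroups has a
normal complement. -/
theorem exists_normal_complement (hHall : Nat.Coprime (Nat.card H) H.index)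
    (hfus : ∀ x ∈ H, ∀ y ∈ H, IsConj x y → ∃ h ∈ H, h * x * h⁻¹ = y)
    (helem : ∀ (E : Subgroup G) (p : ℕ), p.Prime → Cfsg.IsElementary p E → Nat.card E ∣ Nat.card H →
      ∃ g : G, E.map (MulAut.conj g).toMonoidHom ≤ H) :
    ∃ K : Subgroup G, K.Normal ∧ K ⊔ H = ⊤ ∧ K ⊓ H = ⊥ := by
  classical
  haveI := Fintype.ofFinite G
  haveI := Fintype.ofFinite H
  haveI := Fintype.ofFinite (IrrCharacter H)
  obtain ⟨k, hk⟩ := exists_isPiExp hHall
  set n := Nat.card H with hn
  set m := H.index with hm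
  have hcard : Nat.card G = n * m := (Subgroup.card_mul_index H).symm
  have hG : Nat.card G ∣ n * m := dvd_of_eq hcard
  have hpow : ∀ h : H, (h : G) ^ n = 1 := fun h => by
    rw [← Subgroup.coe_pow, hn, pow_card_eq_one', Subgroup.coe_one]
  have hfixH : ∀ h : H, (h : G) ^ k = h := fun h => hk.pow_eq_self (hpow h)
  -- every `π`-element is conjugate into `H`
  have hinto : ∀ x : G, ∃ g : G, g * x ^ k * g⁻¹ ∈ H := by
    intro x
    obtain ⟨p, hp, hE⟩ := exists_isElementary_zpowers (x ^ k)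
    obtain ⟨g, hg⟩ := helem (Subgroup.zpowers (x ^ k)) p hp hE (by
      rw [Nat.card_zpowers]; exact orderOf_dvd_of_pow_eq_one (hk.pow_pow_eq_one hG x))
    exact ⟨g, hg ⟨_, Subgroup.mem_zpowers _, rfl⟩⟩
  choose t ht using hinto
  let ext : (H → ℂ) → G → ℂ := fun ψ x => ψ ⟨t x * x ^ k * (t x)⁻¹, ht x⟩
  -- well-definedness
  have hext : ∀ (ψ : H → ℂ), IsClassFunction H ψ → ∀ (x g : G) (hg : g * x ^ k * g⁻¹ ∈ H),
      ext ψ x = ψ ⟨g * x ^ k * g⁻¹, hg⟩ := by
    intro ψ hψ x g hg
    obtain ⟨h, hh, hhe⟩ := hfus _ (ht x) _ hg (isConj_iff.mpr ⟨g * (t x)⁻¹, by group⟩)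
    rw [show (⟨g * x ^ k * g⁻¹, hg⟩ : H) = ⟨h, hh⟩ * ⟨t x * x ^ k * (t x)⁻¹, ht x⟩ * ⟨h, hh⟩⁻¹ from
      Subtype.ext hhe.symm, hψ]
  have hextclass : ∀ (ψ : H → ℂ), IsClassFunction H ψ → IsClassFunction G (ext ψ) := by
    intro ψ hψ x g
    have he : t x * g⁻¹ * (g * x * g⁻¹) ^ k * (t x * g⁻¹)⁻¹ = t x * x ^ k * (t x)⁻¹ := by
      rw [conj_pow]; group
    rw [hext ψ hψ (g * x * g⁻¹) (t x * g⁻¹) (he ▸ ht x)]
    exact congrArg ψ (Subtype.ext he)
  have hres : ∀ (ψ : H → ℂ), IsClassFunction H ψ → ∀ h : H, ext ψ h = ψ h := by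
    intro ψ hψ h
    rw [hext ψ hψ h 1 (by rw [hfixH]; simp)]
    exact congrArg ψ (Subtype.ext (show (1 : G) * (h : G) ^ k * 1⁻¹ = (h : G) by rw [hfixH]; simp))
  have hgen : ∀ (ψ : H → ℂ), IsCharacter H ψ → IsGeneralizedCharacter G (ext ψ) := by
    intro ψ hψ
    have hψc := CfsgLib.CharTheory.IsCharacter.isClassFunction hψ
    refine CfsgLib.Brauer.isGeneralizedCharacter_of_elementary (hextclass ψ hψc) fun E p hp hE => ?_
    haveI := CfsgLib.Brauer.isNilpotent_of_isElementary hp hE
    have hGE : Nat.card E ∣ n * m := (Subgroup.card_subgroup_dvd_card E).trans hG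
    obtain ⟨f, hf⟩ := hk.exists_hom (E := E) hGE
    let R : Subgroup G := f.range.map E.subtype
    have hRpow : ∀ r ∈ R, r ^ n = 1 := by
      rintro _ ⟨_, ⟨e, rfl⟩, rfl⟩
      rw [← map_pow, hf, hk.pow_pow_eq_one hGE, map_one]
    have hRel : Cfsg.IsElementary p R :=
      CfsgLib.Brauer.isElementary_of_mulEquiv hp
        (CfsgLib.Brauer.isElementary_of_injective hp hE f.range.subtype f.range.subtype_injective)
        (f.range.equivMapOfInjective E.subtype E.subtype_injective).symm
    obtain ⟨g, hg⟩ := helem R p hp hRel (card_dvd_of_forall_pow hHall hG R hRpow)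
    let φ : E →* H := MonoidHom.codRestrict
      (((MulAut.conj g).toMonoidHom.comp E.subtype).comp f) H fun e => hg ⟨_, ⟨_, ⟨e, rfl⟩, rfl⟩, rfl⟩
    have : (fun e : E => ext ψ (e : G)) = fun e => ψ (φ e) := by
      funext e
      have hmem : g * (e : G) ^ k * g⁻¹ ∈ H := by
        have h0 := hg ⟨_, ⟨f e, ⟨e, rfl⟩, rfl⟩, rfl⟩
        simpa [hf] using h0
      rw [hext ψ hψc (e : G) g hmem]
      exact congrArg ψ (Subtype.ext (by simp [φ, hf]))
    rw [this]
    exact CfsgLib.CharTheory.IsCharacter.isGeneralizedCharacter (CfsgLib.Coherence.isCharacter_comp hψ φ)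
  -- the count of each section
  let N : G → ℕ := fun y => (Finset.univ.filter fun x : G => x ^ k = y).card
  let D : H → ℕ := fun h => Nat.card ↥(H ⊓ Subgroup.centralizer ({(h : G)} : Set G))
  let C : H → ℕ := fun h => Nat.card (Subgroup.centralizer ({(h : G)} : Set G))
  have hdiv : ∀ h : H, C h ∣ D h * N h ∧ D h ∣ C h := by
    intro h
    set Z := Subgroup.centralizer ({(h : G)} : Set G)
    have hD : D h ∣ C h := Subgroup.card_dvd_of_le inf_le_right
    refine ⟨?_, hD⟩
    set a := Nat.gcd (C h) n with ha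
    have hZG : C h ∣ n * m := (Subgroup.card_subgroup_dvd_card Z).trans hG
    have haC : a ∣ C h := Nat.gcd_dvd_left _ _
    have haD : a ∣ D h :=
      dvd_card_centralizer_inf hk hG rfl hfus helem h.2 haC (Nat.gcd_dvd_right _ _)
    obtain ⟨b, hb⟩ := haC
    have hbm : b ∣ m := by
      have h1 : C h ∣ Nat.gcd (C h) n * Nat.gcd (C h) m := by
        rw [← Nat.Coprime.gcd_mul _ hHall]
        exact Nat.dvd_gcd dvd_rfl hZG
      rw [← ha, hb] at h1
      exact (Nat.dvd_of_mul_dvd_mul_left (Nat.gcd_pos_of_pos_right _ Nat.card_pos) h1).trans (Nat.gcd_dvd_right _ _)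
    have hkZ : IsPiExp a b k := ⟨hk.1.of_dvd (Nat.gcd_dvd_right _ _), hbm.trans hk.2.1,
      (hHall.coprime_dvd_left (Nat.gcd_dvd_right _ _)).coprime_dvd_right hbm⟩
    have hfrob := dvd_card_pow_eq_one (G := Z) hkZ hb
    have hNeq : Nat.card {z : Z // z ^ k = 1} = N h := by
      show _ = (Finset.univ.filter fun x : G => x ^ k = (h : G)).card
      rw [← Fintype.card_subtype, ← Nat.card_eq_fintype_card]
      refine Nat.card_congr
        { toFun := fun z => ⟨(z.1 : G) * h, ?_⟩
          invFun := fun x => ⟨⟨x.1 * (h : G)⁻¹, ?_⟩, ?_⟩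
          left_inv := fun z => Subtype.ext (Subtype.ext (mul_inv_cancel_right _ _))
          right_inv := fun x => Subtype.ext (inv_mul_cancel_right _ _) }
      · have hz : ((z.1 : G)) * h = h * z.1 := Subgroup.mem_centralizer_singleton_iff.mp z.1.2
        rw [Commute.mul_pow hz, hfixH, ← Subgroup.coe_pow, z.2, Subgroup.coe_one, one_mul]
      · refine Subgroup.mem_centralizer_singleton_iff.mpr ?_
        have hcx : x.1 * (h : G) = (h : G) * x.1 := by
          obtain ⟨x, hx⟩ := x
          have h2 := Commute.self_pow x k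
          rw [hx] at h2
          exact h2.eq
        rw [inv_mul_cancel_right, ← mul_assoc, ← hcx, mul_inv_cancel_right]
      · have hcx : Commute x.1 ((h : G))⁻¹ := by
          refine Commute.inv_right ?_
          obtain ⟨x, hx⟩ := x
          have h2 := Commute.self_pow x k
          rw [hx] at h2
          exact h2
        exact Subtype.ext (by simp [hcx.mul_pow, x.2, hfixH])
    rw [hNeq] at hfrob
    rw [hb]
    exact mul_dvd_mul haD hfrob
  -- rewriting sums over `G`
  have hsum : ∀ F : G → ℂ, IsClassFunction G F →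
      ∑ x : G, F (x ^ k) = (Nat.card G : ℂ) / (n : ℂ) *
        ∑ h : H, F h * ((D h * N h : ℕ) : ℂ) / (C h : ℂ) := by
    intro F hF
    have hNclass : ∀ (y g : G), N (g * y * g⁻¹) = N y := by
      intro y g
      refine Finset.card_equiv (MulAut.conj g⁻¹).toEquiv fun x => ?_
      simp only [Finset.mem_filter, Finset.mem_univ, true_and, MulEquiv.toEquiv_eq_coe, EquivLike.coe_coe,
        MulAut.conj_apply, conj_pow]
      constructor
      · intro hx; rw [hx]; group
      · intro hx; rw [← hx]; group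
    have h1 : ∑ x : G, F (x ^ k) = ∑ y : G, F y * (N y : ℂ) := by
      rw [← Finset.sum_fiberwise Finset.univ (fun x : G => x ^ k) (fun x => F (x ^ k))]
      refine Finset.sum_congr rfl fun y _ => ?_
      rw [Finset.sum_congr rfl fun x hx => by rw [(Finset.mem_filter.mp hx).2], Finset.sum_const,
        nsmul_eq_mul, mul_comm]
    let W : H → ℂ := fun h => (D h : ℂ) / ((C h : ℂ) * (n : ℂ))
    have h2 : ∀ y : G, F y * (N y : ℂ) =
        ∑ h : H, ∑ g : G, if g * h * g⁻¹ = y then F y * (N y : ℂ) * W h else 0 := by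
      intro y
      rcases eq_or_ne (N y) 0 with h0 | h0
      · simp [h0]
      obtain ⟨x, hx⟩ := Finset.card_ne_zero.mp h0
      have hxy : x ^ k = y := (Finset.mem_filter.mp hx).2
      set h₀ : H := ⟨t x * x ^ k * (t x)⁻¹, ht x⟩ with hh₀
      have hyh : y = (t x)⁻¹ * h₀ * ((t x)⁻¹)⁻¹ := by rw [hh₀, ← hxy]; simp [mul_assoc]
      have hW : ∀ h : H, IsConj (h₀ : G) h → W h = W h₀ := by
        intro h hh
        obtain ⟨c, hc⟩ := isConj_iff.mp hh
        obtain ⟨d, hd, hdd⟩ := hfus _ h₀.2 _ h.2 hh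
        have e1 : Subgroup.centralizer ({(h : G)} : Set G)
            = (Subgroup.centralizer ({(h₀ : G)} : Set G)).map (MulAut.conj d).toMonoidHom := by
          ext z
          simp only [Subgroup.mem_map, Subgroup.mem_centralizer_singleton_iff, MulEquiv.coe_toMonoidHom,
            MulAut.conj_apply]
          constructor
          · intro hz
            refine ⟨d⁻¹ * z * d, ?_, by group⟩
            calc d⁻¹ * z * d * h₀ = d⁻¹ * (z * (d * h₀ * d⁻¹)) * d := by group
              _ = d⁻¹ * ((d * h₀ * d⁻¹) * z) * d := by rw [hdd, hz]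
              _ = h₀ * (d⁻¹ * z * d) := by group
          · rintro ⟨w, hw, rfl⟩
            rw [← hdd]
            calc d * w * d⁻¹ * (d * h₀ * d⁻¹) = d * (w * h₀) * d⁻¹ := by group
              _ = d * (h₀ * w) * d⁻¹ := by rw [hw]
              _ = d * h₀ * d⁻¹ * (d * w * d⁻¹) := by group
        have e2 : H.map (MulAut.conj d).toMonoidHom = H := by
          ext z
          simp only [Subgroup.mem_map, MulEquiv.coe_toMonoidHom, MulAut.conj_apply]
          exact ⟨fun ⟨w, hw, hwz⟩ => hwz ▸ H.mul_mem (H.mul_mem hd hw) (H.inv_mem hd),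
            fun hz => ⟨d⁻¹ * z * d, H.mul_mem (H.mul_mem (H.inv_mem hd) hz) hd, by group⟩⟩
        have e3 : C h = C h₀ := by
          show Nat.card (Subgroup.centralizer ({(h : G)} : Set G)) = _
          rw [e1, Subgroup.card_map_of_injective (MulEquiv.injective _)]
        have e4 : D h = D h₀ := by
          show Nat.card ↥(H ⊓ Subgroup.centralizer ({(h : G)} : Set G)) = _
          rw [e1]; nth_rewrite 1 [← e2]
          rw [← Subgroup.map_inf _ _ _ (MulEquiv.injective _), Subgroup.card_map_of_injective (MulEquiv.injective _)]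
        show (D h : ℂ) / _ = _
        rw [e3, e4]
      have hcount : ∀ h : H, (Finset.univ.filter fun g : G => g * h * g⁻¹ = y).card
          = if IsConj (h₀ : G) h then C h₀ else 0 := by
        intro h
        split_ifs with hh
        · obtain ⟨c, hc⟩ := isConj_iff.mp hh
          rw [← Fintype.card_subtype, ← Nat.card_eq_fintype_card]
          refine Nat.card_congr
            { toFun := fun g => ⟨t x * g.1 * c, Subgroup.mem_centralizer_singleton_iff.mpr ?_⟩
              invFun := fun z => ⟨(t x)⁻¹ * z.1 * c⁻¹, ?_⟩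
              left_inv := fun g => Subtype.ext (by group)
              right_inv := fun z => Subtype.ext (by group) }
          · obtain ⟨g, this⟩ := g
            show t x * g * c * h₀ = h₀ * (t x * g * c)
            rw [← hc, hyh] at this
            calc t x * g * c * h₀ = t x * (g * (c * h₀ * c⁻¹) * g⁻¹) * g * c := by group
              _ = t x * ((t x)⁻¹ * h₀ * ((t x)⁻¹)⁻¹) * g * c := by rw [this]
              _ = h₀ * (t x * g * c) := by group
          · have hz := Subgroup.mem_centralizer_singleton_iff.mp z.2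
            rw [hyh, ← hc]
            calc (t x)⁻¹ * z.1 * c⁻¹ * (c * h₀ * c⁻¹) * ((t x)⁻¹ * z.1 * c⁻¹)⁻¹
                = (t x)⁻¹ * (z.1 * h₀) * z.1⁻¹ * t x := by group
              _ = (t x)⁻¹ * h₀ * ((t x)⁻¹)⁻¹ := by rw [hz]; group
        · refine Finset.card_eq_zero.mpr (Finset.filter_eq_empty_iff.mpr fun g _ hg => hh ?_)
          exact isConj_iff.mpr ⟨g⁻¹ * (t x)⁻¹, by rw [← inv_inv (g⁻¹ * _)]; simp only [mul_inv_rev, inv_inv]; rw [hyh] at hg; calc
            g⁻¹ * (t x)⁻¹ * ↑h₀ * (t x * g) = g⁻¹ * ((t x)⁻¹ * h₀ * ((t x)⁻¹)⁻¹) * g := by group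
            _ = g⁻¹ * (g * h * g⁻¹) * g := by rw [hg]
            _ = h := by group⟩
      have hclassH : (Finset.univ.filter fun h : H => IsConj (h₀ : G) h).card * D h₀ = n := by
        have h1 := CfsgLib.CharTheory.card_isConj (G := H) h₀
        have hD : D h₀ = Nat.card (Subgroup.centralizer ({h₀} : Set H)) := by
          refine Nat.card_congr
            { toFun := fun z => ⟨⟨z.1, z.2.1⟩, Subgroup.mem_centralizer_singleton_iff.mpr
                (Subtype.ext (Subgroup.mem_centralizer_singleton_iff.mp z.2.2))⟩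
              invFun := fun z => ⟨(z.1 : G), z.1.2, Subgroup.mem_centralizer_singleton_iff.mpr
                (congrArg Subtype.val (Subgroup.mem_centralizer_singleton_iff.mp z.2))⟩
              left_inv := fun _ => rfl
              right_inv := fun _ => rfl }
        have he : ∀ h : H, IsConj (h₀ : G) h ↔ IsConj h₀ h := by
          refine fun h => ⟨fun hh => ?_, fun hh => by obtain ⟨c, hc⟩ := isConj_iff.mp hh; exact isConj_iff.mpr ⟨(c : G), congrArg Subtype.val hc⟩⟩
          obtain ⟨d, hd, hdd⟩ := hfus _ h₀.2 _ h.2 hh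
          exact isConj_iff.mpr ⟨⟨d, hd⟩, Subtype.ext hdd⟩
        rw [Finset.filter_congr fun h _ => he h, ← Fintype.card_subtype, ← Nat.card_eq_fintype_card, h1, hD]
        exact Subgroup.index_mul_card _
      simp only [Finset.sum_ite, Finset.sum_const_zero, add_zero, Finset.sum_const, nsmul_eq_mul, hcount]
      calc F y * (N y : ℂ) = F y * (N y : ℂ) *
            (((Finset.univ.filter fun h : H => IsConj (h₀ : G) h).card : ℂ) * ((C h₀ : ℂ) * W h₀)) := by
            have hC0 : (C h₀ : ℂ) ≠ 0 := Nat.cast_ne_zero.mpr Nat.card_pos.ne'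
            have hn0 : (n : ℂ) ≠ 0 := Nat.cast_ne_zero.mpr Nat.card_pos.ne'
            have : ((Finset.univ.filter fun h : H => IsConj (h₀ : G) h).card : ℂ) * (D h₀ : ℂ) = (n : ℂ) := by
              exact_mod_cast hclassH
            show _ = _ * (_ * (_ * ((D h₀ : ℂ) / _)))
            field_simp
            linear_combination -(F y) * this
        _ = ∑ h ∈ Finset.univ.filter (fun h : H => IsConj (h₀ : G) h), F y * (N y : ℂ) * ((C h₀ : ℂ) * W h₀) := by
            rw [Finset.sum_const, nsmul_eq_mul]; ring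
        _ = _ := by
            rw [Finset.sum_filter]
            refine Finset.sum_congr rfl fun h _ => ?_
            split_ifs with hh
            · rw [hW h hh]; ring
            · simp
    rw [h1, Finset.sum_congr rfl fun y _ => h2 y, Finset.sum_comm, Finset.mul_sum]
    refine Finset.sum_congr rfl fun h _ => ?_
    rw [Finset.sum_comm]
    simp only [Finset.sum_ite_eq, Finset.mem_univ, if_true, hF (h : G), hNclass (h : G)]
    rw [Finset.sum_const, Finset.card_univ, nsmul_eq_mul, ← Nat.card_eq_fintype_card]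
    show _ * (_ * _ * ((D h : ℂ) / _)) = _
    push_cast
    field_simp
  have hr : ∀ h : H, D h * N h = C h := by
    have h1 := hsum (fun _ => 1) (fun _ _ => rfl)
    simp only [Finset.sum_const, Finset.card_univ, nsmul_eq_mul, mul_one, ← Nat.card_eq_fintype_card, one_mul] at h1
    have hterm : ∀ h : H, ((D h * N h : ℕ) : ℂ) / (C h : ℂ) = ((D h * N h / C h : ℕ) : ℂ) := fun h =>
      (Nat.cast_div (hdiv h).1 (Nat.cast_ne_zero.mpr Nat.card_pos.ne')).symm
    simp only [hterm, ← Nat.cast_sum] at h1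
    have hn0 : (n : ℂ) ≠ 0 := Nat.cast_ne_zero.mpr Nat.card_pos.ne'
    have hG0 : (Nat.card G : ℂ) ≠ 0 := Nat.cast_ne_zero.mpr Nat.card_pos.ne'
    field_simp at h1
    have h3 : ∑ h : H, D h * N h / C h = Nat.card H := by exact_mod_cast (h1.symm : _ = (n : ℂ))
    have hpos : ∀ h : H, 1 ≤ D h * N h / C h := fun h => by
      refine Nat.div_pos (Nat.le_of_dvd (Nat.mul_pos Nat.card_pos (Finset.card_pos.mpr ⟨(h : G), ?_⟩)) (hdiv h).1)
        Nat.card_pos
      exact Finset.mem_filter.mpr ⟨Finset.mem_univ _, hfixH h⟩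
    have hall := (Finset.sum_eq_sum_iff_of_le (fun h _ => hpos h)).mp (by
      rw [h3]; simp [Nat.card_eq_fintype_card] : ∑ _h : H, 1 = ∑ h : H, D h * N h / C h)
    intro h
    exact Nat.eq_mul_of_div_eq_left (hdiv h).1 (hall h (Finset.mem_univ _)).symm |>.trans (one_mul _)
  have hinner : ∀ (ψ φ : H → ℂ), IsClassFunction H ψ → IsClassFunction H φ →
      classInner (ext ψ) (ext φ) = classInner ψ φ := by
    intro ψ φ hψ hφ
    have hcl : IsClassFunction G fun y => ext ψ y * conj (ext φ y) := fun a b => by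
      simp only [hextclass ψ hψ a b, hextclass φ hφ a b]
    have hkk : ∀ (χ : H → ℂ), IsClassFunction H χ → ∀ x, ext χ (x ^ k) = ext χ x := by
      intro χ hχ x
      rw [hext χ hχ (x ^ k) (t x) (by rw [hk.pow_pow hG]; exact ht x)]
      exact congrArg χ (Subtype.ext (show t x * (x ^ k) ^ k * (t x)⁻¹ = t x * x ^ k * (t x)⁻¹ by rw [hk.pow_pow hG]))
    unfold classInner
    rw [Finset.sum_congr rfl fun x _ => by rw [← hkk ψ hψ x, ← hkk φ hφ x], hsum _ hcl]
    simp only [hr, hres ψ hψ, hres φ hφ]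
    have hC0 : ∀ h : H, (C h : ℂ) ≠ 0 := fun h => Nat.cast_ne_zero.mpr Nat.card_pos.ne'
    simp only [mul_div_assoc, div_self (hC0 _), mul_one]
    rw [← mul_assoc]
    congr 1
    have hG0 : (Nat.card G : ℂ) ≠ 0 := Nat.cast_ne_zero.mpr Nat.card_pos.ne'
    rw [← mul_div_assoc, inv_mul_cancel₀ hG0, one_div]
  have hirr : ∀ ψ : IrrCharacter H, IsIrrCharacter G (ext ψ) := by
    intro ψ
    have hc := CfsgLib.CharTheory.IsIrrCharacter.isClassFunction ψ.2
    refine CfsgLib.CharTheory.isIrrCharacter_of_norm_one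
      (hgen ψ (CfsgLib.CharTheory.IsIrrCharacter.isCharacter ψ.2))
      (by rw [hinner _ _ hc hc, CfsgLib.CharTheory.classInner_self_of_isIrr ψ.2]) ?_
    obtain ⟨d, hd, hd1⟩ := CfsgLib.CharTheory.exists_degree_of_isIrr ψ.2
    have : ext ψ ((1 : H) : G) = (ψ : H → ℂ) 1 := hres _ hc 1
    rw [Subgroup.coe_one] at this
    rw [this, hd1]
    simpa using hd
  -- the kernel
  have hker : ∀ x : G, x ^ k = 1 ↔ ∀ ψ : IrrCharacter H, ext ψ x = ext ψ 1 := by
    intro x
    constructor
    · intro hx ψ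
      have hc := CfsgLib.CharTheory.IsIrrCharacter.isClassFunction ψ.2
      rw [hext _ hc x 1 (by simp [hx]), hext _ hc 1 1 (by simp)]
      simp [hx]
    · intro h
      by_contra hx
      obtain ⟨ψ, hψ⟩ := CfsgLib.CharTheory.exists_irr_apply_ne
        (g := (⟨t x * x ^ k * (t x)⁻¹, ht x⟩ : H)) (fun h' => hx (by
          have := congrArg Subtype.val h'
          simpa using this))
      have hc := CfsgLib.CharTheory.IsIrrCharacter.isClassFunction ψ.2
      refine hψ ?_
      rw [← hres _ hc 1]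
      exact h ψ
  choose d ρ hρ hρc using hirr
  have hρker : ∀ (ψ : IrrCharacter H) (x : G), ext ψ x = ext ψ 1 ↔ ρ ψ x = 1 := by
    intro ψ x
    rw [← hρc ψ]
    constructor
    · intro hx
      exact (CfsgLib.CharTheory.character_eq_finrank_iff (ρ ψ) x).mp (by rw [hx, Representation.char_one])
    · intro hx
      simp [Representation.character, hx]
  let K : Subgroup G := ⨅ ψ : IrrCharacter H, (ρ ψ).toHomUnits.ker
  have hKmem : ∀ x, x ∈ K ↔ x ^ k = 1 := fun x => by
    rw [hker x]
    simp only [K, Subgroup.mem_iInf, MonoidHom.mem_ker, hρker]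
    exact forall_congr' fun ψ => by rw [← Units.val_eq_one]; rfl
  haveI hKn : K.Normal := Subgroup.normal_iInf_normal fun ψ => MonoidHom.normal_ker _
  have hdisj : K ⊓ H = ⊥ := by
    rw [eq_bot_iff]
    intro x hx
    exact Subgroup.mem_bot.mpr ((hfixH ⟨x, hx.2⟩).symm.trans ((hKmem x).mp hx.1))
  refine ⟨K, hKn, ?_, hdisj⟩
  have hKcard : Nat.card K = m := by
    have h1 := hr 1
    have hD1 : D 1 = n := by
      show Nat.card ↥(H ⊓ Subgroup.centralizer ({((1 : H) : G)} : Set G)) = n
      rw [show H ⊓ Subgroup.centralizer ({((1 : H) : G)} : Set G) = H from inf_eq_left.mpr fun z _ =>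
        Subgroup.mem_centralizer_singleton_iff.mpr (by simp)]
    have hC1 : C 1 = Nat.card G := by
      show Nat.card (Subgroup.centralizer ({((1 : H) : G)} : Set G)) = _
      rw [show Subgroup.centralizer ({((1 : H) : G)} : Set G) = ⊤ from eq_top_iff.mpr fun z _ =>
        Subgroup.mem_centralizer_singleton_iff.mpr (by simp), Subgroup.card_top]
    rw [hD1, hC1, hcard] at h1
    have h2 : N ((1 : H) : G) = m := Nat.eq_of_mul_eq_mul_left Nat.card_pos h1
    rw [← h2, Nat.card_eq_fintype_card, Fintype.card_subtype]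
    exact congrArg Finset.card (Finset.filter_congr fun x _ => by simp [hKmem])
  have hcompl : Subgroup.IsComplement' K H :=
    Subgroup.isComplement'_of_disjoint_and_mul_eq_univ (disjoint_iff.mpr hdisj) (by
      have h1 := Subgroup.isComplement'_of_coprime (H := K) (K := H) (by rw [hKcard, hcard, mul_comm])
        (by rw [hKcard]; exact hHall.symm)
      exact h1.mul_eq)
  exact hcompl.sup_eq_top

end CfsgLib.RealChar
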