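import Mathlib
import Cfsg.Prelude.Def_Characters
import Cfsg.Prelude.Def_Transfer
import Cfsg.Agent.Lib.CharTheory.Basic
import Cfsg.Agent.Lib.CharTheory.Decomp
import Cfsg.Agent.Lib.CharTheory.Orthogonality
import Cfsg.Agent.Lib.Frobenius.Induce
import Cfsg.Agent.Lib.Brauer.CharRing
import Cfsg.Agent.Lib.PGroups.Extraspecial

/-!
# The characters of extraspecial groups
-/

set_option autoImplicit false
set_option linter.style.haveILetI false

open scoped ComplexConjugate commutatorElement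
open Cfsg CfsgLib.CharTheory

namespace CfsgLib.RealChar.Extraspecial

variable {P : Type*} [Group P] {p : ℕ} [Fact p.Prime]

/-- A class function on which the centre acts by a faithful linear character vanishes off the centre. -/
theorem apply_eq_zero (hP : IsExtraspecial p P) {f : P → ℂ} (hf : IsClassFunction P f) (c : P → ℂ)
    (hfc : ∀ z ∈ Subgroup.center P, ∀ x, f (z * x) = c z * f x)
    (hc : ∀ z ∈ Subgroup.center P, z ≠ 1 → c z ≠ 1) {x : P} (hx : x ∉ Subgroup.center P) : f x = 0 := by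
  obtain ⟨y, hy⟩ : ∃ y, y * x ≠ x * y := by
    by_contra h
    push Not at h
    exact hx (Subgroup.mem_center_iff.mpr h)
  have hzc : ⁅y, x⁆ ∈ Subgroup.center P := CfsgLib.PGroups.IsExtraspecial.commutator_mem_center hP y x
  have hz1 : ⁅y, x⁆ ≠ 1 := fun h => hy (commutatorElement_eq_one_iff_mul_comm.mp h)
  have h1 : f (⁅y, x⁆ * x) = f x := by
    rw [commutatorElement_def, inv_mul_cancel_right]; exact hf x y
  rw [hfc _ hzc] at h1
  have : (c ⁅y, x⁆ - 1) * f x = 0 := by rw [sub_mul, one_mul, h1, sub_self]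
  exact (mul_eq_zero.mp this).resolve_left (sub_ne_zero.mpr (hc _ hzc hz1))

variable [Fintype P]

/-- The norm of a function supported on the centre, of constant absolute value `d` there. -/
theorem classInner_self_of_support (hP : IsExtraspecial p P) {f : P → ℂ}
    (hf : ∀ x, x ∉ Subgroup.center P → f x = 0) (d : ℝ)
    (hd : ∀ z ∈ Subgroup.center P, Complex.normSq (f z) = d) :
    classInner f f = ((p * d / Nat.card P : ℝ) : ℂ) := by
  classical
  have h : ∑ x : P, f x * conj (f x) = ((p * d : ℝ) : ℂ) := by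
    simp only [Complex.mul_conj]
    rw [← Finset.sum_filter_of_ne (s := Finset.univ) (p := fun x => x ∈ Subgroup.center P) (fun x _ hx => by
        by_contra h; exact hx (by rw [hf x h]; simp)),
      Finset.sum_congr rfl fun x hx => by rw [hd x (Finset.mem_filter.mp hx).2]]
    rw [Finset.sum_const, nsmul_eq_mul, ← Fintype.card_subtype, ← Nat.card_eq_fintype_card,
      show Nat.card {x // x ∈ Subgroup.center P} = p from hP.2]
    push_cast
    ring
  simp only [classInner, h]
  push_cast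
  ring

/-- The scalar by which a central element acts. -/
theorem exists_central_scalar {d : ℕ} (ρ : Representation ℂ P (Fin d → ℂ)) [ρ.IsIrreducible] :
    ∃ c : P → ℂ, (∀ z ∈ Subgroup.center P, ρ z = c z • LinearMap.id) ∧
      (∀ z ∈ Subgroup.center P, ∀ x, ρ.character (z * x) = c z * ρ.character x) ∧
      ∀ z ∈ Subgroup.center P, Complex.normSq (c z) = 1 := by
  classical
  have h : ∀ z : P, ∃ c : ℂ, z ∈ Subgroup.center P → ρ z = c • LinearMap.id := by
    intro z
    by_cases hz : z ∈ Subgroup.center P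
    · obtain ⟨c, hc⟩ := exists_smul_of_commute ρ (ρ z) fun g => by
        rw [← Module.End.mul_eq_comp, ← Module.End.mul_eq_comp, ← map_mul, ← map_mul,
          Subgroup.mem_center_iff.mp hz g]
      exact ⟨c, fun _ => hc⟩
    · exact ⟨0, fun h => absurd h hz⟩
  choose c hc using h
  refine ⟨c, hc, fun z hz x => ?_, fun z hz => ?_⟩
  · show LinearMap.trace ℂ _ (ρ (z * x)) = c z * LinearMap.trace ℂ _ (ρ x)
    rw [map_mul, hc z hz, smul_mul_assoc, map_smul, smul_eq_mul]
    rfl
  · have hd : 0 < d := by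
      have := finrank_pos_of_isIrreducible ρ
      rwa [Module.finrank_fin_fun] at this
    have hN : c z ^ Nat.card P = 1 := by
      have h1 : ρ z ^ Nat.card P = 1 := by rw [← map_pow, pow_card_eq_one', map_one]
      rw [hc z hz, ← Module.End.one_eq_id, smul_pow, one_pow] at h1
      have h2 := congrArg (LinearMap.trace ℂ (Fin d → ℂ)) h1
      rw [map_smul, LinearMap.trace_one, smul_eq_mul, Module.finrank_fin_fun] at h2
      exact mul_eq_right₀ (Nat.cast_ne_zero.mpr hd.ne') |>.mp h2
    have := Complex.norm_eq_one_of_pow_eq_one hN Nat.card_pos.ne'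
    rw [Complex.normSq_eq_norm_sq, this, one_pow]

theorem degree_cases (hP : IsExtraspecial p P) {n : ℕ} (hcard : Nat.card P = p ^ (2 * n + 1)) {χ : P → ℂ}
    (hχ : IsIrrCharacter P χ) :
    (χ 1 = 1 ∧ ∀ z ∈ Subgroup.center P, χ z = 1) ∨
      (χ 1 = (p : ℂ) ^ n ∧ (∀ x, x ∉ Subgroup.center P → χ x = 0) ∧
        ∃ c : P → ℂ, (∀ z ∈ Subgroup.center P, ∀ x, χ (z * x) = c z * χ x) ∧
          ∀ z ∈ Subgroup.center P, z ≠ 1 → c z ≠ 1) := by
  classical
  obtain ⟨d, ρ, hρ, rfl⟩ := hχ
  obtain ⟨c, hc, hcχ, hcn⟩ := exists_central_scalar ρ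
  have hd : 0 < d := by
    have := finrank_pos_of_isIrreducible ρ
    rwa [Module.finrank_fin_fun] at this
  have hρ1 : ρ.character 1 = (d : ℂ) := by rw [Representation.char_one, Module.finrank_fin_fun]
  by_cases htriv : ∀ z ∈ Subgroup.center P, ρ z = LinearMap.id
  · left
    have hscal : ∀ x : P, ∃ a : ℂ, ρ x = a • LinearMap.id := fun x => exists_smul_of_commute ρ (ρ x) fun g => by
      have hcomm := htriv ⁅x, g⁆ (CfsgLib.PGroups.IsExtraspecial.commutator_mem_center hP x g)
      have : x * g = ⁅x, g⁆ * (g * x) := by rw [commutatorElement_def]; group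
      rw [← Module.End.mul_eq_comp, ← Module.End.mul_eq_comp, ← map_mul, ← map_mul, this, map_mul, hcomm,
        ← Module.End.one_eq_id, one_mul]
    have hd1 : d = 1 := by
      let v : Fin d → ℂ := Pi.single ⟨0, hd⟩ 1
      let W : Subrepresentation ρ := ⟨Submodule.span ℂ {v}, fun g w hw => by
        obtain ⟨a, ha⟩ := hscal g
        rw [ha]
        exact Submodule.smul_mem _ _ hw⟩
      have hv : v ≠ 0 := fun h => by simpa [v] using congrFun h ⟨0, hd⟩
      have htop : Submodule.span ℂ {v} = ⊤ := by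
        rcases IsSimpleOrder.eq_bot_or_eq_top W with h | h
        · have h' : Submodule.span ℂ {v} = ⊥ := congrArg (fun X : Subrepresentation ρ => X.toSubmodule) h
          exact absurd (Submodule.span_singleton_eq_bot.mp h') hv
        · exact congrArg (fun X : Subrepresentation ρ => X.toSubmodule) h
      have := finrank_span_singleton (K := ℂ) hv
      rwa [htop, finrank_top, Module.finrank_fin_fun] at this
    refine ⟨by rw [hρ1, hd1, Nat.cast_one], fun z hz => ?_⟩
    show LinearMap.trace ℂ _ (ρ z) = 1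
    rw [htriv z hz, LinearMap.trace_id, Module.finrank_fin_fun, hd1, Nat.cast_one]
  · right
    push Not at htriv
    obtain ⟨z₀, hz₀, hz₀1⟩ := htriv
    have hne : ∀ z ∈ Subgroup.center P, z ≠ 1 → c z ≠ 1 := by
      intro z hz hz1 hcz
      apply hz₀1
      have hp : (Nat.card (Subgroup.center P)).Prime := by rw [hP.2]; exact Fact.out
      haveI : Fact (Nat.card (Subgroup.center P)).Prime := ⟨hp⟩
      have hmem := mem_zpowers_of_prime_card (G := Subgroup.center P) (g := ⟨z, hz⟩) (g' := ⟨z₀, hz₀⟩) rfl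
        (fun h => hz1 (congrArg Subtype.val h))
      obtain ⟨i, hi⟩ := Subgroup.mem_zpowers_iff.mp hmem
      have hi' : z ^ i = z₀ := congrArg Subtype.val hi
      let f : P →* (Module.End ℂ (Fin d → ℂ))ˣ := ρ.toHomUnits
      have hfz : f z = 1 := Units.ext (by
        show ρ z = 1
        rw [hc z hz, hcz, one_smul]; rfl)
      have : f z₀ = 1 := by rw [← hi', map_zpow, hfz, one_zpow]
      exact congrArg Units.val this
    have hvan : ∀ x, x ∉ Subgroup.center P → ρ.character x = 0 := fun x hx =>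
      apply_eq_zero hP (fun g h => ρ.char_conj g h) c hcχ hne hx
    refine ⟨?_, hvan, c, hcχ, hne⟩
    have hnorm := classInner_self_of_support hP hvan ((d : ℝ) ^ 2) (fun z hz => by
      have := hcχ z hz 1
      rw [mul_one, hρ1] at this
      rw [this, map_mul, hcn z hz, one_mul, Complex.normSq_natCast, pow_two])
    rw [classInner_self_of_isIrr ⟨d, ρ, hρ, rfl⟩, eq_comm, Complex.ofReal_eq_one,
      div_eq_one_iff_eq (Nat.cast_ne_zero.mpr Nat.card_pos.ne'), hcard] at hnorm
    have hsq : p * d ^ 2 = p ^ (2 * n + 1) := by exact_mod_cast hnorm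
    have hd2 : d ^ 2 = (p ^ n) ^ 2 := by
      refine Nat.eq_of_mul_eq_mul_left (Fact.out : p.Prime).pos ?_
      rw [hsq, ← pow_mul, pow_succ, mul_comm n 2]; ring
    rw [hρ1, Nat.pow_left_injective (by norm_num) hd2, Nat.cast_pow]

omit [Fact p.Prime] in
theorem linear_isIrr {A : Type*} [Group A] [Fintype A] {f : A → ℂ} (hf : IsCharacter A f) (h1 : f 1 = 1) :
    IsIrrCharacter A f := by
  obtain ⟨d, ρ, rfl⟩ := hf
  have hd : d = 1 := by
    rw [Representation.char_one, Module.finrank_fin_fun] at h1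
    exact_mod_cast h1
  subst hd
  refine ⟨1, ρ, ?_, rfl⟩
  haveI : Nontrivial (Subrepresentation ρ) := ⟨⊥, ⊤, fun h => by
    have h' : (⊥ : Submodule ℂ (Fin 1 → ℂ)) = ⊤ := congrArg (fun X : Subrepresentation ρ => X.toSubmodule) h
    exact bot_ne_top h'⟩
  refine ⟨fun W => ?_⟩
  have h2 := Submodule.finrank_le W.toSubmodule
  rw [Module.finrank_fin_fun] at h2
  rcases Nat.le_one_iff_eq_zero_or_eq_one.mp h2 with h | h
  · exact Or.inl (Subrepresentation.toSubmodule_injective (Submodule.finrank_eq_zero.mp h))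
  · exact Or.inr (Subrepresentation.toSubmodule_injective
      (Submodule.eq_top_of_finrank_eq (h.trans (Module.finrank_fin_fun ℂ).symm)))

omit [Fintype P] in
theorem linear_mul {A : Type*} [Group A] {f : A → ℂ} (hf : IsCharacter A f) (h1 : f 1 = 1) (a b : A) :
    f (a * b) = f a * f b := by
  obtain ⟨d, ρ, rfl⟩ := hf
  have hd : d = 1 := by
    rw [Representation.char_one, Module.finrank_fin_fun] at h1
    exact_mod_cast h1
  subst hd
  have key : ∀ x : A, ρ.character x = LinearMap.toMatrix' (ρ x) 0 0 := by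
    intro x
    show LinearMap.trace ℂ _ (ρ x) = _
    rw [LinearMap.trace_eq_matrix_trace ℂ (Pi.basisFun ℂ (Fin 1)), LinearMap.toMatrix_eq_toMatrix']
    exact Matrix.trace_fin_one _
  rw [key, key, key, map_mul, Module.End.mul_eq_comp, LinearMap.toMatrix'_comp]
  simp [Matrix.mul_apply]

/-- Induction of a linear character, nontrivial on the centre, of an abelian subgroup of order `p ^ (n + 1)`. -/
theorem indFun_linear (hP : IsExtraspecial p P) {n : ℕ} (hcard : Nat.card P = p ^ (2 * n + 1))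
    (A : Subgroup P) (hA : Nat.card A = p ^ (n + 1)) (lam : A → ℂ) (hl : IsCharacter A lam) (hl1 : lam 1 = 1)
    (hZ : ∃ a : A, (a : P) ∈ Subgroup.center P ∧ lam a ≠ 1) :
    IsIrrCharacter P (indFun A lam) ∧ ∀ x, x ∉ Subgroup.center P → indFun A lam x = 0 := by
  classical
  obtain ⟨a, haZ, ha⟩ := hZ
  haveI : Fact (Nat.card (Subgroup.center P)).Prime := ⟨by rw [hP.2]; exact Fact.out⟩
  have hgen : ∀ z ∈ Subgroup.center P, z ≠ 1 → ∀ w ∈ Subgroup.center P, ∃ i : ℕ, z ^ i = w := by
    intro z hz hz1 w hw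
    have hmem := mem_powers_of_prime_card (G := Subgroup.center P) (g := ⟨z, hz⟩) (g' := ⟨w, hw⟩) rfl
      (fun h => hz1 (congrArg Subtype.val h))
    obtain ⟨i, hi⟩ := hmem
    exact ⟨i, congrArg Subtype.val hi⟩
  have ha1 : (a : P) ≠ 1 := fun h => ha (by
    rw [show a = 1 from Subtype.ext h]; exact hl1)
  have hZA : Subgroup.center P ≤ A := fun w hw => by
    obtain ⟨i, rfl⟩ := hgen a haZ ha1 w hw
    exact A.pow_mem a.2 i
  let c : P → ℂ := fun z => extendByZero A lam z
  have hpow : ∀ (b : A) (i : ℕ), lam (b ^ i) = lam b ^ i := by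
    intro b i
    induction i with
    | zero => simpa using hl1
    | succ i ih => rw [pow_succ, linear_mul hl hl1, ih, pow_succ]
  have hne : ∀ z ∈ Subgroup.center P, z ≠ 1 → c z ≠ 1 := by
    intro z hz hz1 hcz
    obtain ⟨i, hi⟩ := hgen z hz hz1 a haZ
    apply ha
    have : a = (⟨z, hZA hz⟩ : A) ^ i := Subtype.ext hi.symm
    rw [this, hpow, ← CfsgLib.Frobenius.extendByZero_of_mem A lam (hZA hz)]
    simp only [c] at hcz
    rw [hcz, one_pow]
  have hmul : ∀ z ∈ Subgroup.center P, ∀ x, indFun A lam (z * x) = c z * indFun A lam x := by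
    intro z hz x
    simp only [indFun, Finset.mul_sum]
    refine Finset.sum_congr rfl fun y _ => ?_
    rw [show y⁻¹ * (z * x) * y = z * (y⁻¹ * x * y) by
      rw [← mul_assoc y⁻¹, Subgroup.mem_center_iff.mp hz y⁻¹]; group]
    by_cases hm : y⁻¹ * x * y ∈ A
    · simp only [c, CfsgLib.Frobenius.extendByZero_of_mem A lam (hZA hz),
        CfsgLib.Frobenius.extendByZero_of_mem A lam hm,
        CfsgLib.Frobenius.extendByZero_of_mem A lam (A.mul_mem (hZA hz) hm)]
      rw [mul_left_comm (lam _), ← linear_mul hl hl1]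
      rfl
    · rw [CfsgLib.Frobenius.extendByZero_of_not_mem A lam hm,
        CfsgLib.Frobenius.extendByZero_of_not_mem A lam (fun h => hm (by
          have := A.mul_mem (A.inv_mem (hZA hz)) h; rwa [inv_mul_cancel_left] at this))]
      simp
  have hvan : ∀ x, x ∉ Subgroup.center P → indFun A lam x = 0 := fun x hx =>
    apply_eq_zero hP (CfsgLib.Frobenius.indFun_isClassFunction A lam) c hmul hne hx
  refine ⟨?_, hvan⟩
  rw [isIrrCharacter_iff_norm_one (CfsgLib.Frobenius.isCharacter_indFun A lam hl),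
    classInner_self_of_support hP hvan (((p : ℝ) ^ n) ^ 2) ?_]
  · rw [Complex.ofReal_eq_one, div_eq_one_iff_eq (Nat.cast_ne_zero.mpr Nat.card_pos.ne'), hcard]
    push_cast
    rw [← pow_mul, pow_succ, mul_comm n 2]; ring
  · intro z hz
    have hz1 := hmul z hz 1
    rw [mul_one] at hz1
    rw [hz1, CfsgLib.Frobenius.indFun_one, hl1, mul_one, map_mul]
    have hidx : A.index = p ^ n := by
      have h := A.card_mul_index
      rw [hA, hcard, show p ^ (2 * n + 1) = p ^ (n + 1) * p ^ n by rw [← pow_add]; ring_nf] at h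
      exact Nat.eq_of_mul_eq_mul_left (pow_pos (Fact.out : p.Prime).pos _) h
    have hc1 : Complex.normSq (c z) = 1 := by
      have hN : c z ^ Nat.card A = 1 := by
        simp only [c, CfsgLib.Frobenius.extendByZero_of_mem A lam (hZA hz)]
        rw [← hpow, pow_card_eq_one', hl1]
      rw [Complex.normSq_eq_norm_sq, Complex.norm_eq_one_of_pow_eq_one hN Nat.card_pos.ne', one_pow]
    rw [hc1, one_mul, Complex.normSq_natCast, hidx, pow_two]
    push_cast
    rfl

/-- The number of irreducible characters of degree `p ^ n`. -/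
theorem card_nonlinear (hP : IsExtraspecial p P) {n : ℕ} (hn : n ≠ 0) (hcard : Nat.card P = p ^ (2 * n + 1)) :
    Nat.card {χ : IrrCharacter P // (χ : P → ℂ) 1 = (p : ℂ) ^ n} = p - 1 := by
  classical
  haveI : Fact (Nat.card (Subgroup.center P)).Prime := ⟨by rw [hP.2]; exact Fact.out⟩
  have hp : p.Prime := Fact.out
  obtain ⟨z₀, hz₀⟩ : ∃ z : Subgroup.center P, z ≠ 1 := by
    haveI : Nontrivial (Subgroup.center P) := by
      rw [← Finite.one_lt_card_iff_nontrivial, hP.2]; exact hp.one_lt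
    exact exists_ne 1
  have hz₀1 : (z₀ : P) ≠ 1 := fun h => hz₀ (Subtype.ext h)
  have hgen : ∀ w ∈ Subgroup.center P, ∃ i : ℕ, (z₀ : P) ^ i = w := fun w hw => by
    obtain ⟨i, hi⟩ := mem_powers_of_prime_card (G := Subgroup.center P) (g := z₀) (g' := ⟨w, hw⟩) rfl hz₀
    exact ⟨i, congrArg Subtype.val hi⟩
  have hp1 : (1 : ℂ) ≠ (p : ℂ) ^ n := by
    rw [← Nat.cast_pow, ← Nat.cast_one, Ne, Nat.cast_inj]
    exact (Nat.one_lt_pow hn hp.one_lt).ne
  have hz₀p : (z₀ : P) ^ p = 1 := by
    have h := pow_card_eq_one' (x := z₀)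
    rw [hP.2] at h
    exact congrArg Subtype.val h
  have hdeg : ∀ χ : IrrCharacter P, (χ : P → ℂ) 1 = (p : ℂ) ^ n → (∀ x, x ∉ Subgroup.center P → (χ : P → ℂ) x = 0) ∧
      ∃ ζ : ℂ, ζ ^ p = 1 ∧ ζ ≠ 1 ∧ ∀ i : ℕ, (χ : P → ℂ) ((z₀ : P) ^ i) = (p : ℂ) ^ n * ζ ^ i := by
    intro χ hχ
    rcases degree_cases hP hcard χ.2 with ⟨h1, -⟩ | ⟨-, hvan, c, hc, hc1⟩
    · exact absurd (h1.symm.trans hχ) hp1
    · have hi : ∀ i : ℕ, (χ : P → ℂ) ((z₀ : P) ^ i) = (p : ℂ) ^ n * c z₀ ^ i := by
        intro i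
        induction i with
        | zero => simpa using hχ
        | succ i ih => rw [pow_succ', hc _ z₀.2, ih, pow_succ]; ring
      refine ⟨hvan, c z₀, ?_, hc1 _ z₀.2 hz₀1, hi⟩
      have := hi p
      rw [hz₀p, hχ] at this
      exact (mul_eq_left₀ (pow_ne_zero _ (Nat.cast_ne_zero.mpr hp.ne_zero))).mp this.symm
  choose hvan ζ hζp hζ1 hζ using hdeg
  let f : {χ : IrrCharacter P // (χ : P → ℂ) 1 = (p : ℂ) ^ n} → {w : ℂ // w ^ p = 1 ∧ w ≠ 1} :=
    fun χ => ⟨ζ χ.1 χ.2, hζp χ.1 χ.2, hζ1 χ.1 χ.2⟩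
  have hbij : Function.Bijective f := by
    constructor
    · rintro ⟨χ, hχ⟩ ⟨ψ, hψ⟩ h
      have h' : ζ χ hχ = ζ ψ hψ := congrArg Subtype.val h
      refine Subtype.ext (Subtype.ext (funext fun x => ?_))
      by_cases hx : x ∈ Subgroup.center P
      · obtain ⟨i, rfl⟩ := hgen x hx
        rw [hζ χ hχ, hζ ψ hψ, h']
      · rw [hvan χ hχ x hx, hvan ψ hψ x hx]
    · rintro ⟨w, hwp, hw1⟩
      -- a linear character of the centre
      obtain ⟨χ₁, hχ₁⟩ := exists_irr_apply_ne hz₀1
      have hχ₁d : (χ₁ : P → ℂ) 1 = (p : ℂ) ^ n := by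
        rcases degree_cases hP hcard χ₁.2 with ⟨h1, h2⟩ | ⟨h1, -⟩
        · exact absurd (by rw [h2 _ z₀.2, h1]) hχ₁
        · exact h1
      have hprim : IsPrimitiveRoot (ζ χ₁ hχ₁d) p := by
        have ho := orderOf_eq_prime (hζp χ₁ hχ₁d) (hζ1 χ₁ hχ₁d)
        exact ho ▸ IsPrimitiveRoot.orderOf _
      obtain ⟨j, -, hj⟩ := hprim.eq_pow_of_pow_eq_one hwp
      have hpn : ((p : ℂ) ^ n) ≠ 0 := pow_ne_zero _ (Nat.cast_ne_zero.mpr hp.ne_zero)
      let l₁ : Subgroup.center P → ℂ := fun z => (χ₁ : P → ℂ) z / (p : ℂ) ^ n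
      have hl₁ : ∀ i : ℕ, l₁ (z₀ ^ i) = ζ χ₁ hχ₁d ^ i := fun i => by
        simp only [l₁, Subgroup.coe_pow, hζ χ₁ hχ₁d, mul_div_cancel_left₀ _ hpn]
      have hl₁mul : ∀ a b, l₁ (a * b) = l₁ a * l₁ b := by
        intro a b
        obtain ⟨i, hi⟩ := hgen a a.2
        obtain ⟨k, hk⟩ := hgen b b.2
        rw [show a = z₀ ^ i from Subtype.ext hi.symm, show b = z₀ ^ k from Subtype.ext hk.symm, ← pow_add,
          hl₁, hl₁, hl₁, pow_add]
      have hl₁1 : l₁ 1 = 1 := by simpa using hl₁ 0
      let L : Subgroup.center P →* ℂ := { toFun := l₁, map_one' := hl₁1, map_mul' := hl₁mul }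
      let lam : Subgroup.center P → ℂ := fun z => (((L ^ j).toHomUnits z : ℂˣ) : ℂ)
      have hlamz : ∀ i : ℕ, lam (z₀ ^ i) = w ^ i := fun i => by
        show (L ^ j) (z₀ ^ i) = w ^ i
        rw [MonoidHom.pow_apply]
        show l₁ (z₀ ^ i) ^ j = w ^ i
        rw [hl₁, ← hj, ← pow_mul, ← pow_mul, mul_comm]
      have hlamc : IsCharacter (Subgroup.center P) lam := CfsgLib.Brauer.isCharacter_monoidHom _
      haveI := Fintype.ofFinite (IrrCharacter P)
      have hlam1 : lam 1 = 1 := by simp [lam]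
      have hne : indFun (Subgroup.center P) lam ≠ 0 := fun h => by
        have := congrFun h 1
        rw [CfsgLib.Frobenius.indFun_one, hlam1, mul_one, Pi.zero_apply, Nat.cast_eq_zero] at this
        exact Subgroup.index_ne_zero_of_finite this
      obtain ⟨χ, hχ⟩ : ∃ χ : IrrCharacter P, classInner (indFun (Subgroup.center P) lam) (χ : P → ℂ) ≠ 0 := by
        by_contra h
        push Not at h
        exact hne (eq_zero_of_forall_classInner (CfsgLib.Frobenius.indFun_isClassFunction _ _) h)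
      haveI := Fintype.ofFinite (Subgroup.center P)
      rw [CfsgLib.Frobenius.classInner_indFun _ _ _ (IsIrrCharacter.isClassFunction χ.2)] at hχ
      rcases degree_cases hP hcard χ.2 with ⟨h1, h2⟩ | ⟨h1, -⟩
      · refine absurd ?_ hχ
        rw [show (fun z : Subgroup.center P => (χ : P → ℂ) z) = fun _ => 1 from funext fun z => h2 _ z.2]
        refine classInner_eq_zero_of_ne (linear_isIrr hlamc hlam1) isIrrCharacter_one fun h => hw1 ?_
        have := congrFun h (z₀ ^ 1)
        rw [hlamz, pow_one] at this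
        exact this
      · refine ⟨⟨χ, h1⟩, Subtype.ext ?_⟩
        show ζ χ h1 = w
        by_contra hne'
        apply hχ
        obtain ⟨c0, hc0⟩ : ∃ c0 : Subgroup.center P →* ℂ, ∀ i : ℕ, c0 (z₀ ^ i) = ζ χ h1 ^ i := by
          refine ⟨{ toFun := fun z => (χ : P → ℂ) z / (p : ℂ) ^ n, map_one' := ?_, map_mul' := ?_ }, ?_⟩
          · simp [h1, hp.ne_zero]
          · intro a b
            obtain ⟨i, hi⟩ := hgen a a.2
            obtain ⟨k, hk⟩ := hgen b b.2
            simp only [Subgroup.coe_mul, ← hi, ← hk, ← pow_add, hζ χ h1, mul_div_cancel_left₀ _ hpn]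
          · intro i
            show (χ : P → ℂ) ((z₀ ^ i : Subgroup.center P) : P) / _ = _
            rw [Subgroup.coe_pow, hζ χ h1, mul_div_cancel_left₀ _ hpn]
        have hres : (fun z : Subgroup.center P => (χ : P → ℂ) z) = ((p : ℂ) ^ n) • fun z => ((c0.toHomUnits z : ℂˣ) : ℂ) := by
          funext z
          obtain ⟨i, hi⟩ := hgen z z.2
          have hz : z = z₀ ^ i := Subtype.ext hi.symm
          subst hz
          show (χ : P → ℂ) ((z₀ ^ i : Subgroup.center P) : P) = (p : ℂ) ^ n * c0 (z₀ ^ i)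
          rw [Subgroup.coe_pow, hζ χ h1, hc0]
        rw [hres, classInner_smul_right, classInner_eq_zero_of_ne (linear_isIrr hlamc hlam1)
          (linear_isIrr (CfsgLib.Brauer.isCharacter_monoidHom _) (by simp)) (fun h => hne' ?_), mul_zero]
        have h' := congrFun h (z₀ ^ 1)
        rw [hlamz] at h'
        show ζ χ h1 = w
        have h'' : w ^ 1 = c0 (z₀ ^ 1) := h'
        rw [hc0, pow_one, pow_one] at h''
        exact h''.symm
  rw [Nat.card_eq_of_bijective f hbij]
  obtain ⟨ξ, hξ⟩ : ∃ ξ : ℂ, IsPrimitiveRoot ξ p := ⟨_, Complex.isPrimitiveRoot_exp p hp.ne_zero⟩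
  let S := (Polynomial.nthRootsFinset p (1 : ℂ)).erase 1
  have hS : S.card = p - 1 := by
    rw [Finset.card_erase_of_mem ((Polynomial.mem_nthRootsFinset hp.pos _).mpr (one_pow p)),
      hξ.card_nthRootsFinset]
  rw [← hS, ← Nat.card_eq_finsetCard]
  exact Nat.card_congr (Equiv.subtypeEquivRight fun w => by
    simp only [S, Finset.mem_erase, Polynomial.mem_nthRootsFinset hp.pos]; tauto)

end CfsgLib.RealChar.Extraspecial
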