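import Cfsg.Agent.Lib.RealChar.ZassenhausOdd
import Cfsg.Agent.Lib.CharTheory.Orthogonality

/-!
# Counting classes in Zassenhaus groups with two-point stabilisers of odd order
-/

set_option autoImplicit false
set_option linter.unusedSectionVars false
set_option linter.style.haveILetI false

open MulAction

namespace CfsgLib.RealChar.Zassenhaus

variable {G Ω : Type*} [Group G] [MulAction G Ω] [Finite G] [Fintype Ω]
variable (hZ : Cfsg.IsZassenhausGroup G Ω)

/-- `g` fixes exactly one point. -/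
def FixesOne (Ω : Type*) [MulAction G Ω] (g : G) : Prop :=
  ∃ a : Ω, g • a = a ∧ ∀ c : Ω, g • c = c → c = a

/-- `g ≠ 1` fixes two points. -/
def FixesTwo (Ω : Type*) [MulAction G Ω] (g : G) : Prop :=
  g ≠ 1 ∧ ∃ a b : Ω, a ≠ b ∧ g • a = a ∧ g • b = b

include hZ

theorem card_fixesOne {a b : Ω} (hab : a ≠ b) :
    Nat.card {g : G // FixesOne Ω g} = Fintype.card Ω * (Fintype.card Ω - 2) := by
  classical
  haveI := Fintype.ofFinite G
  have h3 := three_le_card hZ
  let e : (Σ c : Ω, {u : stabilizer G c // ∀ d : Ω, d ≠ c → (u : G) • d ≠ d}) → {g : G // FixesOne Ω g} :=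
    fun q => ⟨q.2.1, q.1, q.2.1.2, fun d hd => by_contra fun h => q.2.2 d h hd⟩
  have hbij : Function.Bijective e := by
    constructor
    · rintro ⟨c, u, hu⟩ ⟨d, v, hv⟩ h
      have huv : (u : G) = v := congrArg Subtype.val h
      have hcd : c = d := by
        by_contra hne
        exact hv c hne (huv ▸ u.2)
      subst hcd
      obtain rfl : u = v := Subtype.ext huv
      rfl
    · rintro ⟨g, c, hc, honly⟩
      exact ⟨⟨c, ⟨g, hc⟩, fun d hd h => hd (honly d h)⟩, rfl⟩
  rw [← Nat.card_congr (Equiv.ofBijective e hbij), Nat.card_sigma]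
  have : ∀ c : Ω, Nat.card {u : stabilizer G c // ∀ d : Ω, d ≠ c → (u : G) • d ≠ d}
      = Fintype.card Ω - 2 := fun c => by have := card_fixing_only hZ c; omega
  rw [Finset.sum_congr rfl fun c _ => this c, Finset.sum_const, Finset.card_univ, smul_eq_mul]

theorem card_fixesTwo {a b : Ω} (hab : a ≠ b) :
    2 * Nat.card {g : G // FixesTwo Ω g} = Fintype.card Ω * (Fintype.card Ω - 1)
      * (Nat.card (stabilizer G a ⊓ stabilizer G b : Subgroup G) - 1) := by
  classical
  haveI := Fintype.ofFinite G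
  let S := {q : {g : G // g ≠ 1} × {t : Ω × Ω // t.1 ≠ t.2} //
    (q.1 : G) • (q.2 : Ω × Ω).1 = (q.2 : Ω × Ω).1 ∧ (q.1 : G) • (q.2 : Ω × Ω).2 = (q.2 : Ω × Ω).2}
  let S' := {q : {t : Ω × Ω // t.1 ≠ t.2} × {g : G // g ≠ 1} //
    (q.2 : G) • (q.1 : Ω × Ω).1 = (q.1 : Ω × Ω).1 ∧ (q.2 : G) • (q.1 : Ω × Ω).2 = (q.1 : Ω × Ω).2}
  have hSS : Nat.card S = Nat.card S' := Nat.card_congr
    (Equiv.subtypeEquiv (Equiv.prodComm _ _) fun q => Iff.rfl)
  have h1 : Nat.card S = 2 * Nat.card {g : G // FixesTwo Ω g} := by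
    rw [Nat.card_congr (Equiv.subtypeProdEquivSigmaSubtype
      (fun (g : {g : G // g ≠ 1}) (t : {t : Ω × Ω // t.1 ≠ t.2}) =>
        (g : G) • (t : Ω × Ω).1 = (t : Ω × Ω).1 ∧ (g : G) • (t : Ω × Ω).2 = (t : Ω × Ω).2)),
      Nat.card_sigma]
    have hper : ∀ g : {g : G // g ≠ 1}, Nat.card {t : {t : Ω × Ω // t.1 ≠ t.2} //
        (g : G) • (t : Ω × Ω).1 = (t : Ω × Ω).1 ∧ (g : G) • (t : Ω × Ω).2 = (t : Ω × Ω).2}
        = if FixesTwo Ω (g : G) then 2 else 0 := by
      intro g
      by_cases hg : FixesTwo Ω (g : G)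
      · rw [if_pos hg]
        obtain ⟨-, p, q, hpq, hp, hq⟩ := hg
        rw [Nat.card_eq_fintype_card, Fintype.card_subtype]
        refine Finset.card_eq_two.mpr ⟨⟨(p, q), hpq⟩, ⟨(q, p), hpq.symm⟩, ?_, ?_⟩
        · exact fun h => hpq (congrArg (fun t : {t : Ω × Ω // t.1 ≠ t.2} => t.1.1) h)
        · ext ⟨⟨x, y⟩, hxy⟩
          simp only [Finset.mem_filter, Finset.mem_univ, true_and, Finset.mem_insert,
            Finset.mem_singleton, Subtype.mk.injEq, Prod.mk.injEq]
          constructor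
          · rintro ⟨hx, hy⟩
            rcases fix_two hZ g.2 hpq hp hq hx with rfl | rfl <;>
              rcases fix_two hZ g.2 hpq hp hq hy with rfl | rfl
            · exact absurd rfl hxy
            · exact Or.inl ⟨rfl, rfl⟩
            · exact Or.inr ⟨rfl, rfl⟩
            · exact absurd rfl hxy
          · rintro (⟨rfl, rfl⟩ | ⟨rfl, rfl⟩)
            exacts [⟨hp, hq⟩, ⟨hq, hp⟩]
      · rw [if_neg hg]
        haveI : IsEmpty {t : {t : Ω × Ω // t.1 ≠ t.2} //
          (g : G) • (t : Ω × Ω).1 = (t : Ω × Ω).1 ∧ (g : G) • (t : Ω × Ω).2 = (t : Ω × Ω).2} :=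
          ⟨fun t => hg ⟨g.2, _, _, t.1.2, t.2.1, t.2.2⟩⟩
        exact Nat.card_of_isEmpty
    rw [Finset.sum_congr rfl fun g _ => hper g, ← Finset.sum_filter, Finset.sum_const, smul_eq_mul,
      ← Fintype.card_subtype, ← Nat.card_eq_fintype_card, mul_comm]
    congr 1
    exact Nat.card_congr
      { toFun := fun g => ⟨g.1.1, g.2⟩
        invFun := fun g => ⟨⟨g.1, g.2.1⟩, g.2⟩
        left_inv := fun _ => rfl
        right_inv := fun _ => rfl }
  rw [← h1, hSS, Nat.card_congr (Equiv.subtypeProdEquivSigmaSubtype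
      (fun (t : {t : Ω × Ω // t.1 ≠ t.2}) (g : {g : G // g ≠ 1}) =>
        (g : G) • (t : Ω × Ω).1 = (t : Ω × Ω).1 ∧ (g : G) • (t : Ω × Ω).2 = (t : Ω × Ω).2)),
    Nat.card_sigma]
  have hper : ∀ t : {t : Ω × Ω // t.1 ≠ t.2}, Nat.card {g : {g : G // g ≠ 1} //
      (g : G) • (t : Ω × Ω).1 = (t : Ω × Ω).1 ∧ (g : G) • (t : Ω × Ω).2 = (t : Ω × Ω).2}
      = Nat.card (stabilizer G a ⊓ stabilizer G b : Subgroup G) - 1 := by
    intro t
    rw [card_E_congr hZ hab t.2]
    set E := (stabilizer G (t : Ω × Ω).1 ⊓ stabilizer G (t : Ω × Ω).2 : Subgroup G)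
    have h : Nat.card {g : {g : G // g ≠ 1} //
        (g : G) • (t : Ω × Ω).1 = (t : Ω × Ω).1 ∧ (g : G) • (t : Ω × Ω).2 = (t : Ω × Ω).2}
        = Nat.card {x : E // x ≠ 1} := Nat.card_congr
      { toFun := fun g => ⟨⟨g.1.1, g.2⟩, fun h => g.1.2 (congrArg Subtype.val h)⟩
        invFun := fun x => ⟨⟨x.1.1, fun h => x.2 (Subtype.ext h)⟩, x.1.2⟩
        left_inv := fun _ => rfl
        right_inv := fun _ => rfl }
    rw [h, Nat.card_eq_fintype_card, Nat.card_eq_fintype_card, Fintype.card_subtype_compl,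
      Fintype.card_subtype_eq]
  rw [Finset.sum_congr rfl fun t _ => hper t, Finset.sum_const, Finset.card_univ, smul_eq_mul]
  congr 1
  rw [show Fintype.card {t : Ω × Ω // t.1 ≠ t.2} = (Finset.univ : Finset Ω).offDiag.card from
    Fintype.card_of_subtype _ fun q => by simp, Finset.offDiag_card, Finset.card_univ, Nat.mul_sub_one]

theorem card_fpf {a b : Ω} (hab : a ≠ b) :
    1 + Nat.card {g : G // ∀ c : Ω, g • c ≠ c} + Nat.card {g : G // FixesOne Ω g}
      + Nat.card {g : G // FixesTwo Ω g} = Nat.card G := by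
  classical
  haveI := Fintype.ofFinite G
  simp only [Nat.card_eq_fintype_card, Fintype.card_subtype, Finset.card_filter]
  rw [show (1 : ℕ) = ∑ g : G, if g = 1 then 1 else 0 by simp, ← Finset.sum_add_distrib,
    ← Finset.sum_add_distrib, ← Finset.sum_add_distrib, ← Finset.card_univ, Finset.card_eq_sum_ones]
  refine Finset.sum_congr rfl fun g _ => ?_
  rcases eq_or_ne g 1 with rfl | hg
  · haveI : Nonempty Ω := ⟨a⟩
    have h0 : ¬ ∀ c : Ω, (1 : G) • c ≠ c := fun h => h a (one_smul G a)
    have h1 : ¬ FixesOne Ω (1 : G) := fun ⟨c, _, hc⟩ =>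
      hab ((hc a (one_smul G a)).trans (hc b (one_smul G b)).symm)
    have h2 : ¬ FixesTwo Ω (1 : G) := fun h => h.1 rfl
    simp [h0, h1, h2]
  · by_cases h2 : FixesTwo Ω g
    · obtain ⟨-, p, q, hpq, hp, hq⟩ := id h2
      have h0 : ¬ ∀ c : Ω, g • c ≠ c := fun h => h p hp
      have h1 : ¬ FixesOne Ω g := fun ⟨c, _, hc⟩ => hpq ((hc p hp).trans (hc q hq).symm)
      simp [hg, h0, h1, h2]
    · by_cases h0 : ∀ c : Ω, g • c ≠ c
      · have h1 : ¬ FixesOne Ω g := fun ⟨c, hc, _⟩ => h0 c hc
        simp [hg, h0, h1, h2]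
      · have h1 : FixesOne Ω g := by
          push Not at h0
          obtain ⟨c, hc⟩ := h0
          exact ⟨c, hc, fun d hd => by_contra fun hne => h2 ⟨hg, d, c, hne, hd, hc⟩⟩
        simp [hg, h0, h1, h2]

/-- There are two non-conjugate fixed-point-free elements. -/
theorem exists_two_fpf_classes {a b : Ω} (hab : a ≠ b)
    (hodd : Odd (Nat.card (stabilizer G a ⊓ stabilizer G b : Subgroup G))) :
    ∃ x y : G, (∀ c : Ω, x • c ≠ c) ∧ (∀ c : Ω, y • c ≠ c) ∧ ¬ IsConj x y := by
  classical
  haveI := Fintype.ofFinite G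
  set e := Nat.card (stabilizer G a ⊓ stabilizer G b : Subgroup G) with he
  set F := Nat.card {g : G // ∀ c : Ω, g • c ≠ c} with hFdef
  have h3 := three_le_card hZ
  obtain ⟨h, hn⟩ : ∃ h, Fintype.card Ω = h + 1 := ⟨Fintype.card Ω - 1, by omega⟩
  have he3 : 3 ≤ e := by
    obtain ⟨x, hx1, hx⟩ := exists_ne_one_fix hZ hab
    have h1 : e ≠ 1 := fun h1 => hx1 (by
      have hx' : x ∈ (stabilizer G a ⊓ stabilizer G b : Subgroup G) := hx
      rw [Subgroup.eq_bot_of_card_eq (stabilizer G a ⊓ stabilizer G b) (by rw [← he]; exact h1)] at hx'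
      exact hx')
    obtain ⟨j, hj⟩ := hodd
    omega
  have hF := card_fpf hZ hab
  rw [card_fixesOne hZ hab, card_group hZ hab, ← hFdef, ← he, hn] at hF
  have h2 := card_fixesTwo hZ hab
  rw [← he, hn] at h2
  obtain ⟨h', rfl⟩ : ∃ h', h = h' + 2 := ⟨h - 2, by omega⟩
  obtain ⟨j, hj⟩ : ∃ j, e = 2 * j + 3 := by
    obtain ⟨j, hj⟩ := hodd
    exact ⟨j - 1, by omega⟩
  rw [hj] at hF h2
  simp only [show h' + 2 + 1 - 1 = h' + 2 by omega, show h' + 2 + 1 - 2 = h' + 1 by omega,
    show 2 * j + 3 - 1 = 2 * j + 2 by omega] at hF h2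
  have hFval : F = (h' + 2) * ((h' + 3) * (j + 1) + 1) := by nlinarith
  have hFpos : 0 < F := by rw [hFval]; positivity
  obtain ⟨⟨x, hx⟩⟩ : Nonempty {g : G // ∀ c : Ω, g • c ≠ c} :=
    (Nat.card_pos_iff.mp (hFdef ▸ hFpos)).1
  by_contra hcon
  push Not at hcon
  have hsub : F = Nat.card {g : G // IsConj x g} := by
    rw [hFdef]
    refine Nat.card_congr (Equiv.subtypeEquivRight fun g => ⟨fun hg => hcon x g hx hg, fun hg c hc => ?_⟩)
    obtain ⟨t, rfl⟩ := isConj_iff.mp hg
    refine hx (t⁻¹ • c) ?_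
    rwa [mul_smul, mul_smul, ← eq_inv_smul_iff] at hc
  have hdvd : F ∣ Nat.card G := by
    rw [hsub, CfsgLib.CharTheory.card_isConj]
    exact Subgroup.index_dvd_card _
  rw [card_group hZ hab, ← he, hn, hj, show h' + 2 + 1 - 1 = h' + 2 by omega, hFval,
    show (h' + 2 + 1) * ((h' + 2) * (2 * j + 3)) = (h' + 2) * ((h' + 3) * (2 * j + 3)) by ring] at hdvd
  have hcop : Nat.Coprime ((h' + 3) * (j + 1) + 1) (h' + 3) := by
    rw [Nat.coprime_mul_left_add_left]
    exact Nat.coprime_one_left _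
  have hle := Nat.le_of_dvd (by omega)
    (hcop.dvd_of_dvd_mul_left (Nat.dvd_of_mul_dvd_mul_left (by omega) hdvd))
  have he_le : 2 * j + 3 ≤ h' + 1 := by
    have hd := Nat.le_of_dvd (by omega) (card_E_dvd hZ hab)
    rw [← he, hn, hj] at hd
    omega
  nlinarith

/-- If `|Ω|` is odd each point is fixed by exactly `|G_{a,b}|` involutions. -/
theorem card_involutions_fixing [IsSimpleGroup G] {a b : Ω} (hab : a ≠ b)
    (hodd : Odd (Nat.card (stabilizer G a ⊓ stabilizer G b : Subgroup G)))
    (hn : Odd (Fintype.card Ω)) (c : Ω) :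
    Nat.card {x : {x : G // orderOf x = 2} // (x : G) • c = c}
      = Nat.card (stabilizer G a ⊓ stabilizer G b : Subgroup G) := by
  classical
  haveI := Fintype.ofFinite G
  have hev := Nat.not_even_iff_odd.mpr hn
  have htr := pretransitive hZ
  have hconst : ∀ d : Ω, Nat.card {x : {x : G // orderOf x = 2} // (x : G) • d = d}
      = Nat.card {x : {x : G // orderOf x = 2} // (x : G) • c = c} := by
    intro d
    obtain ⟨t, rfl⟩ := MulAction.exists_smul_eq G c d
    refine (Nat.card_congr (Equiv.subtypeEquiv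
      (Equiv.subtypeEquiv (MulAut.conj t).toEquiv fun x => ?_) fun x => ?_)).symm
    · show orderOf x = 2 ↔ orderOf (t * x * t⁻¹) = 2
      rw [show orderOf (t * x * t⁻¹) = orderOf x from (MulAut.conj t).orderOf_eq x]
    · show (x : G) • c = c ↔ (t * (x : G) * t⁻¹) • (t • c) = t • c
      rw [mul_smul, mul_smul, inv_smul_smul, smul_left_cancel_iff]
  have hsum : Nat.card {x : G // orderOf x = 2}
      = Fintype.card Ω * Nat.card {x : {x : G // orderOf x = 2} // (x : G) • c = c} := by
    have h1 : Nat.card (Σ d : Ω, {x : {x : G // orderOf x = 2} // (x : G) • d = d})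
        = Nat.card {x : G // orderOf x = 2} := by
      refine Nat.card_congr (Equiv.ofBijective (fun q => q.2.1) ⟨?_, fun x => ?_⟩)
      · rintro ⟨d, x, hx⟩ ⟨d', x', hx'⟩ (h : x = x')
        subst h
        obtain rfl := involution_fix_one hZ hab hodd x.2 hx hx'
        rfl
      · have h := card_moved hZ hab hodd x.2
        rw [if_neg hev] at h
        obtain ⟨⟨d, hd⟩⟩ : Nonempty {d : Ω // (x : G) • d = d} := (Nat.card_pos_iff.mp (by omega)).1
        exact ⟨⟨d, x, hd⟩, rfl⟩
    rw [← h1, Nat.card_sigma, Finset.sum_congr rfl fun d _ => hconst d, Finset.sum_const,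
      Finset.card_univ, smul_eq_mul]
  rw [card_involutions hZ hab hodd, if_neg hev] at hsum
  exact (Nat.eq_of_mul_eq_mul_left (by have := three_le_card hZ; omega) hsum).symm

/-- An involution fixing `a` commutes with every involution fixing `a`. -/
theorem involutions_commute [IsSimpleGroup G] {a b : Ω} (hab : a ≠ b)
    (hodd : Odd (Nat.card (stabilizer G a ⊓ stabilizer G b : Subgroup G))) (H : Subgroup G)
    (hHa : H ≤ stabilizer G a) (hHcard : Nat.card H + 1 = Fintype.card Ω)
    (hHfix : ∀ u ∈ H, u ≠ 1 → ∀ c : Ω, u • c = c → c = a) {x : G}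
    (hx : orderOf x = 2) (hxa : x • a = a) (u : G) (hu : u ∈ H) : u * x = x * u := by
  classical
  haveI := Fintype.ofFinite G
  set e := Nat.card (stabilizer G a ⊓ stabilizer G b : Subgroup G) with he
  have hn : Odd (Fintype.card Ω) := by
    rw [← Nat.not_even_iff_odd]
    intro hev
    have h := card_moved hZ hab hodd hx
    rw [if_pos hev] at h
    haveI : Nonempty {c : Ω // x • c = c} := ⟨⟨a, hxa⟩⟩
    exact (Nat.card_pos (α := {c : Ω // x • c = c})).ne' h
  set C := Subgroup.centralizer ({x} : Set G) with hC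
  have hCa : C ≤ stabilizer G a := fun g hg =>
    involution_fix_one hZ hab hodd hx (c := g • a) (d := a)
      (by rw [← mul_smul, ← Subgroup.mem_centralizer_singleton_iff.mp hg, mul_smul, hxa]) hxa
  have hCH : C ≤ H := by
    intro g hg
    rw [mem_kernel_iff hZ a H hHa hHcard hHfix]
    refine or_iff_not_imp_left.mpr fun hg1 => ⟨hCa hg, fun c hc => ?_⟩
    by_contra hca
    have h1 : g • x • c = x • c := by
      rw [← mul_smul, Subgroup.mem_centralizer_singleton_iff.mp hg, mul_smul, hc]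
    rcases fix_two hZ hg1 (Ne.symm hca) (hCa hg) hc h1 with h | h
    · exact hca (MulAction.injective x (h.trans hxa.symm))
    · exact hca (involution_fix_one hZ hab hodd hx h hxa)
  -- `[G_a : C] ≤ e`
  have hle : Nat.card H ≤ Nat.card C := by
    let J := {y : {y : G // orderOf y = 2} // (y : G) • a = a}
    let Φ : stabilizer G a → J := fun g =>
      ⟨⟨(g : G) * x * (g : G)⁻¹, ((MulAut.conj (g : G)).orderOf_eq x).trans hx⟩, by
        show ((g : G) * x * (g : G)⁻¹) • a = a
        rw [mul_smul, mul_smul, inv_smul_eq_iff.mpr (show (g : G) • a = a from g.2).symm, hxa,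
          show (g : G) • a = a from g.2]⟩
    have hfib : ∀ y : J, Nat.card {g : stabilizer G a // Φ g = y} ≤ Nat.card C := by
      intro y
      rcases isEmpty_or_nonempty {g : stabilizer G a // Φ g = y} with h | ⟨⟨g₀, hg₀⟩⟩
      · simp
      refine Nat.card_le_card_of_injective (fun g => (⟨(g₀ : G)⁻¹ * (g.1 : G), ?_⟩ : C))
        fun g g' h => Subtype.ext (Subtype.ext (mul_left_cancel (congrArg Subtype.val h)))
      refine Subgroup.mem_centralizer_singleton_iff.mpr ?_
      have h1 : (g.1 : G) * x * (g.1 : G)⁻¹ = (g₀ : G) * x * (g₀ : G)⁻¹ :=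
        congrArg (fun y : J => ((y.1 : {y : G // orderOf y = 2}) : G)) (g.2.trans hg₀.symm)
      calc (g₀ : G)⁻¹ * (g.1 : G) * x = (g₀ : G)⁻¹ * ((g.1 : G) * x * (g.1 : G)⁻¹) * g.1 := by group
        _ = x * ((g₀ : G)⁻¹ * (g.1 : G)) := by rw [h1]; group
    have h1 : Nat.card (stabilizer G a) ≤ Nat.card J * Nat.card C := by
      rw [Nat.card_congr (Equiv.sigmaFiberEquiv Φ).symm, Nat.card_sigma]
      calc ∑ y : J, Nat.card {g : stabilizer G a // Φ g = y} ≤ ∑ _y : J, Nat.card C :=
            Finset.sum_le_sum fun y _ => hfib y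
        _ = Nat.card J * Nat.card C := by
            rw [Finset.sum_const, Finset.card_univ, smul_eq_mul, Nat.card_eq_fintype_card (α := J)]
    rw [card_stab hZ hab, ← he, card_involutions_fixing hZ hab hodd hn a, ← he] at h1
    have hpos : 0 < e := Nat.card_pos
    have h2 : Fintype.card Ω - 1 ≤ Nat.card C :=
      Nat.le_of_mul_le_mul_left (by rw [mul_comm e]; exact h1) hpos
    omega
  rw [← Subgroup.eq_of_le_of_card_ge hCH hle] at hu
  exact Subgroup.mem_centralizer_singleton_iff.mp hu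

omit hZ in
theorem inverts_fix {x g : G} (hxx : x * x = 1) (hinv : x * g * x⁻¹ = g⁻¹) {c : Ω} (hc : g • c = c) :
    g • x • c = x • c := by
  have hx : x⁻¹ = x := inv_eq_of_mul_eq_one_right hxx
  have h : g * x = x * g⁻¹ := by
    rw [← hinv, hx, ← mul_assoc, ← mul_assoc, hxx, one_mul]
  rw [← mul_smul, h, mul_smul, inv_smul_eq_iff.mpr hc.symm]

/-- The elements of `H`, as products of two involutions, are involutions. -/
theorem kernel_strongly_real [IsSimpleGroup G] {a b : Ω} (hab : a ≠ b)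
    (hodd : Odd (Nat.card (stabilizer G a ⊓ stabilizer G b : Subgroup G))) (H : Subgroup G)
    (hHa : H ≤ stabilizer G a) (hHcard : Nat.card H + 1 = Fintype.card Ω)
    (hHfix : ∀ u ∈ H, u ≠ 1 → ∀ c : Ω, u • c = c → c = a) {u x y : G} (hu : u ∈ H) (hu1 : u ≠ 1)
    (hx : orderOf x = 2) (hy : orderOf y = 2) (hxy : x * y = u) : orderOf u = 2 := by
  have hxx : x * x = 1 := by rw [← pow_two, ← hx, pow_orderOf_eq_one]
  have hyy : y * y = 1 := by rw [← pow_two, ← hy, pow_orderOf_eq_one]
  have hinv : x * u * x⁻¹ = u⁻¹ := by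
    rw [← hxy, inv_eq_of_mul_eq_one_right hxx, mul_inv_rev, inv_eq_of_mul_eq_one_right hxx,
      inv_eq_of_mul_eq_one_right hyy, ← mul_assoc, hxx, one_mul]
  have hxa : x • a = a := hHfix u hu hu1 _ (inverts_fix hxx hinv (hHa hu))
  have hcom := involutions_commute hZ hab hodd H hHa hHcard hHfix hx hxa u hu
  have h2 : u⁻¹ = u := by rw [← hinv, ← hcom, mul_inv_cancel_right]
  exact orderOf_eq_prime (by rw [pow_two]; exact inv_eq_iff_mul_eq_one.mp h2) hu1

/-- At least `|G_{a,b}|` classes consist of elements that are `≠ 1` and fix `0` or `2` points. -/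
theorem classes_avoiding_fixesOne [IsSimpleGroup G] {a b : Ω} (hab : a ≠ b)
    (hodd : Odd (Nat.card (stabilizer G a ⊓ stabilizer G b : Subgroup G)))
    (hlt : Nat.card (stabilizer G a ⊓ stabilizer G b : Subgroup G) + 1 < Fintype.card Ω) :
    Nat.card (stabilizer G a ⊓ stabilizer G b : Subgroup G) ≤
      Nat.card {C : ConjClasses G //
        ∀ g : G, ConjClasses.mk g = C → g ≠ 1 ∧ ¬ FixesOne Ω g} := by
  classical
  haveI := Fintype.ofFinite G
  set e := Nat.card (stabilizer G a ⊓ stabilizer G b : Subgroup G) with he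
  let Inv := {x : G // orderOf x = 2}
  set I := Nat.card Inv with hI
  let A : G → ℕ := fun g => Nat.card {x : Inv // orderOf ((x : G) * g) = 2}
  have hxx : ∀ x : Inv, (x : G) * x = 1 := fun x => by
    have h := pow_orderOf_eq_one (x : G)
    rwa [x.2, pow_two] at h
  have hinv : ∀ (x : Inv) (g : G), orderOf ((x : G) * g) = 2 → (x : G) * g * (x : G)⁻¹ = g⁻¹ := by
    intro x g hg
    have h1 : (x : G) * g * ((x : G) * g) = 1 := by
      have h := pow_orderOf_eq_one ((x : G) * g)
      rwa [hg, pow_two] at h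
    rw [inv_eq_of_mul_eq_one_right (hxx x)]
    exact eq_inv_of_mul_eq_one_left (by rw [mul_assoc ((x : G) * g)]; exact h1)
  -- count the pairs of distinct involutions
  have htotal : ∑ g ∈ Finset.univ.erase (1 : G), A g = I * (I - 1) := by
    have h1 : ∑ g : G, A g = I * I := by
      show ∑ g : G, Nat.card {x : Inv // orderOf ((x : G) * g) = 2} = I * I
      rw [← Nat.card_sigma]
      rw [hI, ← Nat.card_prod]
      exact Nat.card_congr
        { toFun := fun q => (q.2.1, ⟨(q.2.1 : G) * q.1, q.2.2⟩)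
          invFun := fun w => ⟨(w.1 : G)⁻¹ * w.2, w.1, by rw [mul_inv_cancel_left]; exact w.2.2⟩
          left_inv := fun q => by
            obtain ⟨g, x, hx⟩ := q
            have hg : (x : G)⁻¹ * ((x : G) * g) = g := inv_mul_cancel_left _ _
            exact Sigma.subtype_ext hg rfl
          right_inv := fun w => Prod.ext rfl (Subtype.ext (mul_inv_cancel_left _ _)) }
    have h2 : A 1 = I := by
      show Nat.card {x : Inv // orderOf ((x : G) * 1) = 2} = I
      exact Nat.card_congr (Equiv.subtypeUnivEquiv fun x => by rw [mul_one]; exact x.2)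
    rw [← Finset.add_sum_erase _ _ (Finset.mem_univ (1 : G)), h2] at h1
    rw [Nat.mul_sub_one]
    omega
  -- elements fixing two points
  have htwo : ∀ g : G, FixesTwo Ω g → A g ≤ e := by
    rintro g ⟨hg, p, q, hpq, hp, hq⟩
    rw [he, card_E_congr hZ hab hpq, ← card_swappers hZ hpq]
    refine Nat.card_le_card_of_injective (fun x => ⟨(x.1 : G), ?_⟩)
      fun x y h => Subtype.ext (Subtype.ext (congrArg (fun s : {s : G // _} => (s : G)) h))
    have hxi := hinv x.1 g x.2
    rcases fix_two hZ hg hpq hp hq (inverts_fix (hxx x.1) hxi hp) with h1 | h1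
    · exfalso
      rcases fix_two hZ hg hpq hp hq (inverts_fix (hxx x.1) hxi hq) with h2 | h2
      · exact hpq (MulAction.injective (x.1 : G) (h1.trans h2.symm))
      · exact hpq (involution_fix_one hZ hab hodd x.1.2 h1 h2)
    · exact ⟨h1, by rw [← h1, ← mul_smul, hxx, one_smul]⟩
  -- fixed-point-free elements
  have hfpf : ∀ g : G, A g ≤ Nat.card (Subgroup.centralizer ({g} : Set G)) := by
    intro g
    rcases isEmpty_or_nonempty {x : Inv // orderOf ((x : G) * g) = 2} with h | ⟨⟨x₀, hx₀⟩⟩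
    · show Nat.card {x : Inv // orderOf ((x : G) * g) = 2} ≤ _
      rw [Nat.card_of_isEmpty]
      exact Nat.zero_le _
    refine Nat.card_le_card_of_injective
      (fun x => (⟨(x₀ : G) * (x.1 : G), ?_⟩ : Subgroup.centralizer ({g} : Set G)))
      fun x y h => Subtype.ext (Subtype.ext (mul_left_cancel (congrArg Subtype.val h)))
    refine Subgroup.mem_centralizer_singleton_iff.mpr ?_
    have h1 := hinv x.1 g x.2
    have h2 := hinv x₀ g hx₀
    calc (x₀ : G) * (x.1 : G) * g = (x₀ : G) * ((x.1 : G) * g * (x.1 : G)⁻¹) * x.1 := by group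
      _ = (x₀ : G) * g⁻¹ * x.1 := by rw [h1]
      _ = ((x₀ : G) * g * (x₀ : G)⁻¹)⁻¹ * (x₀ : G) * x.1 := by group
      _ = g * ((x₀ : G) * (x.1 : G)) := by rw [h2, inv_inv, mul_assoc]
  -- elements fixing one point
  have hone : ∑ g ∈ Finset.univ.filter (fun g : G => FixesOne Ω g), A g
      ≤ if Even (Fintype.card Ω) then 0 else I * (e - 1) := by
    have key : ∀ (g : G), FixesOne Ω g → ∀ x : {x : Inv // orderOf ((x : G) * g) = 2},
        ∃ c : Ω, (x.1 : G) • c = c ∧ g • c = c := by
      rintro g ⟨c, hc, honly⟩ x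
      exact ⟨c, honly _ (inverts_fix (hxx x.1) (hinv x.1 g x.2) hc), hc⟩
    split_ifs with hev
    · refine Nat.le_of_eq (Finset.sum_eq_zero fun g hg => ?_)
      show Nat.card {x : Inv // orderOf ((x : G) * g) = 2} = 0
      haveI : IsEmpty {x : Inv // orderOf ((x : G) * g) = 2} := ⟨fun x => by
        obtain ⟨c, hxc, -⟩ := key g (Finset.mem_filter.mp hg).2 x
        have h := card_moved hZ hab hodd x.1.2
        rw [if_pos hev] at h
        haveI : Nonempty {d : Ω // (x.1 : G) • d = d} := ⟨⟨c, hxc⟩⟩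
        exact (Nat.card_pos (α := {d : Ω // (x.1 : G) • d = d})).ne' h⟩
      exact Nat.card_of_isEmpty
    · have hn := Nat.not_even_iff_odd.mp hev
      -- ordered pairs of distinct involutions with a common fixed point
      let S := Σ x : Inv, {y : Inv // y ≠ x ∧ ∃ c : Ω, (x : G) • c = c ∧ (y : G) • c = c}
      have hS : Nat.card S ≤ I * (e - 1) := by
        rw [Nat.card_sigma, hI, Nat.card_eq_fintype_card, ← Finset.card_univ, ← smul_eq_mul,
          ← Finset.sum_const]
        refine Finset.sum_le_sum fun x _ => ?_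
        rcases isEmpty_or_nonempty
          {y : Inv // y ≠ x ∧ ∃ c : Ω, (x : G) • c = c ∧ (y : G) • c = c} with h | ⟨⟨_, _, c, hxc, _⟩⟩
        · show Nat.card _ ≤ _
          rw [Nat.card_of_isEmpty]
          exact Nat.zero_le _
        rw [he, ← card_involutions_fixing hZ hab hodd hn c]
        have hcompl : Nat.card {y : {y : Inv // (y : G) • c = c} // y ≠ ⟨x, hxc⟩}
            = Nat.card {y : Inv // (y : G) • c = c} - 1 := by
          rw [Nat.card_eq_fintype_card, Nat.card_eq_fintype_card, Fintype.card_subtype_compl,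
            Fintype.card_subtype_eq]
        rw [← hcompl]
        refine Nat.card_le_card_of_injective (fun y => ⟨⟨y.1, ?_⟩, fun h => y.2.1
          (congrArg Subtype.val h)⟩) fun y y' h => Subtype.ext (congrArg (fun t => (t.1 : Inv))
            (Subtype.ext_iff.mp h))
        obtain ⟨-, d, hxd, hyd⟩ := y.2
        rwa [involution_fix_one hZ hab hodd x.2 hxd hxc] at hyd
      refine le_trans (le_of_eq ?_) (le_trans (Nat.card_le_card_of_injective
        (fun q : (Σ g : {g : G // FixesOne Ω g}, {x : Inv // orderOf ((x : G) * (g : G)) = 2}) =>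
          (⟨q.2.1, ⟨(q.2.1 : G) * q.1.1, q.2.2⟩, ?_, ?_⟩ : S)) ?_) hS)
      · rw [Nat.card_sigma]
        exact Finset.sum_subtype (p := fun g : G => FixesOne Ω g) _
          (fun g => Finset.mem_filter.trans (and_iff_right (Finset.mem_univ g))) (fun g => A g)
      · intro h
        have h' : (q.2.1 : G) * q.1.1 = q.2.1 := congrArg Subtype.val h
        obtain ⟨c, -, honly⟩ := q.1.2
        rw [mul_eq_left] at h'
        exact hab ((honly a (by rw [h', one_smul])).trans (honly b (by rw [h', one_smul])).symm)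
      · obtain ⟨c, hxc, hgc⟩ := key q.1.1 q.1.2 q.2
        exact ⟨c, hxc, by show ((q.2.1 : G) * q.1.1) • c = c; rw [mul_smul, hgc, hxc]⟩
      · rintro ⟨⟨g, hg⟩, x, hx⟩ ⟨⟨g', hg'⟩, x', hx'⟩ h
        simp only [Sigma.mk.injEq] at h
        obtain ⟨rfl, h⟩ := h
        have h2 : (x : G) * g = (x : G) * g' :=
          congrArg (fun t => ((t.1 : Inv) : G)) (eq_of_heq h)
        obtain rfl := mul_left_cancel h2
        rfl
  -- the classes of fixed-point-free elements
  let P := {C : ConjClasses G // ∀ g : G, ConjClasses.mk g = C → ∀ c : Ω, g • c ≠ c}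
  set k := Nat.card P with hk
  have hFsum : ∑ g ∈ Finset.univ.filter (fun g : G => ∀ c : Ω, g • c ≠ c), A g ≤ k * Nat.card G := by
    rw [← Finset.sum_fiberwise_of_maps_to (g := ConjClasses.mk)
      (t := Finset.univ.filter fun C : ConjClasses G =>
        ∀ g : G, ConjClasses.mk g = C → ∀ c : Ω, g • c ≠ c) (fun g hg => by
      simp only [Finset.mem_filter, Finset.mem_univ, true_and] at hg ⊢
      intro g' hg' c hc
      obtain ⟨t, ht⟩ := isConj_iff.mp (ConjClasses.mk_eq_mk_iff_isConj.mp hg')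
      refine hg (t • c) ?_
      rw [← ht, mul_smul, mul_smul, inv_smul_smul, hc])]
    rw [hk, Nat.card_eq_fintype_card, Fintype.card_subtype, ← smul_eq_mul, ← Finset.sum_const]
    refine Finset.sum_le_sum fun C _ => ?_
    induction C using Quotient.inductionOn with
    | h c₀ =>
      refine le_trans (Finset.sum_le_card_nsmul _ _ (Nat.card (Subgroup.centralizer ({c₀} : Set G)))
        fun g hg => ?_) ?_
      · simp only [Finset.mem_filter] at hg
        obtain ⟨t, rfl⟩ := isConj_iff.mp (ConjClasses.mk_eq_mk_iff_isConj.mp hg.2).symm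
        refine (hfpf _).trans (le_of_eq (Nat.card_congr (Equiv.subtypeEquiv (MulAut.conj t).toEquiv
          fun x => ?_)).symm)
        simp only [Subgroup.mem_centralizer_singleton_iff, MulEquiv.toEquiv_eq_coe, EquivLike.coe_coe,
          MulAut.conj_apply]
        constructor
        · intro hx
          calc t * x * t⁻¹ * (t * c₀ * t⁻¹) = t * (x * c₀) * t⁻¹ := by group
            _ = t * (c₀ * x) * t⁻¹ := by rw [hx]
            _ = _ := by group
        · intro hx
          calc x * c₀ = t⁻¹ * (t * x * t⁻¹ * (t * c₀ * t⁻¹)) * t := by group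
            _ = t⁻¹ * (t * c₀ * t⁻¹ * (t * x * t⁻¹)) * t := by rw [hx]
            _ = c₀ * x := by group
      · rw [smul_eq_mul]
        calc _ ≤ (Subgroup.centralizer ({c₀} : Set G)).index
              * Nat.card (Subgroup.centralizer ({c₀} : Set G)) := by
              refine Nat.mul_le_mul_right _ ?_
              rw [← CfsgLib.CharTheory.card_isConj, Nat.card_eq_fintype_card, Fintype.card_subtype]
              refine Finset.card_le_card fun g hg => ?_
              simp only [Finset.mem_filter, Finset.mem_univ, true_and] at hg ⊢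
              exact (ConjClasses.mk_eq_mk_iff_isConj.mp hg.2).symm
          _ = Nat.card G := Subgroup.index_mul_card _
  -- assemble
  have hbound : I * (I - 1) ≤ (if Even (Fintype.card Ω) then 0 else I * (e - 1))
      + e * Nat.card {g : G // FixesTwo Ω g} + k * Nat.card G := by
    rw [← htotal]
    have hsplit : ∑ g ∈ Finset.univ.erase (1 : G), A g
        ≤ ∑ g ∈ Finset.univ.filter (fun g : G => FixesOne Ω g), A g
          + ∑ g ∈ Finset.univ.filter (fun g : G => FixesTwo Ω g), A g
          + ∑ g ∈ Finset.univ.filter (fun g : G => ∀ c : Ω, g • c ≠ c), A g := by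
      rw [Finset.sum_filter, Finset.sum_filter, Finset.sum_filter, ← Finset.sum_add_distrib,
        ← Finset.sum_add_distrib]
      refine le_trans (Finset.sum_le_sum fun g hg => ?_)
        (Finset.sum_le_sum_of_subset_of_nonneg (Finset.erase_subset _ _) fun g _ _ => Nat.zero_le _)
      have hg1 : g ≠ 1 := (Finset.mem_erase.mp hg).1
      by_cases h0 : ∀ c : Ω, g • c ≠ c
      · rw [if_pos h0]; omega
      by_cases h1 : FixesOne Ω g
      · rw [if_pos h1]; omega
      have h2 : FixesTwo Ω g := by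
        push Not at h0
        obtain ⟨c, hc⟩ := h0
        by_contra h2
        exact h1 ⟨c, hc, fun d hd => by_contra fun hne => h2 ⟨hg1, d, c, hne, hd, hc⟩⟩
      rw [if_pos h2]; omega
    have h2sum : ∑ g ∈ Finset.univ.filter (fun g : G => FixesTwo Ω g), A g
        ≤ e * Nat.card {g : G // FixesTwo Ω g} := by
      rw [Nat.card_eq_fintype_card, Fintype.card_subtype, mul_comm, ← smul_eq_mul]
      exact Finset.sum_le_card_nsmul _ _ _ fun g hg => htwo g (Finset.mem_filter.mp hg).2
    omega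
  have hIval : I = (if Even (Fintype.card Ω) then Fintype.card Ω - 1 else Fintype.card Ω) * e :=
    card_involutions hZ hab hodd
  have hGcard := card_group hZ hab
  have hC2 := card_fixesTwo hZ hab
  rw [← he] at hGcard hC2
  have h3 := three_le_card hZ
  obtain ⟨h, hn⟩ : ∃ h, Fintype.card Ω = h + 1 := ⟨Fintype.card Ω - 1, by omega⟩
  obtain ⟨j, hj⟩ := hodd
  have hkj : j + 1 ≤ k := by
    by_contra hcon
    push Not at hcon
    rw [hn, Nat.add_sub_cancel] at hC2 hGcard hIval
    rw [hn] at hbound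
    rw [show e - 1 = 2 * j by omega] at hC2 hbound
    obtain ⟨d, rfl⟩ : ∃ d, h = e + 1 + d := ⟨h - e - 1, by omega⟩
    rw [hGcard] at hbound
    have hle : k * ((e + 1 + d + 1) * ((e + 1 + d) * e)) ≤ j * ((e + 1 + d + 1) * ((e + 1 + d) * e)) :=
      Nat.mul_le_mul_right _ (by omega)
    have hC2' : e * Nat.card {g : G // FixesTwo Ω g} = e * ((e + 1 + d + 1) * (e + 1 + d) * j) := by
      congr 1
      linarith
    by_cases hev : Even (e + 1 + d + 1)
    · rw [if_pos hev] at hbound hIval
      obtain ⟨I', hI'⟩ : ∃ I', I = I' + 1 := ⟨I - 1, by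
        rw [hIval]
        have : 0 < (e + 1 + d) * e := by rw [hj]; positivity
        omega⟩
      rw [hI', Nat.add_sub_cancel] at hbound
      rw [hI'] at hIval
      rw [hj] at hIval hle hC2' hbound
      nlinarith
    · rw [if_neg hev] at hbound hIval
      obtain ⟨I', hI'⟩ : ∃ I', I = I' + 1 := ⟨I - 1, by
        rw [hIval]
        have : 0 < (e + 1 + d + 1) * e := by rw [hj]; positivity
        omega⟩
      rw [hI', Nat.add_sub_cancel] at hbound
      rw [hI'] at hIval
      rw [hj] at hIval hle hC2' hbound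
      nlinarith
  -- classes meeting `G_{a,b}`
  set E := (stabilizer G a ⊓ stabilizer G b : Subgroup G) with hE
  haveI := Fintype.ofFinite E
  let Q := {C : ConjClasses G // ∀ g : G, ConjClasses.mk g = C → FixesTwo Ω g}
  have hQ : j ≤ Nat.card Q := by
    let Ψ : {x : E // x ≠ 1} → Q := fun x => ⟨ConjClasses.mk (x.1 : G), fun g hg => by
      obtain ⟨t, rfl⟩ := isConj_iff.mp (ConjClasses.mk_eq_mk_iff_isConj.mp hg).symm
      refine ⟨fun h => x.2 (Subtype.ext (conj_eq_one_iff.mp h)), t • a, t • b,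
        fun h => hab (MulAction.injective t h), ?_, ?_⟩
      · rw [mul_smul, mul_smul, inv_smul_smul, show (x.1 : G) • a = a from x.1.2.1]
      · rw [mul_smul, mul_smul, inv_smul_smul, show (x.1 : G) • b = b from x.1.2.2]⟩
    have hfib : ∀ q : Q, (Finset.univ.filter fun x => Ψ x = q).card ≤ 2 := by
      intro q
      rcases (Finset.univ.filter fun x => Ψ x = q).eq_empty_or_nonempty with h | ⟨x₀, hx₀⟩
      · simp [h]
      have hinvmem : (x₀.1⁻¹ : E) ≠ 1 := inv_ne_one.mpr x₀.2
      refine le_trans (Finset.card_le_card (t := {x₀, ⟨x₀.1⁻¹, hinvmem⟩}) fun x hx => ?_) Finset.card_le_two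
      have h : IsConj (x₀.1 : G) (x.1 : G) := ConjClasses.mk_eq_mk_iff_isConj.mp
        (congrArg Subtype.val ((Finset.mem_filter.mp hx₀).2.trans (Finset.mem_filter.mp hx).2.symm))
      obtain ⟨t, ht⟩ := isConj_iff.mp h
      have hx1 : (x₀.1 : G) ≠ 1 := fun h => x₀.2 (Subtype.ext h)
      rw [Finset.mem_insert, Finset.mem_singleton]
      rcases fusion hZ hab hx1 x₀.1.2.1 x₀.1.2.2 (ht ▸ x.1.2.1) (ht ▸ x.1.2.2) with ⟨hta, htb⟩ | ⟨hta, htb⟩
      · left
        obtain ⟨s, hsa, hsb⟩ := exists_swapper hZ hab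
        -- `E` is abelian, being inverted
        have hts : (t * s) • a = b ∧ (t * s) • b = a :=
          ⟨by rw [mul_smul, hsa, htb], by rw [mul_smul, hsb, hta]⟩
        have e1 := swap_inverts hZ hab (he ▸ ⟨j, hj⟩) hts.1 hts.2 x₀.1.2.1 x₀.1.2.2
        have e2 := swap_inverts hZ hab (he ▸ ⟨j, hj⟩) hsa hsb x₀.1.2.1 x₀.1.2.2
        refine Subtype.ext (Subtype.ext ?_)
        rw [← ht]
        have e3 : t * (s * (x₀.1 : G) * s⁻¹) * t⁻¹ = (x₀.1 : G)⁻¹ := by rw [← e1]; group
        rw [e2] at e3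
        calc t * (x₀.1 : G) * t⁻¹ = (t * (x₀.1 : G)⁻¹ * t⁻¹)⁻¹ := by group
          _ = _ := by rw [e3, inv_inv]
      · right
        refine Subtype.ext (Subtype.ext ?_)
        rw [← ht]
        exact swap_inverts hZ hab (he ▸ ⟨j, hj⟩) hta htb x₀.1.2.1 x₀.1.2.2
    have hcard : Fintype.card {x : E // x ≠ 1} = 2 * j := by
      rw [Fintype.card_subtype_compl, Fintype.card_subtype_eq, ← Nat.card_eq_fintype_card, ← he, hj]
      omega
    have := Finset.card_le_mul_card_image_of_maps_to (f := Ψ) (s := Finset.univ) (t := Finset.univ)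
      (fun _ _ => Finset.mem_univ _) 2 fun q _ => hfib q
    rw [Finset.card_univ, Finset.card_univ, hcard] at this
    rw [Nat.card_eq_fintype_card]
    omega
  have hunion : Nat.card P + Nat.card Q ≤ Nat.card {C : ConjClasses G //
      ∀ g : G, ConjClasses.mk g = C → g ≠ 1 ∧ ¬ FixesOne Ω g} := by
    rw [← Nat.card_sum]
    refine Nat.card_le_card_of_injective (Sum.elim
      (fun C => ⟨C.1, fun g hg => ⟨fun h1 => C.2 g hg a (by rw [h1, one_smul]),
        fun ⟨c, hc, _⟩ => C.2 g hg c hc⟩⟩)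
      (fun C => ⟨C.1, fun g hg => ⟨(C.2 g hg).1, fun ⟨c, _, honly⟩ => by
        obtain ⟨-, p, q, hpq, hp, hq⟩ := C.2 g hg
        exact hpq ((honly p hp).trans (honly q hq).symm)⟩⟩)) ?_
    rintro (C | C) (D | D) h
    · exact congrArg Sum.inl (Subtype.ext (congrArg Subtype.val h :))
    · exfalso
      have hCD : C.1 = D.1 := congrArg Subtype.val h
      obtain ⟨g, hg⟩ := ConjClasses.exists_rep C.1
      obtain ⟨-, p, q, -, hp, -⟩ := D.2 g (hg.trans hCD)
      exact C.2 g hg p hp
    · exfalso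
      have hCD : C.1 = D.1 := congrArg Subtype.val h
      obtain ⟨g, hg⟩ := ConjClasses.exists_rep C.1
      obtain ⟨-, p, q, -, hp, -⟩ := C.2 g hg
      exact D.2 g (hg.trans hCD) p hp
    · exact congrArg Sum.inr (Subtype.ext (congrArg Subtype.val h :))
  omega

end CfsgLib.RealChar.Zassenhaus
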