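import Cfsg.Agent.Lib.RealChar.ZassenhausOdd
import Cfsg.Agent.Lib.Frobenius.Induce
import Cfsg.Agent.Lib.CharTheory.Decomp
import Cfsg.Agent.Lib.CharTheory.Linear

/-!
# Induced linear characters in Zassenhaus groups with two-point stabilisers of odd order
-/

set_option autoImplicit false
set_option linter.unusedSectionVars false
set_option linter.style.haveILetI false

open MulAction
open scoped ComplexConjugate

namespace CfsgLib.RealChar.Zassenhaus

variable {G Ω : Type*} [Group G] [MulAction G Ω] [Fintype G] [Fintype Ω]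
variable (hZ : Cfsg.IsZassenhausGroup G Ω)

include hZ

/-- The values on `G_a` of a linear character of `G_a` induced to `G`. -/
theorem indFun_linear_apply [IsSimpleGroup G] {a b : Ω} (hab : a ≠ b)
    (hodd : Odd (Nat.card (stabilizer G a ⊓ stabilizer G b : Subgroup G)))
    (f : stabilizer G a →* ℂˣ) (x : stabilizer G a) :
    Cfsg.indFun (stabilizer G a) (fun y => (f y : ℂ)) (x : G)
      = (f x : ℂ) + (Nat.card {c : Ω // c ≠ a ∧ (x : G) • c = c} : ℂ) * (f x⁻¹ : ℂ) := by
  classical
  let θ : (stabilizer G a) → ℂ := fun y => (f y : ℂ)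
  have hconj : ∀ k y : (stabilizer G a), θ (k⁻¹ * y * k) = θ y := fun k y => by
    simp [θ, mul_comm]
  have hval : ∀ c : Ω, ∑ g ∈ Finset.univ.filter (fun g : G => g • a = c),
      Cfsg.extendByZero (stabilizer G a) θ (g⁻¹ * (x : G) * g)
      = (Nat.card (stabilizer G a) : ℂ) * (if c = a then θ x else if (x : G) • c = c then θ x⁻¹ else 0) := by
    intro c
    obtain ⟨t, ht⟩ : ∃ t : G, t • a = c := by
      haveI := pretransitive hZ
      exact MulAction.exists_smul_eq G a c
    have hcardfib : (Finset.univ.filter (fun g : G => g • a = c)).card = Nat.card (stabilizer G a) := by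
      rw [← Fintype.card_subtype, ← Nat.card_eq_fintype_card]
      exact (Nat.card_congr
        { toFun := fun k : (stabilizer G a) => (⟨t * k, by rw [mul_smul, k.2, ht]⟩ : {g : G // g • a = c})
          invFun := fun g => ⟨t⁻¹ * g.1, by
            show (t⁻¹ * g.1) • a = a
            rw [mul_smul, g.2, inv_smul_eq_iff, ht]⟩
          left_inv := fun k => Subtype.ext (inv_mul_cancel_left t _)
          right_inv := fun g => Subtype.ext (mul_inv_cancel_left t _) }).symm
    rw [← hcardfib, ← nsmul_eq_mul, ← Finset.sum_const]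
    refine Finset.sum_congr rfl fun g hg => ?_
    have hga : g • a = c := (Finset.mem_filter.mp hg).2
    by_cases hca : c = a
    · rw [if_pos hca]
      have hgN : g ∈ (stabilizer G a) := mem_stabilizer_iff.mpr (hga.trans hca)
      rw [show g⁻¹ * (x : G) * g = ((⟨g, hgN⟩⁻¹ * x * ⟨g, hgN⟩ : (stabilizer G a)) : G) from rfl,
        CfsgLib.Frobenius.extendByZero_coe, hconj]
    rw [if_neg hca]
    by_cases hxc : (x : G) • c = c
    · rw [if_pos hxc]
      obtain ⟨s, hsa, hsc⟩ := exists_swapper hZ (Ne.symm hca)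
      have hk : s⁻¹ * g ∈ (stabilizer G a) := by
        rw [mem_stabilizer_iff, mul_smul, hga, inv_smul_eq_iff, hsa]
      have hinv := swap_inverts hZ (Ne.symm hca) (card_E_congr hZ hab (Ne.symm hca) ▸ hodd)
        (s := s⁻¹) (inv_smul_eq_iff.mpr hsc.symm) (inv_smul_eq_iff.mpr hsa.symm) x.2 hxc
      rw [inv_inv] at hinv
      have h1 : g⁻¹ * (x : G) * g
          = ((⟨s⁻¹ * g, hk⟩⁻¹ * x⁻¹ * ⟨s⁻¹ * g, hk⟩ : (stabilizer G a)) : G) := by
        rw [Subgroup.coe_mul, Subgroup.coe_mul, InvMemClass.coe_inv, InvMemClass.coe_inv, ← hinv]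
        show _ = (s⁻¹ * g)⁻¹ * (s⁻¹ * (x : G) * s) * (s⁻¹ * g)
        group
      rw [h1, CfsgLib.Frobenius.extendByZero_coe, hconj]
    · rw [if_neg hxc]
      refine CfsgLib.Frobenius.extendByZero_of_not_mem (stabilizer G a) θ fun h => hxc ?_
      have h' : (g⁻¹ * (x : G) * g) • a = a := h
      rwa [mul_smul, mul_smul, hga, inv_smul_eq_iff, hga] at h'
  show (Nat.card (stabilizer G a) : ℂ)⁻¹ * ∑ g : G, Cfsg.extendByZero (stabilizer G a) θ (g⁻¹ * (x : G) * g) = _
  rw [← Finset.sum_fiberwise Finset.univ (fun g : G => g • a)]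
  simp only [hval, ← Finset.mul_sum]
  rw [← mul_assoc, inv_mul_cancel₀ (Nat.cast_ne_zero.mpr Nat.card_pos.ne'), one_mul,
    Fintype.sum_eq_add_sum_compl a, if_pos rfl]
  congr 1
  rw [Finset.sum_congr rfl (g := fun c => if (x : G) • c = c then θ x⁻¹ else 0) fun c hc =>
    if_neg (by simpa using hc), ← Finset.sum_filter, Finset.sum_const, nsmul_eq_mul]
  congr 2
  rw [Nat.card_eq_fintype_card, Fintype.card_subtype]
  congr 1
  ext c
  simp

/-- The induced character has norm `1`. -/
theorem classInner_indFun_linear [IsSimpleGroup G] {a b : Ω} (hab : a ≠ b)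
    (hodd : Odd (Nat.card (stabilizer G a ⊓ stabilizer G b : Subgroup G))) (H : Subgroup G)
    (hHa : H ≤ stabilizer G a) (hHcard : Nat.card H + 1 = Fintype.card Ω)
    (hHfix : ∀ u ∈ H, u ≠ 1 → ∀ c : Ω, u • c = c → c = a)
    (f : stabilizer G a →* ℂˣ) (hfH : ∀ u : stabilizer G a, (u : G) ∈ H → f u = 1) (hf : f ≠ 1) :
    Cfsg.classInner (Cfsg.indFun (stabilizer G a) fun y => (f y : ℂ))
      (Cfsg.indFun (stabilizer G a) fun y => (f y : ℂ)) = 1 := by
  classical
  haveI := Fintype.ofFinite (stabilizer G a)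
  rw [CfsgLib.Frobenius.classInner_indFun (stabilizer G a) _ _ (CfsgLib.Frobenius.indFun_isClassFunction (stabilizer G a) _)]
  simp only [Cfsg.classInner, indFun_linear_apply hZ hab hodd f]
  have hconj : ∀ x : (stabilizer G a), conj (f x : ℂ) = (f x⁻¹ : ℂ) := fun x => by
    have hfin : IsOfFinOrder x := isOfFinOrder_of_finite x
    have h1 : (f x : ℂ) ^ orderOf x = 1 := by
      rw [← Units.val_pow_eq_pow_val, ← map_pow, pow_orderOf_eq_one, map_one, Units.val_one]
    have h2 : ‖(f x : ℂ)‖ = 1 := Complex.norm_eq_one_of_pow_eq_one h1 hfin.orderOf_pos.ne'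
    rw [map_inv, Units.val_inv_eq_inv_val, ← Complex.inv_eq_conj h2]
  have hterm : ∀ x : (stabilizer G a), (f x : ℂ) * conj ((f x : ℂ)
      + (Nat.card {c : Ω // c ≠ a ∧ (x : G) • c = c} : ℂ) * (f x⁻¹ : ℂ))
      = 1 + ∑ c ∈ Finset.univ.filter (fun c : Ω => c ≠ a),
          if (x : G) • c = c then (f x : ℂ) ^ 2 else 0 := by
    intro x
    rw [← Finset.sum_filter, Finset.filter_filter, Finset.sum_const, nsmul_eq_mul, map_add,
      map_mul, map_natCast, hconj, hconj, inv_inv, mul_add, ← Units.val_mul, ← map_mul,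
      mul_inv_cancel, map_one, Units.val_one, Nat.card_eq_fintype_card, Fintype.card_subtype]
    ring
  rw [Finset.sum_congr rfl fun x _ => hterm x, Finset.sum_add_distrib, Finset.sum_comm,
    Finset.sum_eq_zero (s := Finset.univ.filter fun c : Ω => c ≠ a), add_zero, Finset.sum_const,
    Finset.card_univ, nsmul_eq_mul, mul_one, ← Nat.card_eq_fintype_card,
    inv_mul_cancel₀ (Nat.cast_ne_zero.mpr Nat.card_pos.ne')]
  intro c hc
  have hca : a ≠ c := Ne.symm (Finset.mem_filter.mp hc).2
  let E : Subgroup (stabilizer G a) := (stabilizer G c).subgroupOf (stabilizer G a)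
  have hE : ∀ x : (stabilizer G a), x ∈ E ↔ (x : G) • c = c := fun x => Iff.rfl
  rw [← Finset.sum_filter, Finset.sum_subtype (p := fun x : (stabilizer G a) => x ∈ E) _
    (fun x => by simp [hE]) (fun x : (stabilizer G a) => (f x : ℂ) ^ 2)]
  have hEcard : Nat.card E = Nat.card (stabilizer G a ⊓ stabilizer G b : Subgroup G) := by
    rw [card_E_congr hZ hab hca]
    exact Nat.card_congr
      { toFun := fun x => (⟨x.1.1, x.1.2, x.2⟩ : (stabilizer G a ⊓ stabilizer G c : Subgroup G))
        invFun := fun x => ⟨⟨x.1, x.2.1⟩, x.2.2⟩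
        left_inv := fun _ => rfl
        right_inv := fun _ => rfl }
  let φ : E →* ℂ := ((Units.coeHom ℂ).comp (f.comp E.subtype)) ^ 2
  refine (sum_hom_units_eq_zero φ fun hφ => hf ?_ : ∑ x : E, φ x = 0)
  -- `f` is trivial on `H` and on `E`
  have hfE : ∀ x : E, f x = 1 := by
    intro x
    have h1 : (f x : ℂ) ^ 2 = 1 := DFunLike.congr_fun hφ x
    have h1' : (f x) ^ 2 = 1 := Units.ext (by rw [Units.val_pow_eq_pow_val, h1, Units.val_one])
    have h2 : (f x) ^ Nat.card E = 1 := by
      rw [← map_pow, ← SubgroupClass.coe_pow, pow_card_eq_one', OneMemClass.coe_one, map_one]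
    have h3 := pow_gcd_eq_one.mpr ⟨h1', h2⟩
    rwa [show Nat.gcd 2 (Nat.card E) = 1 from Nat.Coprime.gcd_eq_one
      ((Nat.prime_two.coprime_iff_not_dvd).mpr fun h =>
        Nat.not_even_iff_odd.mpr (hEcard ▸ hodd) (even_iff_two_dvd.mpr h)), pow_one] at h3
  let K := H.subgroupOf (stabilizer G a)
  have hcompl : Disjoint K E := by
    rw [Subgroup.disjoint_def]
    intro x hxK hxE
    by_contra hx
    exact hca (hHfix x hxK (fun h => hx (Subtype.ext h)) c hxE).symm
  have hcard : Nat.card (stabilizer G a) ≤ Nat.card K * Nat.card E := by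
    rw [Nat.card_congr (Subgroup.subgroupOfEquivOfLe hHa).toEquiv, hEcard, card_stab hZ hab,
      show Fintype.card Ω - 1 = Nat.card H by omega]
  have hinj : Function.Injective fun q : K × E => (q.1 : (stabilizer G a)) * (q.2 : (stabilizer G a)) :=
    Subgroup.mul_injective_of_disjoint hcompl
  have hsurj : Function.Surjective fun q : K × E => (q.1 : (stabilizer G a)) * (q.2 : (stabilizer G a)) := by
    refine ((Fintype.bijective_iff_injective_and_card _).mpr ⟨hinj, le_antisymm ?_ ?_⟩).2
    · exact Fintype.card_le_of_injective _ hinj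
    · simpa [Fintype.card_prod, ← Nat.card_eq_fintype_card] using hcard
  refine MonoidHom.ext fun x => ?_
  obtain ⟨⟨k, y⟩, rfl⟩ := hsurj x
  show f ((k : (stabilizer G a)) * (y : (stabilizer G a))) = 1
  rw [map_mul, hfH _ k.2, hfE, one_mul]

end CfsgLib.RealChar.Zassenhaus
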